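import Cfsg.Agent.Lib.Leech.Stab

set_option autoImplicit false

namespace Cfsg.Agent.Leech
open Cfsg
open scoped symmDiff

theorem card_symmDiff_add (P O : Finset GolayPt) : (P ∆ O).card + 2 * (P ∩ O).card = P.card + O.card := by
  rw [Finset.symmDiff_def, Finset.card_union_of_disjoint (disjoint_sdiff_sdiff)]
  have h1 := Finset.card_sdiff_add_card_inter P O
  have h2 := Finset.card_sdiff_add_card_inter O P
  rw [Finset.inter_comm O P] at h2
  omega

theorem exists_octad_reduce {P : Finset GolayPt} (h : 5 ≤ P.card) :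
    ∃ O, InC O ∧ O.card = 8 ∧ (P ∆ O).card < P.card := by
  obtain ⟨S, hSP, hS⟩ := Finset.exists_subset_card_eq h
  obtain ⟨O, hO, hO8, hSO⟩ := InC_five hS
  refine ⟨O, hO, hO8, ?_⟩
  have := card_symmDiff_add P O
  have : 5 ≤ (P ∩ O).card := hS ▸ Finset.card_le_card (Finset.subset_inter hSP hSO)
  omega

/-- every set is congruent modulo the code to a set of at most four points -/
theorem exists_small_rep (P : Finset GolayPt) :
    ∃ h : Finset GolayPt, InC (P ∆ h) ∧ h.card ≤ 4 ∧ (Even h.card ↔ Even P.card) := by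
  induction hn : P.card using Nat.strong_induction_on generalizing P with
  | _ n ih =>
    by_cases h : P.card ≤ 4
    · exact ⟨P, by rw [symmDiff_self]; exact InC_empty, h, by rw [hn]⟩
    · obtain ⟨O, hO, hO8, hlt⟩ := exists_octad_reduce (P := P) (by omega)
      obtain ⟨h', hC, hc, hev⟩ := ih _ (hn ▸ hlt) (P ∆ O) rfl
      refine ⟨h', ?_, hc, hev.trans ?_⟩
      · have := InC_symmDiff hC hO
        rwa [symmDiff_right_comm (P ∆ O) h' O, symmDiff_assoc P O O, symmDiff_self,
          symmDiff_bot] at this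
      · have := card_symmDiff_add P O
        rw [Nat.even_iff, Nat.even_iff]; omega

theorem four_of_pat_empty {x : Vec} (h : LatM 0 x) (hp : pat 0 x = ∅) (i : GolayPt) : ∃ b, x i = 4 * b := by
  by_contra hc
  push Not at hc
  have : i ∈ pat 0 x := mem_pat.2 fun ⟨k, hk⟩ => hc k (by omega)
  simp [hp] at this

/-- short representative of a class of vectors divisible by four -/
theorem four_class {u : Vec} (hu : LatM 0 u) (hp : pat 0 u = ∅) (h0 : ¬ Cong u 0) :
    ∃ w, LatM 0 w ∧ pat 0 w = ∅ ∧ Cong u w ∧ (sqNorm w = 32 ∨ sqNorm w = 64) := by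
  choose b hb using four_of_pat_empty hu hp
  set P := Finset.univ.filter (fun i => ¬ (2 : ℤ) ∣ b i) with hP
  have hsum : ∑ i, u i = 4 * ∑ i, b i := by rw [Finset.mul_sum]; exact Finset.sum_congr rfl fun i _ => hb i
  have hbe : (2 : ℤ) ∣ ∑ i, b i := by have := hu.2.1; rw [hsum] at this; omega
  have hPe : (2 : ℤ) ∣ (P.card : ℤ) := by
    have h2 := sum_emod_eq Finset.univ b (fun i => if i ∈ P then (1 : ℤ) else 0) 2 (fun i _ => by
      by_cases hi : i ∈ P <;> simp only [hi, if_true, if_false] <;>
        simp only [hP, Finset.mem_filter, Finset.mem_univ, true_and, not_not] at hi <;> omega)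
    rw [sum_indicator, one_mul] at h2
    omega
  obtain ⟨h, hc, hh4, hev⟩ := exists_small_rep P
  have hhe : Even h.card := hev.2 (by rw [Nat.even_iff]; omega)
  have key : ∀ w : Vec, ∀ s : GolayPt → ℤ, (∀ i, w i = 4 * s i) → (∀ i, (2 : ℤ) ∣ s i ↔ i ∉ h) →
      (4 : ℤ) ∣ (∑ i, b i) - ∑ i, s i → LatM 0 w ∧ pat 0 w = ∅ ∧ Cong u w := by
    intro w s hw hs h4
    have hsw : ∑ i, w i = 4 * ∑ i, s i := by rw [Finset.mul_sum]; exact Finset.sum_congr rfl fun i _ => hw i
    obtain ⟨hl, hpw⟩ := four_mem (fun i => ⟨s i, hw i⟩) (show (8 : ℤ) ∣ ∑ i, w i by rw [hsw]; omega)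
    refine ⟨hl, hpw, fun i => 2 * (b i - s i), (mem_leech_iff _).2 ⟨0, fun i => ⟨b i - s i, by simp⟩, ?_, ?_⟩,
      funext fun i => ?_⟩
    · rw [← Finset.mul_sum, Finset.sum_sub_distrib]; omega
    · have e : pat 0 (fun i => 2 * (b i - s i)) = P ∆ h := by
        ext i
        have := hs i
        simp only [mem_pat, hP, Finset.mem_symmDiff, Finset.mem_filter, Finset.mem_univ, true_and]
        by_cases hi : i ∈ h <;> simp only [hi, not_true, not_false_iff, iff_true, iff_false] at this <;>
          simp only [hi, not_true, not_false_iff, and_true, and_false, false_and, true_and, or_false, false_or] <;> omega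
      rw [e]; exact hc
    · simp only [Pi.sub_apply, Pi.smul_apply, nsmul_eq_mul, hb i, hw i]; push_cast; ring
  let s0 : GolayPt → ℤ := fun i => if i ∈ h then 1 else 0
  have hs0 : ∀ i, (2 : ℤ) ∣ s0 i ↔ i ∉ h := fun i => by by_cases hi : i ∈ h <;> simp [s0, hi]
  have hsum0 : ∑ i, s0 i = h.card := by rw [sum_indicator, one_mul]
  have hnorm : ∀ s : GolayPt → ℤ, (∀ i, s i ^ 2 = s0 i) → sqNorm (fun i => 4 * s i) = 16 * h.card := fun s hs => by
    rw [← hsum0, sqNorm, Finset.mul_sum]
    exact Finset.sum_congr rfl fun i _ => by rw [← hs i]; ring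
  obtain ⟨r, hr⟩ := hhe
  have hs0q : ∀ i, s0 i ^ 2 = s0 i := fun i => by by_cases hi : i ∈ h <;> simp [s0, hi]
  by_cases h4 : (4 : ℤ) ∣ (∑ i, b i) - ∑ i, s0 i
  · obtain ⟨k1, k2, k3⟩ := key _ s0 (fun i => rfl) hs0 h4
    rcases Nat.eq_zero_or_pos h.card with hz | hz
    · exfalso; apply h0
      have : (fun i => 4 * s0 i) = (0 : Vec) := funext fun i => by simp [s0, Finset.card_eq_zero.1 hz]
      rwa [this] at k3
    · refine ⟨_, k1, k2, k3, ?_⟩
      rw [hnorm s0 hs0q]; omega
  · rcases Finset.eq_empty_or_nonempty h with he | ⟨j, hj⟩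
    · let s : GolayPt → ℤ := fun i => if i = none then 2 else 0
      have hs : ∑ i, s i = 2 := by simp [s]
      obtain ⟨k1, k2, k3⟩ := key _ s (fun i => rfl) (fun i => by by_cases hi : i = none <;> simp [s, he, hi]) (by
        rw [hsum0, he, Finset.card_empty] at h4; rw [hs]; omega)
      exact ⟨_, k1, k2, k3, Or.inr (by simp [sqNorm, s, ite_pow, mul_pow])⟩
    · let s : GolayPt → ℤ := fun i => if i = j then -1 else s0 i
      have hsj : s0 j = 1 := by simp [s0, hj]
      have hs : ∑ i, s i = (∑ i, s0 i) - 2 := by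
        have e : ∀ i, s i = s0 i - if i = j then 2 else 0 := fun i => by
          by_cases hi : i = j
          · subst hi; simp [s, hsj]
          · simp [s, hi]
        simp [e, Finset.sum_sub_distrib]
      obtain ⟨k1, k2, k3⟩ := key _ s (fun i => rfl) (fun i => by
        by_cases hi : i = j
        · subst hi; simp [s, hj]
        · simp [s, hi, hs0]) (by rw [hs]; rw [hsum0] at h4 ⊢; omega)
      refine ⟨_, k1, k2, k3, ?_⟩
      rw [hnorm s fun i => ?_]
      · have := Finset.card_pos.2 ⟨j, hj⟩; omega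
      · by_cases hi : i = j
        · subst hi; simp [s, hsj]
        · simp [s, hi, hs0q]

/-- a shortest odd vector -/
def oddMin : Vec := fun j => if j = none then -3 else 1

theorem oddMin_latM : LatM 1 oddMin ∧ pat 1 oddMin = ∅ ∧ sqNorm oddMin = 32 := by
  have hp : pat 1 oddMin = ∅ := Finset.eq_empty_of_forall_notMem fun i hi => by
    rw [mem_pat] at hi; simp only [oddMin] at hi; split at hi <;> omega
  refine ⟨⟨fun i => by simp only [oddMin]; split <;> omega, ?_, hp ▸ InC_empty⟩, hp, ?_⟩
  · have : ∑ i, oddMin i = 20 := by decide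
    rw [this]; norm_num
  · simp only [sqNorm]; decide

/-- pair vectors, octad vectors and any odd vector generate the lattice -/
theorem le_of_gens {M : AddSubgroup Vec} (h44 : ∀ p q, p ≠ q → e44 p q ∈ M ∧ d44 p q ∈ M)
    (hoct : ∀ O, InC O → O.card = 8 → twoVec O ∈ M) {r : Vec} (hr : LatM 1 r) (hrM : r ∈ M) :
    leechLattice ≤ M := by
  intro x hx
  have h8 : e8 none ∈ M := by
    have hne : (none : GolayPt) ≠ some 0 := by simp
    have : e8 none = e44 none (some 0) + d44 none (some 0) := funext fun j => by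
      simp only [e8, e44, d44, Pi.add_apply]
      by_cases h1 : j = none
      · simp [h1]
      · by_cases h2 : j = some 0 <;> simp [h1, h2]
    rw [this]
    exact add_mem (h44 _ _ hne).1 (h44 _ _ hne).2
  have hfour : ∀ u : Vec, LatM 0 u → pat 0 u = ∅ → u ∈ M := fun u hu hp => by
    choose b hb using four_of_pat_empty hu hp
    have hd : ∀ i, (if i = none then (0 : Vec) else d44 i none) ∈ M := fun i => by
      by_cases hi : i = none
      · rw [if_pos hi]; exact zero_mem _
      · rw [if_neg hi]; exact (h44 _ _ hi).2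
    have hsum : ∑ i, u i = 4 * ∑ i, b i := by rw [Finset.mul_sum]; exact Finset.sum_congr rfl fun i _ => hb i
    obtain ⟨t, ht⟩ : (2 : ℤ) ∣ ∑ i, b i := by have := hu.2.1; rw [hsum] at this; omega
    have e : u = (∑ i, b i • (if i = none then (0 : Vec) else d44 i none)) + t • e8 none := funext fun j => by
      rw [Pi.add_apply, Finset.sum_apply, Pi.smul_apply]
      by_cases hj : j = none
      · subst hj
        have e : ∀ i, (b i • (if i = none then (0 : Vec) else d44 i none)) none = -4 * b i + if i = none then 4 * b i else 0 := fun i => by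
          by_cases hi : i = none <;> simp [hi, d44, eq_comm (a := (none : GolayPt))] <;> ring
        simp only [e, Finset.sum_add_distrib, ← Finset.mul_sum, Finset.sum_ite_eq', Finset.mem_univ, if_true,
          e8, smul_eq_mul, hb none]
        omega
      · rw [Finset.sum_eq_single j (fun i _ hij => by
          by_cases hi : i = none <;> simp [hi, d44, hj, Ne.symm hij]) (by simp)]
        simp [hj, d44, e8, hb j]; ring
    rw [e]
    exact add_mem (sum_mem fun i _ => zsmul_mem (hd i) _) (zsmul_mem h8 t)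
  have heven : ∀ u : Vec, LatM 0 u → u ∈ M := fun u hu => by
    induction hn : (pat 0 u).card using Nat.strong_induction_on generalizing u with
    | _ n ih =>
      by_cases hp : pat 0 u = ∅
      · exact hfour u hu hp
      · have h8' : 8 ≤ (pat 0 u).card := by
          have := Finset.card_pos.2 (Finset.nonempty_iff_ne_empty.2 hp)
          rcases InC_weights hu.2.2 with h | h | h | h | h <;> omega
        obtain ⟨O, hO, hO8, hlt⟩ := exists_octad_reduce (P := pat 0 u) (by omega)
        obtain ⟨hl, hpO⟩ := twoVec_latM hO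
        have hT : twoVec O ∈ M := hoct O hO hO8
        have hl' : LatM 0 (u - twoVec O) := by
          have := hu.add hl.neg; rwa [neg_zero, add_zero, ← sub_eq_add_neg] at this
        have hpd : pat 0 (u - twoVec O) = pat 0 u ∆ O := by
          ext i
          have := hu.1 i
          simp only [mem_pat, Pi.sub_apply, twoVec, Finset.mem_symmDiff]
          by_cases hi : i ∈ O <;> simp [hi] <;> omega
        have := ih _ (hn ▸ hpd ▸ hlt) _ hl' rfl
        simpa using add_mem this hT
  rcases exists_witness hx with h | h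
  · exact heven x h
  · have hl : LatM 0 (x - r) := by
      have := h.add hr.neg; rwa [add_neg_cancel, ← sub_eq_add_neg] at this
    simpa using add_mem (heven _ hl) hrM

/-- the minimal vectors generate the lattice -/
theorem le_of_min {M : AddSubgroup Vec} (hmin : ∀ x ∈ leechLattice, sqNorm x = 32 → x ∈ M) :
    leechLattice ≤ M := by
  obtain ⟨h1, -, h2⟩ := oddMin_latM
  refine le_of_gens (fun p q h => ⟨hmin _ (e44_mem h) (e44_norm h), hmin _ (d44_mem h) (d44_norm h)⟩)
    (fun O hO hO8 => hmin _ ((mem_leech_iff _).2 ⟨0, (twoVec_latM hO).1⟩) ?_) h1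
    (hmin _ ((mem_leech_iff _).2 ⟨1, h1⟩) h2)
  simp only [sqNorm, twoVec, ite_pow, zero_pow two_ne_zero]
  rw [sum_indicator, hO8]; norm_num

end Cfsg.Agent.Leech
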