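import Cfsg.Agent.Lib.Leech.Frame
import Cfsg.Agent.Lib.Leech.Gen

set_option autoImplicit false

namespace Cfsg.Agent.Leech
open Cfsg
open scoped symmDiff

/-- first point of the standard short vector -/
abbrev ptP : GolayPt := none
/-- second point of the standard short vector -/
abbrev ptQ : GolayPt := some 0

theorem vecU_eq : Spor.vecU = e44 ptP ptQ := rfl

theorem vecU_mem : Spor.vecU ∈ leechLattice := e44_mem (by simp)

theorem vecU_norm : sqNorm Spor.vecU = 32 := e44_norm (p := ptP) (q := ptQ) (by simp)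

theorem dot_vecU (x : Vec) : dotInt x Spor.vecU = 4 * x ptP + 4 * x ptQ := by
  have e : ∀ i, x i * Spor.vecU i = (if i = ptP then 4 * x i else 0) + if i = ptQ then 4 * x i else 0 := fun i => by
    rw [vecU_eq]; simp only [e44]
    by_cases h1 : i = ptP
    · subst h1; simp [ptP, ptQ, mul_comm]
    · by_cases h2 : i = ptQ <;> simp [h1, h2, mul_comm]
  simp [dotInt, e, Finset.sum_add_distrib]

theorem dot_add_left (x y u : Vec) : dotInt (x + y) u = dotInt x u + dotInt y u := by
  simp only [dotInt, Pi.add_apply, add_mul, Finset.sum_add_distrib]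

/-- twice the lattice together with the short vector -/
def baseU : AddSubgroup Vec where
  carrier := {w | Cong w 0 ∨ Cong w Spor.vecU}
  zero_mem' := Or.inl (Cong.refl 0)
  add_mem' := fun {a b} ha hb => by
    have hadd : ∀ {a b c d : Vec}, Cong a c → Cong b d → Cong (a + b) (c + d) := fun ⟨z, hz, he⟩ ⟨z', hz', he'⟩ =>
      ⟨z + z', add_mem hz hz', by rw [smul_add, ← he, ← he', add_sub_add_comm]⟩
    rcases ha with ha | ha <;> rcases hb with hb | hb
    · left; simpa using hadd ha hb
    · right; simpa using hadd ha hb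
    · right; simpa using hadd ha hb
    · left
      exact (hadd ha hb).trans ⟨Spor.vecU, vecU_mem, by rw [sub_zero, two_nsmul]⟩
  neg_mem' := fun {a} ha => by
    have hn : ∀ {a c : Vec}, Cong a c → Cong (-a) (-c) := fun ⟨z, hz, he⟩ => ⟨-z, neg_mem hz, by rw [smul_neg, ← he]; abel⟩
    rcases ha with ha | ha
    · left; simpa using hn ha
    · right; exact (hn ha).trans (cong_neg vecU_mem).symm

theorem mem_baseU {w : Vec} : w ∈ baseU ↔ Cong w 0 ∨ Cong w Spor.vecU := Iff.rfl

/-- fixing the short vector up to sign -/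
def FixU (g : ↥Co0) : Prop := ap g Spor.vecU = Spor.vecU ∨ ap g Spor.vecU = -Spor.vecU

theorem two_mem_baseU {z : Vec} (hz : z ∈ leechLattice) : 2 • z ∈ baseU := Or.inl ⟨z, hz, by rw [sub_zero]⟩

theorem baseU_le : baseU ≤ leechLattice := fun w hw => by
  rcases hw with ⟨z, hz, he⟩ | ⟨z, hz, he⟩
  · rw [sub_zero] at he; rw [he]; exact nsmul_mem hz 2
  · have : w = 2 • z + Spor.vecU := by rw [← he]; abel
    rw [this]; exact add_mem (nsmul_mem hz 2) vecU_mem

theorem cong_ap_baseU {g : ↥Co0} (hg : FixU g) {w : Vec} (hw : w ∈ baseU) : ap g w ∈ baseU := by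
  have hwL := baseU_le hw
  rcases hw with h | h
  · left; have := ap_cong g hwL (zero_mem _) h; rwa [ap_zero] at this
  · right
    have h' := ap_cong g hwL vecU_mem h
    rcases hg with e | e <;> rw [e] at h'
    · exact h'
    · exact h'.trans (cong_neg vecU_mem).symm

theorem signCo_fixU {c : Finset GolayPt} (hc : InC c) (h : ptP ∈ c ↔ ptQ ∈ c) : FixU (signCo c hc) := by
  have hval : ∀ i, ap (signCo c hc) Spor.vecU i = if i ∈ c then -Spor.vecU i else Spor.vecU i :=
    ap_signCo hc vecU_mem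
  have h0 : ∀ i, i ≠ ptP → i ≠ ptQ → Spor.vecU i = 0 := fun i h1 h2 => by
    rw [vecU_eq]; simp [e44, h1, h2]
  by_cases hp : ptP ∈ c
  · right; funext i; rw [hval]
    by_cases h1 : i = ptP
    · subst h1; simp [hp]
    by_cases h2 : i = ptQ
    · subst h2; simp [h.1 hp]
    simp [h0 i h1 h2]
  · left; funext i; rw [hval]
    by_cases h1 : i = ptP
    · subst h1; simp [hp]
    by_cases h2 : i = ptQ
    · subst h2; simp [show ptQ ∉ c from fun h' => hp (h.2 h')]
    simp [h0 i h1 h2]

theorem oddMin_double_pat {w : Vec} (hw : LatM 0 w) (hu : pat 0 w = Finset.univ) :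
    pat 0 (w + 2 • oddMin) = ∅ := by
  refine Finset.eq_empty_of_forall_notMem fun i hi => ?_
  have h' : i ∈ pat 0 w := by rw [hu]; exact Finset.mem_univ i
  have := oddMin_latM.1.1 i
  have := hw.1 i
  rw [mem_pat] at hi h'
  simp only [two_nsmul, Pi.add_apply] at hi
  omega

theorem exists_five_avoid {s t : Finset GolayPt} (hd : Disjoint s t) (hs : s.card ≤ 5) (ht : t.card ≤ 7) :
    ∃ S : Finset GolayPt, s ⊆ S ∧ S.card = 5 ∧ Disjoint S t := by
  obtain ⟨S, h1, h2, h3⟩ := Finset.exists_subsuperset_card_eq (s := s) (t := Finset.univ \ t) (n := 5)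
    (fun i hi => Finset.mem_sdiff.2 ⟨Finset.mem_univ i, Finset.disjoint_left.1 hd hi⟩) hs
    (by rw [Finset.card_sdiff_of_subset (Finset.subset_univ _), Finset.card_univ, card_pt]; omega)
  exact ⟨S, h1, h3, (Finset.sdiff_disjoint.mono_left h2)⟩

/-- an invariant subgroup above the base contains the standard cross class -/
theorem e8_mem_of_invariant (M : AddSubgroup Vec) (hb : baseU ≤ M) (hle : M ≤ leechLattice)
    (hperp : ∀ w ∈ M, (16 : ℤ) ∣ dotInt w Spor.vecU)
    (hinv : ∀ g, FixU g → ∀ w ∈ M, ap g w ∈ M) {v : Vec} (hvM : v ∈ M) (hv : v ∉ baseU) :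
    e8 none ∈ M := by
  have hsub : ∀ c (hc : InC c), (ptP ∈ c ↔ ptQ ∈ c) → ∀ w ∈ M, ap (signCo c hc) w - w ∈ M := fun c hc h w hw =>
    sub_mem (hinv _ (signCo_fixU hc h) w hw) hw
  have hval : ∀ c (hc : InC c) (w : Vec), w ∈ leechLattice → ∀ i,
      (ap (signCo c hc) w - w) i = if i ∈ c then -2 * w i else 0 := fun c hc w hw i => by
    rw [Pi.sub_apply, ap_signCo hc hw]; split <;> ring
  have hbase_pat : ∀ w ∈ baseU, (∀ i, (4 : ℤ) ∣ w i) ∨ (∀ i, ¬ (4 : ℤ) ∣ w i) := fun w hw => by
    have hu4 : ∀ i, (4 : ℤ) ∣ Spor.vecU i := fun i => by rw [vecU_eq]; simp only [e44]; split <;> omega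
    rcases hw with ⟨z, hz, he⟩ | ⟨z, hz, he⟩ <;>
    · obtain ⟨m, hm⟩ := (mem_leech_iff z).1 hz
      by_cases hm2 : (2 : ℤ) ∣ m
      · left; intro i
        have := congrFun he i; have := hm.1 i; have := hu4 i
        simp only [two_nsmul, Pi.sub_apply, Pi.add_apply, Pi.zero_apply] at *
        omega
      · right; intro i
        have := congrFun he i; have := hm.1 i; have := hu4 i
        simp only [two_nsmul, Pi.sub_apply, Pi.add_apply, Pi.zero_apply] at *
        omega
  -- reduce to a vector with entries divisible by four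
  obtain ⟨w, hwM, hw, hwp, hw0⟩ : ∃ w ∈ M, LatM 0 w ∧ pat 0 w = ∅ ∧ w ∉ baseU := by
    obtain ⟨w, hwM, hw, hw0⟩ : ∃ w ∈ M, LatM 0 w ∧ w ∉ baseU := by
      rcases exists_witness (hle hvM) with h | h
      · exact ⟨v, hvM, h, hv⟩
      obtain ⟨S, -, hS, hSd⟩ := exists_five_avoid (s := (∅ : Finset GolayPt)) (t := {ptP, ptQ})
        (Finset.disjoint_empty_left _) (by simp) (Finset.card_le_two.trans (by norm_num))
      obtain ⟨T, hTS, hT⟩ := Finset.exists_subset_card_eq (show 3 ≤ S.card by omega)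
      obtain ⟨O, hO, hO8, hsub5⟩ := InC_five (S := T ∪ {ptP, ptQ}) (by
        rw [Finset.card_union_of_disjoint (hSd.mono_left hTS), hT, Finset.card_pair (by simp)])
      have hm := hsub O hO ⟨fun _ => hsub5 (by simp), fun _ => hsub5 (by simp)⟩ v hvM
      have hv' := hval O hO v (hle hvM)
      refine ⟨_, hm, latM_of_mem (hle hm) (i := none) (by rw [hv']; split <;> omega), fun hbm => ?_⟩
      obtain ⟨j, hj⟩ : (Finset.univ \ O).Nonempty := Finset.card_pos.1 (by
        rw [Finset.card_sdiff_of_subset (Finset.subset_univ _), Finset.card_univ, card_pt, hO8]; norm_num)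
      have hj' : j ∉ O := (Finset.mem_sdiff.1 hj).2
      have hpO : ptP ∈ O := hsub5 (by simp)
      have := h.1 ptP
      rcases hbase_pat _ hbm with h4 | h4
      · have := h4 ptP; rw [hv', if_pos hpO] at this; omega
      · exact h4 j (by rw [hv', if_neg hj']; exact dvd_zero 4)
    by_cases hd0 : pat 0 w = ∅
    · exact ⟨w, hwM, hw, hd0, hw0⟩
    by_cases hdu : pat 0 w = Finset.univ
    · have hL : oddMin ∈ leechLattice := (mem_leech_iff _).2 ⟨1, oddMin_latM.1⟩
      have h2 := two_mem_baseU hL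
      refine ⟨w + 2 • oddMin, add_mem hwM (hb h2), latM_of_mem (add_mem (hle hwM) (nsmul_mem hL 2)) (i := none) (by
        have := hw.1 none; simp only [two_nsmul, Pi.add_apply]; omega), oddMin_double_pat hw hdu, fun h => hw0 ?_⟩
      simpa using sub_mem h h2
    set d := pat 0 w with hd
    have hpq : ptP ∈ d ↔ ptQ ∈ d := by
      have := hperp w hwM; rw [dot_vecU] at this
      have := hw.1 ptP; have := hw.1 ptQ
      rw [hd, mem_pat, mem_pat]; omega
    have hd8 : 8 ≤ d.card ∧ d.card ≤ 16 := by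
      have h1 := Finset.card_pos.2 (Finset.nonempty_iff_ne_empty.2 hd0)
      have h2 : d.card ≠ 24 := fun h => hdu (Finset.eq_univ_of_card _ (by rw [h, card_pt]))
      rcases InC_weights hw.2.2 with e | e | e | e | e <;> rw [← hd] at e <;> omega
    obtain ⟨i, hi⟩ : (d \ {ptP, ptQ}).Nonempty := Finset.card_pos.1 (by
      have := Finset.le_card_sdiff {ptP, ptQ} d
      have := Finset.card_le_two (a := ptP) (b := ptQ); omega)
    rw [Finset.mem_sdiff] at hi
    have hout : 2 ≤ ((Finset.univ \ d) \ {ptP, ptQ}).card := by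
      have := Finset.le_card_sdiff {ptP, ptQ} (Finset.univ \ d)
      rw [Finset.card_sdiff_of_subset (Finset.subset_univ _), Finset.card_univ, card_pt] at this
      have := Finset.card_le_two (a := ptP) (b := ptQ); omega
    obtain ⟨J, hJ, hJ2⟩ := Finset.exists_subset_card_eq hout
    obtain ⟨j, k, hjk, rfl⟩ := Finset.card_eq_two.1 hJ2
    have hj := hJ (by simp : j ∈ _); have hk := hJ (by simp : k ∈ _)
    simp only [Finset.mem_sdiff, Finset.mem_univ, true_and, Finset.mem_insert, Finset.mem_singleton, not_or] at hj hk hi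
    obtain ⟨O, hO, hO8, hsub5⟩ := InC_five (S := {i, j, k, ptP, ptQ}) (by
      have hij : i ≠ j := fun h => hj.1 (h ▸ hi.1)
      have hik : i ≠ k := fun h => hk.1 (h ▸ hi.1)
      simp [Finset.card_insert_of_notMem, hij, hik, hjk, hi.2.1, hi.2.2, hj.2.1, hj.2.2, hk.2.1, hk.2.2])
    simp only [Finset.insert_subset_iff, Finset.singleton_subset_iff] at hsub5
    obtain ⟨hiO, hjO, hkO, hpO, hqO⟩ := hsub5
    have hm := hsub O hO ⟨fun _ => hqO, fun _ => hpO⟩ w hwM
    have hv' := hval O hO w (hle hwM)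
    refine ⟨_, hm, latM_of_mem (hle hm) (i := none) (by have := hw.1 none; rw [hv']; split <;> omega), ?_, fun hbm => ?_⟩
    · refine Finset.eq_empty_of_forall_notMem fun l hl => ?_
      have := hw.1 l
      rw [mem_pat, hv'] at hl
      split at hl <;> omega
    have hodp : (O ∩ d).card ≤ 6 := by
      have : O ∩ d ⊆ O \ {j, k} := fun l hl => by
        rw [Finset.mem_inter] at hl
        simp only [Finset.mem_sdiff, Finset.mem_insert, Finset.mem_singleton, not_or]
        exact ⟨hl.1, fun h => hj.1 (h ▸ hl.2), fun h => hk.1 (h ▸ hl.2)⟩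
      refine (Finset.card_le_card this).trans ?_
      rw [Finset.card_sdiff_of_subset (by simp [Finset.insert_subset_iff, hjO, hkO]), hO8, Finset.card_pair hjk]
    have hidO : i ∈ O ∩ d := Finset.mem_inter.2 ⟨hiO, hi.1⟩
    rcases hbm with ⟨z, hz, he⟩ | ⟨z, hz, he⟩
    · have hzv : ∀ l, z l = if l ∈ O then -w l else 0 := fun l => by
        have := congrFun he l
        rw [sub_zero, hv', two_nsmul, Pi.add_apply] at this
        split at this <;> rename_i hl <;> simp only [hl, if_true, if_false] <;> omega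
      have hzl : LatM 0 z := latM_of_mem hz (i := j) (by have := hw.1 j; rw [hzv]; split <;> omega)
      have e : pat 0 z = O ∩ d := by
        ext l
        rw [mem_pat, hzv, Finset.mem_inter, hd, mem_pat]
        by_cases hl : l ∈ O <;> simp [hl]
      have := InC_card_ge (e ▸ hzl.2.2) (by omega)
      rw [this] at hidO; simp at hidO
    · have hzv : ∀ l, z l = (if l ∈ O then -w l else 0) - if l = ptP ∨ l = ptQ then 2 else 0 := fun l => by
        have := congrFun he l
        rw [Pi.sub_apply, hv', two_nsmul, Pi.add_apply, vecU_eq] at this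
        simp only [e44] at this
        by_cases h1 : l ∈ O <;> by_cases h2 : l = ptP ∨ l = ptQ <;> simp only [h1, h2, if_true, if_false] at this ⊢ <;> omega
      have hzl : LatM 0 z := latM_of_mem hz (i := j) (by
        have := hw.1 j; rw [hzv, if_pos hjO, if_neg (not_or.2 ⟨hj.2.1, hj.2.2⟩)]; omega)
      have e : pat 0 z = (O ∩ d) ∆ {ptP, ptQ} := by
        ext l
        have := hw.1 l
        rw [mem_pat, hzv, Finset.mem_symmDiff, Finset.mem_inter, hd, mem_pat, Finset.mem_insert, Finset.mem_singleton]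
        by_cases h1 : l ∈ O <;> by_cases h2 : l = ptP ∨ l = ptQ <;> simp [h1, h2] <;> omega
      have hsubO : (O ∩ d) ∆ {ptP, ptQ} ⊆ O := fun l hl => by
        rw [Finset.mem_symmDiff, Finset.mem_inter, Finset.mem_insert, Finset.mem_singleton] at hl
        rcases hl with ⟨⟨h, -⟩, -⟩ | ⟨h | h, -⟩
        exacts [h, h ▸ hpO, h ▸ hqO]
      have hjn : j ∉ (O ∩ d) ∆ {ptP, ptQ} := by
        simp [Finset.mem_symmDiff, hj.1, hj.2.1, hj.2.2]
      have hlt : ((O ∩ d) ∆ {ptP, ptQ}).card < 8 := hO8 ▸ Finset.card_lt_card ⟨hsubO, fun h => hjn (h hjO)⟩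
      have h0 := InC_card_ge (e ▸ hzl.2.2) hlt
      have : i ∈ (O ∩ d) ∆ {ptP, ptQ} := Finset.mem_symmDiff.2 (Or.inl ⟨hidO, by simp [hi.2.1, hi.2.2]⟩)
      rw [h0] at this; simp at this
  choose b hb' using four_of_pat_empty hw hwp
  set P := Finset.univ.filter (fun i => ¬ (2 : ℤ) ∣ b i) with hP
  have he8 : ∀ x ∈ M, Cong x (e8 none) → e8 none ∈ M := fun x hx ⟨z, hz, he⟩ => by
    have : e8 none = x - 2 • z := by rw [← he]; abel
    rw [this]; exact sub_mem hx (hb (two_mem_baseU hz))
  have hclass : ∀ x : Vec, x ∈ leechLattice → (∀ i, (8 : ℤ) ∣ x i) → Cong x 0 ∨ Cong x (e8 none) := fun x hx h8 => by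
    have h2 : ∀ z : Vec, (∀ i, (4 : ℤ) ∣ z i) → (8 : ℤ) ∣ ∑ i, z i → z ∈ leechLattice := fun z h4 hs =>
      (mem_leech_iff _).2 ⟨0, (four_mem h4 hs).1⟩
    choose y hy using h8
    have hsum : ∑ i, x i = 8 * ∑ i, y i := by rw [Finset.mul_sum]; exact Finset.sum_congr rfl fun i _ => hy i
    by_cases hev : (2 : ℤ) ∣ ∑ i, y i
    · left
      refine ⟨fun i => 4 * y i, h2 _ (fun i => dvd_mul_right _ _) (by rw [← Finset.mul_sum]; omega), funext fun i => ?_⟩
      simp only [Pi.sub_apply, Pi.zero_apply, two_nsmul, Pi.add_apply, hy i]; ring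
    · right
      refine ⟨fun i => 4 * y i - if i = none then 4 else 0, h2 _ (fun i => by split <;> omega) (by
        rw [Finset.sum_sub_distrib, ← Finset.mul_sum, Finset.sum_ite_eq' Finset.univ, if_pos (Finset.mem_univ _)]; omega),
        funext fun i => ?_⟩
      simp only [Pi.sub_apply, e8, two_nsmul, Pi.add_apply, hy i]; split <;> ring
  by_cases hc : ∃ c, InC c ∧ (ptP ∈ c ↔ ptQ ∈ c) ∧ ¬ Even (c ∩ P).card
  · obtain ⟨c, hc, hcpq, hodd⟩ := hc
    have hm := hsub c hc hcpq w hwM
    have hv' := hval c hc w (hle hwM)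
    have h8 : ∀ i, (8 : ℤ) ∣ (ap (signCo c hc) w - w) i := fun i => by
      rw [hv', hb' i]; split <;> omega
    rcases hclass _ (hle hm) h8 with ⟨z, hz, he⟩ | h
    · exfalso
      obtain ⟨m, hzm⟩ := (mem_leech_iff z).1 hz
      have hz0 : LatM 0 z := hzm.shift (by
        have := congrFun he none; have := hzm.1 none
        rw [sub_zero, hv', two_nsmul, Pi.add_apply] at *
        rw [hb' none] at *
        split at * <;> omega)
      have hzi : ∀ i, z i = if i ∈ c then -4 * b i else 0 := fun i => by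
        have := congrFun he i
        rw [sub_zero, hv', two_nsmul, Pi.add_apply, hb' i] at this
        split at this <;> rename_i hi <;> simp only [hi, if_true, if_false] <;> omega
      have hs := hz0.2.1
      have h2 := sum_emod_eq Finset.univ z (fun i => if i ∈ c ∩ P then (4 : ℤ) else 0) 8 (fun i _ => by
        rw [hzi]
        by_cases h1 : i ∈ c <;> by_cases h2 : i ∈ P <;>
          simp only [Finset.mem_inter, h1, h2, and_self, and_false, false_and, if_true, if_false] <;>
          simp only [hP, Finset.mem_filter, Finset.mem_univ, true_and, not_not] at h2 <;> omega)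
      rw [sum_indicator] at h2
      rw [Nat.even_iff] at hodd
      omega
    · exact he8 _ hm h
  push Not at hc
  have hPU : InC P ∨ InC (P ∆ {ptP, ptQ}) := by
    by_cases hall : ∀ c, InC c → Even (c ∩ P).card
    · exact Or.inl (InC_of_inter_even fun c hc' => Finset.inter_comm P c ▸ hall c hc')
    push Not at hall
    obtain ⟨c0, hc0, hodd0⟩ := hall
    right
    refine InC_of_inter_even fun c hc' => ?_
    have key : ∀ c : Finset GolayPt, ((P ∆ {ptP, ptQ}) ∩ c).card + 2 * ((P ∩ c) ∩ ({ptP, ptQ} ∩ c)).card =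
        (c ∩ P).card + ((if ptP ∈ c then 1 else 0) + if ptQ ∈ c then 1 else 0) := fun c => by
      have : (P ∆ {ptP, ptQ}) ∩ c = (P ∩ c) ∆ ({ptP, ptQ} ∩ c) := by
        ext l; simp only [Finset.mem_inter, Finset.mem_symmDiff]; tauto
      rw [this, card_symmDiff_add, Finset.inter_comm P c]
      congr 1
      by_cases h1 : ptP ∈ c <;> by_cases h2 : ptQ ∈ c <;> simp [Finset.insert_inter_of_mem, Finset.insert_inter_of_notMem, h1, h2]
    have hk := key c
    rw [Nat.even_iff] at hodd0 ⊢
    by_cases hcpq : ptP ∈ c ↔ ptQ ∈ c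
    · have := hc c hc' hcpq
      rw [Nat.even_iff] at this
      by_cases h1 : ptP ∈ c
      · rw [if_pos h1, if_pos (hcpq.1 h1)] at hk; omega
      · rw [if_neg h1, if_neg (fun h => h1 (hcpq.2 h))] at hk; omega
    · have hc0' : ¬ (ptP ∈ c0 ↔ ptQ ∈ c0) := fun h => by
        have := hc c0 hc0 h; rw [Nat.even_iff] at this; omega
      have hsd := hc (c ∆ c0) (InC_symmDiff hc' hc0) (by simp only [Finset.mem_symmDiff]; tauto)
      have hcs : (c ∆ c0) ∩ P = (c ∩ P) ∆ (c0 ∩ P) := by
        ext l; simp only [Finset.mem_inter, Finset.mem_symmDiff]; tauto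
      rw [hcs, Nat.even_iff] at hsd
      have := card_symmDiff_add (c ∩ P) (c0 ∩ P)
      by_cases h1 : ptP ∈ c
      · rw [if_pos h1, if_neg (fun h => hcpq ⟨fun _ => h, fun _ => h1⟩)] at hk; omega
      · rw [if_neg h1, if_pos (not_not.1 fun h => hcpq ⟨fun hh => absurd hh h1, fun hh => absurd hh h⟩)] at hk; omega
  -- strip the parity set
  obtain ⟨x, hxM, hx0, hx, h4, hxC⟩ : ∃ x ∈ M, x ∉ baseU ∧ x ∈ leechLattice ∧
      ∃ h4 : (∀ i, (4 : ℤ) ∣ x i), InC (Finset.univ.filter fun i => ¬ (8 : ℤ) ∣ x i) := by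
    have hPw : P = Finset.univ.filter (fun i => ¬ (8 : ℤ) ∣ w i) := by
      rw [hP]; refine Finset.filter_congr fun i _ => ?_; rw [hb' i]; omega
    have h4w : ∀ i, (4 : ℤ) ∣ w i := fun i => ⟨b i, hb' i⟩
    rcases hPU with h | h
    · exact ⟨w, hwM, hw0, hle hwM, h4w, hPw ▸ h⟩
    · have hu := (Or.inr (Cong.refl _) : Spor.vecU ∈ baseU)
      refine ⟨w + Spor.vecU, add_mem hwM (hb hu), fun hh => hw0 (by simpa using sub_mem hh hu),
        add_mem (hle hwM) vecU_mem, fun i => ?_, ?_⟩
      · have := h4w i; rw [Pi.add_apply, vecU_eq]; simp only [e44]; split <;> omega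
      · refine (congrArg InC ?_).mp h
        ext i
        have := h4w i
        simp only [hPw, Finset.mem_symmDiff, Finset.mem_filter, Finset.mem_univ, true_and, Finset.mem_insert,
          Finset.mem_singleton]
        simp only [Pi.add_apply, vecU_eq, e44]
        by_cases h2 : i = ptP ∨ i = ptQ <;> simp only [h2, if_true, if_false, not_true, not_false_iff, and_true, true_and, and_false, false_and, or_false, false_or] <;> omega
  set P' := Finset.univ.filter (fun i => ¬ (8 : ℤ) ∣ x i) with hP'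
  obtain ⟨hl, -⟩ := twoVec_latM hxC
  have hL : twoVec P' ∈ leechLattice := (mem_leech_iff _).2 ⟨0, hl⟩
  have hy8 : ∀ i, (8 : ℤ) ∣ (x - 2 • twoVec P') i := fun i => by
    have := h4 i
    have hiP : i ∈ P' ↔ ¬ (8 : ℤ) ∣ x i := by simp [hP']
    simp only [two_nsmul, Pi.sub_apply, Pi.add_apply, twoVec]
    by_cases hi : i ∈ P'
    · have := hiP.1 hi; rw [if_pos hi]; omega
    · have : (8 : ℤ) ∣ x i := not_not.1 fun h => hi (hiP.2 h)
      rw [if_neg hi]; omega
  have hxy : Cong x (x - 2 • twoVec P') := ⟨twoVec P', hL, by abel⟩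
  rcases hclass _ (sub_mem hx (nsmul_mem hL 2)) hy8 with h | h
  · exact absurd (Or.inl (hxy.trans h)) hx0
  · exact he8 x hxM (hxy.trans h)

/-- the frame moves transitively over the pairs away from the short vector -/
theorem exists_fixU_move {r s : GolayPt} (hrs : r ≠ s) (hr1 : r ≠ ptP) (hr2 : r ≠ ptQ) (hs1 : s ≠ ptP) (hs2 : s ≠ ptQ) :
    ∃ g, FixU g ∧ ap g (e8 none) = Spor.vecU + e44 r s := by
  have hpq : ptP ≠ ptQ := by simp
  obtain ⟨X, hX⟩ := exists_sx {ptP, ptQ, r, s} (by
    simp [Finset.card_insert_of_notMem, hrs, Ne.symm hr1, Ne.symm hr2, Ne.symm hs1, Ne.symm hs2])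
  obtain ⟨σ, hσ, hs⟩ := M24_four_transitive ![r, s, ptP, ptQ] ![ptP, ptQ, r, s]
    (by intro i j; fin_cases i <;> fin_cases j <;> simp [hrs, hrs.symm, hr1, Ne.symm hr1, hr2, Ne.symm hr2, hs1, Ne.symm hs1, hs2, Ne.symm hs2])
    (by intro i j; fin_cases i <;> fin_cases j <;> simp [hrs, hrs.symm, hr1, Ne.symm hr1, hr2, Ne.symm hr2, hs1, Ne.symm hs1, hs2, Ne.symm hs2])
  have sr : σ r = ptP := hs 0
  have ss : σ s = ptQ := hs 1
  have sp : σ ptP = r := hs 2
  have sq : σ ptQ = s := hs 3
  obtain ⟨c, hc, hce⟩ := exists_InC_inter_small (A := {r}) (T := {ptP, ptQ, r, s}) (by simp)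
    (Finset.card_le_four.trans (by norm_num))
  have hmemc : ∀ i ∈ ({ptP, ptQ, r, s} : Finset GolayPt), i ∈ c ↔ i = r := fun i hi => by
    rw [← Finset.mem_singleton, ← hce, Finset.mem_inter]; simp [hi]
  have hT : ∀ i, X.idx i = 0 ↔ i ∈ ({ptP, ptQ, r, s} : Finset GolayPt) := fun i => by rw [← X.mem_tet, hX]
  let g : ↥Co0 := signCo c hc * (permCo σ hσ * X.xiCo)
  have hg : ∀ x ∈ leechLattice, ∀ i, ap g x i = if i ∈ c then -X.xi x (σ.symm i) else X.xi x (σ.symm i) := fun x hx i => by
    rw [ap_mul _ _ hx, ap_signCo hc (ap_mem _ hx), ap_mul _ _ hx, ap_permCo hσ (ap_mem _ hx), X.ap_xiCo hx]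
  have e1 : σ.symm ptP = r := by rw [← sr, Equiv.symm_apply_apply]
  have e2 : σ.symm ptQ = s := by rw [← ss, Equiv.symm_apply_apply]
  have e3 : σ.symm r = ptP := by rw [← sp, Equiv.symm_apply_apply]
  have e4 : σ.symm s = ptQ := by rw [← sq, Equiv.symm_apply_apply]
  have htsum : ∀ x : Vec, X.tsum x 0 = x ptP + x ptQ + x r + x s := fun x => by
    show ∑ i ∈ X.tet 0, x i = _
    rw [hX]
    simp [Finset.sum_insert, hrs, Ne.symm hr1, Ne.symm hr2, Ne.symm hs1, Ne.symm hs2]
    ring
  have hxi0 : ∀ x : Vec, ∀ i ∈ ({ptP, ptQ, r, s} : Finset GolayPt), X.xi x i = (x ptP + x ptQ + x r + x s) / 2 - x i :=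
    fun x i hi => by
      simp only [Sx.xi, (hT i).2 hi, if_true, htsum]
  have hxiout : ∀ x : Vec, (∀ i ∉ ({ptP, ptQ, r, s} : Finset GolayPt), x i = 0) →
      ∀ i ∉ ({ptP, ptQ, r, s} : Finset GolayPt), X.xi x i = 0 := fun x hx0 i hi => by
    have hne : X.idx i ≠ 0 := fun h => hi ((hT i).1 h)
    have : X.tsum x (X.idx i) = 0 := Finset.sum_eq_zero fun l hl => hx0 l fun h =>
      hne (by rw [← (X.mem_tet.1 hl)]; exact (hT l).2 h)
    simp only [Sx.xi, if_neg hne, this, hx0 i hi]; norm_num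
  have main : ∀ x ∈ leechLattice, (∀ i ∉ ({ptP, ptQ, r, s} : Finset GolayPt), x i = 0) →
      ∀ i, i ∉ ({ptP, ptQ, r, s} : Finset GolayPt) → ap g x i = 0 := fun x hx hx0 i hi => by
    have : σ.symm i ∉ ({ptP, ptQ, r, s} : Finset GolayPt) := fun h => hi (by
      simp only [Finset.mem_insert, Finset.mem_singleton] at h ⊢
      have hh := σ.apply_symm_apply i
      rcases h with h | h | h | h <;> rw [h] at hh <;> simp [← hh, sr, ss, sp, sq])
    rw [hg x hx, hxiout x hx0 _ this]; simp
  refine ⟨g, Or.inl (funext fun i => ?_), funext fun i => ?_⟩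
  · by_cases hi : i ∈ ({ptP, ptQ, r, s} : Finset GolayPt)
    · rw [hg _ vecU_mem]
      have hcr := hmemc i hi
      simp only [Finset.mem_insert, Finset.mem_singleton] at hi
      rcases hi with rfl | rfl | rfl | rfl <;>
        simp only [e1, e2, e3, e4, hcr] <;> rw [hxi0 _ _ (by simp)] <;>
        simp [vecU_eq, e44, hrs, hrs.symm, hr1, Ne.symm hr1, hr2, Ne.symm hr2, hs1, Ne.symm hs1, hs2, Ne.symm hs2]
    · rw [main _ vecU_mem (fun j hj => by
        simp only [Finset.mem_insert, Finset.mem_singleton, not_or] at hj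
        rw [vecU_eq]; simp [e44, hj.1, hj.2.1]) i hi]
      simp only [Finset.mem_insert, Finset.mem_singleton, not_or] at hi
      rw [vecU_eq]; simp [e44, hi.1, hi.2.1]
  · by_cases hi : i ∈ ({ptP, ptQ, r, s} : Finset GolayPt)
    · rw [hg _ (e8_mem none)]
      have hcr := hmemc i hi
      simp only [Finset.mem_insert, Finset.mem_singleton] at hi
      rcases hi with rfl | rfl | rfl | rfl <;>
        simp only [e1, e2, e3, e4, hcr, Pi.add_apply] <;> rw [hxi0 _ _ (by simp)] <;>
        simp [vecU_eq, e44, e8, hrs, hrs.symm, hr1, Ne.symm hr1, hr2, Ne.symm hr2, hs1, Ne.symm hs1, hs2, Ne.symm hs2]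
    · rw [main _ (e8_mem none) (fun j hj => by
        simp only [Finset.mem_insert, Finset.mem_singleton, not_or] at hj
        simp [e8, hj.1]) i hi]
      simp only [Finset.mem_insert, Finset.mem_singleton, not_or] at hi
      simp [vecU_eq, e44, hi.1, hi.2.1, hi.2.2.1, hi.2.2.2]

theorem FixU.dot {g : ↥Co0} (hg : FixU g) {w : Vec} (hw : w ∈ leechLattice)
    (h : (16 : ℤ) ∣ dotInt w Spor.vecU) : (16 : ℤ) ∣ dotInt (ap g w) Spor.vecU := by
  have := ap_dot g hw vecU_mem
  rcases hg with e | e <;> rw [e] at this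
  · rwa [this]
  · rw [dot_comm, dot_neg_left, dot_comm] at this; omega

theorem FixU.mul {g k : ↥Co0} (hg : FixU g) (hk : FixU k) : FixU (g * k) := by
  unfold FixU
  rw [ap_mul _ _ vecU_mem]
  rcases hk with e | e <;> rw [e]
  · exact hg
  · rw [ap_neg _ vecU_mem]; rcases hg with e' | e' <;> rw [e']
    · exact Or.inr rfl
    · exact Or.inl (neg_neg _)

theorem FixU.inv {g : ↥Co0} (hg : FixU g) : FixU g⁻¹ := by
  unfold FixU
  rcases hg with e | e
  · left; have := ap_inv_ap g vecU_mem; rwa [e] at this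
  · right
    have := ap_inv_ap g vecU_mem
    rw [e, ap_neg _ vecU_mem] at this
    exact neg_eq_iff_eq_neg.1 this

/-- an element fixing the cross classes modulo the short vector is central -/
theorem central_of_fix {a : ↥Co0} (hA : FixU a)
    (hfix : ∀ g, FixU g → ap a (ap g (e8 none)) - ap g (e8 none) ∈ baseU) : a ∈ Subgroup.center ↥Co0 := by
  have h8 : ap a (e8 none) - e8 none ∈ baseU := by
    have := hfix 1 (Or.inl (ap_one _)); rwa [ap_one] at this
  have hframe : a ∈ frame := by
    have hL := ap_mem a (e8_mem none)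
    have hn64 : sqNorm (ap a (e8 none)) = 64 := by rw [ap_norm a (e8_mem none), e8_norm]
    rcases h8 with h | h
    · obtain ⟨z, hz, he⟩ := h
      exact ⟨z, hz, by rw [← he, sub_zero]⟩
    · exfalso
      obtain ⟨z, hz, he⟩ := h
      have hd : ptQ ≠ ptP := by simp
      have hcg : Cong (ap a (e8 none)) (d44 ptQ ptP) := by
        refine Cong.trans (y := e8 none + Spor.vecU) ⟨z, hz, by rw [← he]; abel⟩ ⟨e8 none, e8_mem none, funext fun i => ?_⟩
        simp only [two_nsmul, Pi.sub_apply, Pi.add_apply, vecU_eq, e44, e8, d44]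
        by_cases h1 : i = ptP
        · subst h1; simp [ptP, ptQ]
        · by_cases h2 : i = ptQ <;> simp_all [ptP, ptQ]
      rcases cong_short hL (d44_mem hd) hcg hn64.le (by rw [d44_norm hd]; norm_num) with h' | h' | h'
      · have := d44_norm hd; rw [← h', hn64] at this; norm_num at this
      · have := d44_norm hd; rw [h', sqNorm_neg, this] at hn64; norm_num at hn64
      · rw [d44_norm hd] at h'; omega
  obtain ⟨σ, S, hσ, hS, happ⟩ := stab_e8 a hframe
  have hpair : ∀ r s, r ≠ s → (r ∉ ({ptP, ptQ} : Finset GolayPt) ∧ s ∉ ({ptP, ptQ} : Finset GolayPt) ∨ r = ptP ∧ s = ptQ) →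
      mono σ S (e44 r s) = e44 r s ∨ mono σ S (e44 r s) = -e44 r s := by
    intro r s hrs h
    rcases h with ⟨hr, hs⟩ | ⟨rfl, rfl⟩
    swap
    · rcases hA with e | e <;> rw [happ _ vecU_mem, vecU_eq] at e
      exacts [Or.inl e, Or.inr e]
    simp only [Finset.mem_insert, Finset.mem_singleton, not_or] at hr hs
    obtain ⟨g, hg, hge⟩ := exists_fixU_move hrs hr.1 hr.2 hs.1 hs.2
    have hrL := e44_mem hrs
    have h1 := hfix g hg
    rw [hge] at h1
    rw [ap_add a vecU_mem hrL] at h1
    have h2 : ap a (e44 r s) - e44 r s ∈ baseU := by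
      have hu : ap a Spor.vecU - Spor.vecU ∈ baseU := by
        have hu : Spor.vecU ∈ baseU := Or.inr (Cong.refl _)
        exact sub_mem (cong_ap_baseU hA hu) hu
      have := sub_mem h1 hu
      convert this using 1; abel
    have hn32 : sqNorm (ap a (e44 r s)) = 32 := by rw [ap_norm a hrL, e44_norm hrs]
    rw [← happ _ hrL]
    rcases h2 with ⟨z, hz, he⟩ | ⟨z, hz, he⟩
    · rcases cong_short (ap_mem a hrL) hrL ⟨z, hz, by rw [← he, sub_zero]⟩ (by omega) (by rw [e44_norm hrs]; norm_num) with h' | h' | h'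
      exacts [Or.inl h', Or.inr h', absurd h'.1 (by rw [hn32]; norm_num)]
    · exfalso
      have hy64 : sqNorm (Spor.vecU + e44 r s) = 64 := by
        rw [← hge, ap_norm g (e8_mem none), e8_norm]
      rcases cong_short (ap_mem a hrL) (add_mem vecU_mem hrL) ⟨z, hz, by rw [← he]; abel⟩ (by omega) hy64.le with h' | h' | h'
      · rw [h', hy64] at hn32; norm_num at hn32
      · rw [h', sqNorm_neg, hy64] at hn32; norm_num at hn32
      · omega
  have hsupp : ∀ r s, r ≠ s → (r ∉ ({ptP, ptQ} : Finset GolayPt) ∧ s ∉ ({ptP, ptQ} : Finset GolayPt) ∨ r = ptP ∧ s = ptQ) →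
      σ r = r ∨ σ r = s := fun r s hrs h => by
    have hz : mono σ S (e44 r s) (σ r) ≠ 0 := by
      simp only [mono, Equiv.symm_apply_apply, e44]; split <;> simp
    by_contra hne
    push Not at hne
    have h0 : e44 r s (σ r) = 0 := by simp [e44, hne.1, hne.2]
    rcases hpair r s hrs h with e | e <;> rw [e] at hz
    · exact hz h0
    · simp [h0] at hz
  have hfix22 : ∀ r, r ∉ ({ptP, ptQ} : Finset GolayPt) → σ r = r := fun r hr => by
    obtain ⟨t, ht, ht2⟩ := Finset.exists_subset_card_eq (s := (Finset.univ \ {ptP, ptQ, r} : Finset GolayPt)) (n := 2) (by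
      rw [Finset.card_sdiff_of_subset (Finset.subset_univ _), Finset.card_univ, card_pt]
      have := Finset.card_le_three (a := ptP) (b := ptQ) (c := r); omega)
    obtain ⟨s, s', hss, rfl⟩ := Finset.card_eq_two.1 ht2
    have h1 := ht (by simp : s ∈ _); have h2 := ht (by simp : s' ∈ _)
    simp only [Finset.mem_sdiff, Finset.mem_univ, true_and, Finset.mem_insert, Finset.mem_singleton, not_or] at h1 h2
    rcases hsupp r s (Ne.symm h1.2.2) (Or.inl ⟨hr, by simp [h1.1, h1.2.1]⟩) with h | h
    · exact h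
    rcases hsupp r s' (Ne.symm h2.2.2) (Or.inl ⟨hr, by simp [h2.1, h2.2.1]⟩) with h' | h'
    · exact h'
    · exact absurd (h.symm.trans h') hss
  have hpfix : σ ptP = ptP := by
    rcases hsupp ptP ptQ (by simp) (Or.inr ⟨rfl, rfl⟩) with h | h
    · exact h
    exfalso
    obtain ⟨T, hT, hT5, hTd⟩ := exists_five_avoid (s := {ptP}) (t := {ptQ}) (by simp) (by simp) (by simp)
    obtain ⟨O', hO', hO'8, hsub'⟩ := InC_five hT5
    have hpO' : ptP ∈ O' := hsub' (hT (by simp))
    obtain ⟨O, hO, hpO, hqO⟩ : ∃ O, InC O ∧ ptP ∈ O ∧ ptQ ∉ O := by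
      obtain ⟨c, hc, he⟩ := exists_InC_inter_small (A := {ptP}) (T := {ptP, ptQ}) (by simp) (Finset.card_le_two.trans (by norm_num))
      refine ⟨c, hc, (Finset.mem_inter.1 (show ptP ∈ c ∩ {ptP, ptQ} by rw [he]; simp)).1, fun hq => ?_⟩
      have hqq : ptQ ∈ ({ptP} : Finset GolayPt) := he ▸ Finset.mem_inter.2 ⟨hq, by simp⟩
      simp [ptP, ptQ] at hqq
    have hC := InC_symmDiff hO ((M24_map hσ O).2 hO)
    have hsubset : O ∆ O.image σ ⊆ {ptP, ptQ} := fun l hl => by
      by_contra hl'
      have hiff : l ∈ O.image σ ↔ l ∈ O := by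
        refine ⟨fun hh => ?_, fun hh => Finset.mem_image.2 ⟨l, hh, hfix22 l hl'⟩⟩
        obtain ⟨m, hm, hml⟩ := Finset.mem_image.1 hh
        exact (σ.injective (hml.trans (hfix22 l hl').symm)) ▸ hm
      rw [Finset.mem_symmDiff, hiff] at hl
      rcases hl with ⟨a, b⟩ | ⟨a, b⟩ <;> exact b a
    have h0 := InC_card_ge hC ((Finset.card_le_card hsubset).trans Finset.card_le_two |>.trans_lt (by norm_num))
    have : ptQ ∈ O ∆ O.image σ := Finset.mem_symmDiff.2 (Or.inr ⟨Finset.mem_image.2 ⟨ptP, hpO, h⟩, hqO⟩)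
    rw [h0] at this; simp at this
  have hσ1 : σ = 1 := by
    refine Equiv.ext fun r => ?_
    by_cases hr : r ∈ ({ptP, ptQ} : Finset GolayPt)
    · simp only [Finset.mem_insert, Finset.mem_singleton] at hr
      rcases hr with rfl | rfl
      · exact hpfix
      · by_contra hne
        by_cases hm : σ ptQ ∈ ({ptP, ptQ} : Finset GolayPt)
        · simp only [Finset.mem_insert, Finset.mem_singleton] at hm
          rcases hm with hm | hm
          · exact absurd (σ.injective (hm.trans hpfix.symm)) (by simp)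
          · exact hne hm
        · exact hne (σ.injective (hfix22 _ hm))
    · exact hfix22 r hr
  subst hσ1
  have hconst : ∀ r s, r ≠ s → (r ∉ ({ptP, ptQ} : Finset GolayPt) ∧ s ∉ ({ptP, ptQ} : Finset GolayPt) ∨ r = ptP ∧ s = ptQ) →
      (r ∈ S ↔ s ∈ S) := fun r s hrs h => by
    rcases hpair r s hrs h with e | e <;>
      · have e1 := congrFun e r
        have e2 := congrFun e s
        by_cases h1 : r ∈ S <;> by_cases h2 : s ∈ S <;>
          simp [mono, e44, Equiv.Perm.one_def, h1, h2] at e1 e2 ⊢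
  have hpqS := hconst ptP ptQ (by simp) (Or.inr ⟨rfl, rfl⟩)
  have h22 : ∀ r s, r ∉ ({ptP, ptQ} : Finset GolayPt) → s ∉ ({ptP, ptQ} : Finset GolayPt) → (r ∈ S ↔ s ∈ S) :=
    fun r s h1 h2 => by
      by_cases h : r = s
      · rw [h]
      · exact hconst r s h (Or.inl ⟨h1, h2⟩)
  have h1n : (some 1 : GolayPt) ∉ ({ptP, ptQ} : Finset GolayPt) := by decide
  have hS01 : S = ∅ ∨ S = Finset.univ := by
    by_cases h1 : (some 1 : GolayPt) ∈ S
    · right
      have hsub : Finset.univ \ S ⊆ {ptP, ptQ} := fun l hl => by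
        by_contra hl'
        exact (Finset.mem_sdiff.1 hl).2 ((h22 _ _ h1n hl').1 h1)
      have hC : InC (Finset.univ \ S) := by
        have := InC_symmDiff InC_univ hS
        rwa [symmDiff_of_ge (Finset.subset_univ S)] at this
      have := InC_card_ge hC (((Finset.card_le_card hsub).trans Finset.card_le_two).trans_lt (by norm_num))
      exact Finset.univ_subset_iff.1 (Finset.sdiff_eq_empty_iff_subset.1 this)
    · left
      have hsub : S ⊆ {ptP, ptQ} := fun l hl => by
        by_contra hl'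
        exact h1 ((h22 _ _ h1n hl').2 hl)
      exact InC_card_ge hS (((Finset.card_le_card hsub).trans Finset.card_le_two).trans_lt (by norm_num))
  refine center_eq.2 ?_
  rcases hS01 with rfl | rfl
  · left; refine ext_ap fun x hx => ?_
    rw [happ x hx, ap_one]; funext i; simp [mono, Equiv.Perm.one_def]
  · right; refine ext_ap fun x hx => ?_
    rw [happ x hx, ap_negOne hx]; funext i; simp [mono, Equiv.Perm.one_def]


/-- the automorphisms fixing the short vector have no small normal subgroups -/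
theorem fixU_normal_le_center {A : Subgroup ↥Co0} (hfin : (A : Set ↥Co0).Finite) (hA : ∀ a ∈ A, FixU a)
    (hn : ∀ g, FixU g → ∀ a ∈ A, g * a * g⁻¹ ∈ A)
    (hsq : ∀ a ∈ A, a * a ∈ Subgroup.center ↥Co0)
    (hc : ∀ a ∈ A, ∀ b ∈ A, a * b * a⁻¹ * b⁻¹ ∈ Subgroup.center ↥Co0) : A ≤ Subgroup.center ↥Co0 := by
  classical
  have hcen : ∀ ζ ∈ Subgroup.center ↥Co0, ∀ x ∈ leechLattice, ap ζ x - x ∈ baseU := fun ζ hζ x hx => by
    rcases center_eq.1 hζ with rfl | rfl
    · rw [ap_one, sub_self]; exact zero_mem _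
    · refine Or.inl ⟨-x, neg_mem hx, ?_⟩
      rw [ap_negOne hx, sub_zero, two_nsmul]; abel
  -- the vectors fixed modulo the base
  let F : AddSubgroup Vec :=
    { carrier := {w | w ∈ leechLattice ∧ (16 : ℤ) ∣ dotInt w Spor.vecU ∧ ∀ a ∈ A, ap a w - w ∈ baseU}
      zero_mem' := ⟨zero_mem _, by rw [dot_vecU]; simp, fun a _ => by rw [ap_zero, sub_self]; exact zero_mem _⟩
      add_mem' := fun {x y} hx hy => ⟨add_mem hx.1 hy.1, by
        have := hx.2.1; have := hy.2.1; rw [dot_vecU] at *; simp only [Pi.add_apply] at *; omega,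
        fun a ha => by rw [ap_add a hx.1 hy.1, add_sub_add_comm]; exact add_mem (hx.2.2 a ha) (hy.2.2 a ha)⟩
      neg_mem' := fun {x} hx => ⟨neg_mem hx.1, by rw [dot_neg_left]; exact dvd_neg.2 hx.2.1, fun a ha => by
        rw [ap_neg a hx.1, ← neg_sub_neg, neg_sub_neg]; simpa [sub_eq_add_neg, add_comm] using neg_mem (hx.2.2 a ha)⟩ }
  have hbF : baseU ≤ F := fun w hw => by
    refine ⟨baseU_le hw, ?_, fun a ha => sub_mem (cong_ap_baseU (hA a ha) hw) hw⟩
    rcases hw with ⟨z, hz, he⟩ | ⟨z, hz, he⟩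
    · have hd := dot_eight hz vecU_mem
      rw [sub_zero] at he
      rw [he, two_nsmul, dot_add_left]; omega
    · have hd := dot_eight hz vecU_mem
      have : w = (z + z) + Spor.vecU := by rw [← two_nsmul, ← he]; abel
      rw [this, dot_add_left, dot_add_left, dot_vecU Spor.vecU, vecU_eq]
      rw [vecU_eq] at hd
      simp [e44]; omega
  obtain ⟨v, hv, hvb⟩ : ∃ v ∈ F, v ∉ baseU := by
    suffices ∀ S : Finset ↥Co0, (∀ a ∈ S, a ∈ A) → ∃ w ∈ leechLattice, (16 : ℤ) ∣ dotInt w Spor.vecU ∧ w ∉ baseU ∧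
        ∀ a ∈ S, ap a w - w ∈ baseU by
      obtain ⟨w, hw, hd, hwb, hS⟩ := this hfin.toFinset fun a ha => (Set.Finite.mem_toFinset _).1 ha
      exact ⟨w, ⟨hw, hd, fun a ha => hS a ((Set.Finite.mem_toFinset _).2 ha)⟩, hwb⟩
    intro S
    induction S using Finset.induction with
    | empty =>
      intro _
      have hne : (some 1 : GolayPt) ≠ some 2 := by decide
      refine ⟨e44 (some 1) (some 2), e44_mem hne, ?_, ?_, by simp⟩
      · rw [dot_vecU]; simp only [e44]; split_ifs <;> norm_num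
      · rintro (h | h)
        · rcases cong_short (e44_mem hne) (zero_mem _) h (by rw [e44_norm hne]; norm_num) (by simp [sqNorm]) with h' | h' | h'
          · have := e44_norm hne; rw [h'] at this; simp [sqNorm] at this
          · have := e44_norm hne; rw [h'] at this; simp [sqNorm] at this
          · rw [e44_norm hne] at h'; omega
        · rcases cong_short (e44_mem hne) vecU_mem h (by rw [e44_norm hne]; norm_num) (by rw [vecU_norm]; norm_num) with h' | h' | h'
          · have := congrFun h' none; revert this; decide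
          · have := congrFun h' none; revert this; decide
          · rw [e44_norm hne] at h'; omega
    | insert a S _ ih =>
      intro hS
      obtain ⟨w, hw, hd, hwb, hfix⟩ := ih fun b hb => hS b (Finset.mem_insert_of_mem hb)
      have haA := hS a (Finset.mem_insert_self _ _)
      by_cases haw : ap a w - w ∈ baseU
      · exact ⟨w, hw, hd, hwb, fun b hb => by rcases Finset.mem_insert.1 hb with rfl | hb <;> [exact haw; exact hfix b hb]⟩
      have haL := ap_mem a hw
      refine ⟨ap a w - w, sub_mem haL hw, ?_, haw, fun b hb => ?_⟩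
      · have := (hA a haA).dot hw hd
        rw [sub_eq_add_neg, dot_add_left, dot_neg_left]; omega
      rw [ap_sub b haL hw]
      rcases Finset.mem_insert.1 hb with rfl | hb
      · have h1 := hcen _ (hsq b haA) w hw
        rw [ap_mul _ _ hw] at h1
        have h2 := two_mem_baseU (sub_mem haL hw)
        have : ap b (ap b w) - ap b w - (ap b w - w) = (ap b (ap b w) - w) - 2 • (ap b w - w) := by abel
        rw [this]; exact sub_mem h1 h2
      · have hbA := hS b (Finset.mem_insert_of_mem hb)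
        have hz := hcen _ (hc b hbA a haA) _ (ap_mem a (ap_mem b hw))
        rw [← ap_mul _ _ hw, ← ap_mul _ _ hw] at hz
        have he : b * a * b⁻¹ * a⁻¹ * (a * b) = b * a := by group
        rw [he, ap_mul _ _ hw, ap_mul _ _ hw] at hz
        have hβ := cong_ap_baseU (hA a haA) (hfix b hb)
        rw [ap_sub a (ap_mem b hw) hw] at hβ
        have : ap b (ap a w) - ap b w - (ap a w - w) =
            (ap b (ap a w) - ap a (ap b w)) + (ap a (ap b w) - ap a w) - (ap b w - w) := by abel
        rw [this]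
        exact sub_mem (add_mem hz hβ) (hfix b hb)
  have hFinv : ∀ g, FixU g → ∀ w ∈ F, ap g w ∈ F := fun g hg w hw =>
    ⟨ap_mem g hw.1, hg.dot hw.1 hw.2.1, fun a ha => by
      have h := cong_ap_baseU hg (hw.2.2 (g⁻¹ * a * g) (by simpa using hn g⁻¹ hg.inv a ha))
      rw [ap_sub g (ap_mem _ hw.1) hw.1, ← ap_mul _ _ hw.1, show g * (g⁻¹ * a * g) = a * g by group, ap_mul _ _ hw.1] at h
      exact h⟩
  have he8 := e8_mem_of_invariant F hbF (fun w hw => hw.1) (fun w hw => hw.2.1) hFinv hv hvb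
  intro a ha
  exact central_of_fix (hA a ha) fun g hg => (hFinv g hg _ he8).2.2 a ha

end Cfsg.Agent.Leech
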