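import Cfsg.Agent.Lib.Leech.Gen

set_option autoImplicit false

namespace Cfsg.Agent.Leech
open Cfsg
open scoped symmDiff

theorem dot_add_right (x y z : Vec) : dotInt x (y + z) = dotInt x y + dotInt x z := by
  simp [dotInt, mul_add, Finset.sum_add_distrib]

theorem cong_norm {x y : Vec} (hx : x ∈ leechLattice) (h : Cong x y) (h32 : (32 : ℤ) ∣ sqNorm x) :
    (32 : ℤ) ∣ sqNorm y := by
  obtain ⟨z, hz, he⟩ := h
  have hy : y = x - (2 : ℤ) • z := by rw [two_zsmul, ← two_nsmul, ← he]; abel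
  rw [hy, sqNorm_sub, sqNorm_smul]
  have : dotInt x ((2 : ℤ) • z) = 2 * dotInt x z := by
    simp only [dotInt, Pi.smul_apply, smul_eq_mul, Finset.mul_sum]
    exact Finset.sum_congr rfl fun i _ => by ring
  have := dot_eight hx hz
  have := sqNorm_sixteen hz
  omega

theorem cong_mem {x y : Vec} (hx : x ∈ leechLattice) (h : Cong x y) : y ∈ leechLattice := by
  obtain ⟨z, hz, he⟩ := h
  have : y = x - 2 • z := by rw [← he]; abel
  rw [this]; exact sub_mem hx (nsmul_mem hz 2)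

/-- same orbit on classes modulo twice the lattice -/
def ClEq (x y : Vec) : Prop := ∃ g : ↥Co0, Cong (ap g x) y

theorem ClEq.of_coEq {x y : Vec} (h : CoEq x y) : ClEq x y := by
  obtain ⟨g, rfl⟩ := h
  exact ⟨g, Cong.refl _⟩

theorem ClEq.of_cong {x y : Vec} (h : Cong x y) : ClEq x y := ⟨1, by rw [ap_one]; exact h⟩

theorem ClEq.mem {x y : Vec} (hx : x ∈ leechLattice) (h : ClEq x y) : y ∈ leechLattice := by
  obtain ⟨g, hg⟩ := h
  exact cong_mem (ap_mem g hx) hg

theorem ClEq.trans {x y z : Vec} (hx : x ∈ leechLattice) (h : ClEq x y) (h' : ClEq y z) : ClEq x z := by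
  obtain ⟨g, hg⟩ := h
  obtain ⟨k, hk⟩ := h'
  refine ⟨k * g, ?_⟩
  rw [ap_mul _ _ hx]
  exact (ap_cong k (ap_mem g hx) (cong_mem (ap_mem g hx) hg) hg).trans hk

theorem ClEq.norm {x y : Vec} (hx : x ∈ leechLattice) (h : ClEq x y) (h32 : (32 : ℤ) ∣ sqNorm x) :
    (32 : ℤ) ∣ sqNorm y := by
  obtain ⟨g, hg⟩ := h
  exact cong_norm (ap_mem g hx) hg (by rwa [ap_norm g hx])

theorem ClEq.ne_zero {x y : Vec} (hx : x ∈ leechLattice) (h : ClEq x y) (h0 : ¬ Cong x 0) : ¬ Cong y 0 := by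
  obtain ⟨g, hg⟩ := h
  intro hy
  apply h0
  have := ap_cong g⁻¹ (ap_mem g hx) (zero_mem _) (hg.trans hy)
  rwa [ap_inv_ap g hx, ap_zero] at this

theorem twos_even_card {x : Vec} (h : LatM 0 x) (h32 : (32 : ℤ) ∣ sqNorm x) (hP : (pat 0 x).card = 8) :
    Even (twos x).card := by
  obtain ⟨-, h8⟩ := pat_twos_bounds h
  rw [sum_half_sq h] at h32
  rw [Nat.even_iff]; omega

/-- sextet for an octad and a pair outside it -/
theorem sx_pair {P N : Finset GolayPt} (hP : InC P) (e : P.card = 8) (hPN : Disjoint P N)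
    (hN : N.card = 0 ∨ N.card = 2) :
    ∃ X : Sx, X.tet 0 ⊆ P ∧ ∀ j, Disjoint P (X.tet j) → Even (N ∩ X.tet j).card := by
  rcases hN with hN | hN2
  · obtain ⟨T, hTP, hT⟩ := exists_four_of_le (S := P) (by omega)
    obtain ⟨X, hX⟩ := exists_sx T hT
    exact ⟨X, hX ▸ hTP, fun j _ => by simp [Finset.card_eq_zero.1 hN]⟩
  obtain ⟨T₃, hT₃, hc₃⟩ := Finset.exists_subset_card_eq (show 3 ≤ P.card by omega)
  obtain ⟨O, hO, hO8, hsub⟩ := InC_five (S := T₃ ∪ N) (by
    rw [Finset.card_union_of_disjoint (hPN.mono_left hT₃), hc₃, hN2])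
  have hPO : (P ∩ O).card = 4 := by
    have h1 : T₃ ⊆ P ∩ O := Finset.subset_inter hT₃ (Finset.union_subset_left hsub)
    have h2 : 3 ≤ (P ∩ O).card := hc₃ ▸ Finset.card_le_card h1
    have h3 : P ∩ O ⊆ O \ N := fun i hi => by
      rw [Finset.mem_inter] at hi
      exact Finset.mem_sdiff.2 ⟨hi.2, fun hh => Finset.disjoint_left.1 hPN hi.1 hh⟩
    have h4 := Finset.card_le_card h3
    rw [Finset.card_sdiff_of_subset (Finset.union_subset_right hsub), hO8, hN2] at h4
    obtain ⟨r, hr⟩ := InC_inter_even hP hO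
    by_contra hne4
    have hPO' : P = O := InC_octad_unique hP hO e hO8 (show 5 ≤ (P ∩ O).card by omega)
    obtain ⟨i, hi⟩ : N.Nonempty := Finset.card_pos.1 (by omega)
    exact Finset.disjoint_left.1 hPN (hPO' ▸ Finset.union_subset_right hsub hi) hi
  obtain ⟨Y, hY⟩ := exists_sx (P ∩ O) hPO
  obtain ⟨k, hk, hke⟩ := tet_of_octad Y hO hO8 (hY ▸ Finset.inter_subset_right)
  refine ⟨Y, hY ▸ Finset.inter_subset_left, fun j _ => ?_⟩
  have hNk : N ⊆ Y.tet k := fun i hi => by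
    rw [hke, hY]
    exact Finset.mem_sdiff.2 ⟨(Finset.union_subset_right hsub) hi,
      fun hh => Finset.disjoint_left.1 hPN (Finset.mem_inter.1 hh).1 hi⟩
  by_cases hjk : j = k
  · subst hjk; rw [Finset.inter_eq_left.2 hNk, hN2]; decide
  · have : N ∩ Y.tet j = ∅ := Finset.eq_empty_of_forall_notMem fun i hi => by
      rw [Finset.mem_inter] at hi
      exact Finset.disjoint_left.1 (Y.tet_disjoint hjk) hi.2 (hNk hi.1)
    simp [this]

theorem inter_sdiff_of_disjoint {P S T : Finset GolayPt} (h : Disjoint P T) : (S \ P) ∩ T = S ∩ T := by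
  ext i
  simp only [Finset.mem_inter, Finset.mem_sdiff]
  exact ⟨fun ⟨⟨a, _⟩, b⟩ => ⟨a, b⟩, fun ⟨a, b⟩ => ⟨⟨a, fun hp => Finset.disjoint_left.1 h hp b⟩, b⟩⟩

/-- a codeword correction and a sextet for an octad pattern -/
theorem sx_octad {P N : Finset GolayPt} (hP : InC P) (e : P.card = 8) (hPN : Disjoint P N) (hev : Even N.card) :
    ∃ c, InC c ∧ ∃ X : Sx, X.tet 0 ⊆ P ∧ ∀ j, Disjoint P (X.tet j) → Even ((N ∆ c) ∩ X.tet j).card := by
  obtain ⟨h, hc0, hh4, hhev⟩ := exists_small_rep N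
  set N' := h \ P with hN'
  have hNc : N ∆ (N ∆ h) = h := symmDiff_symmDiff_cancel_left N h
  have hdis : Disjoint P N' := Finset.disjoint_sdiff
  have hN'ev : Even N'.card := by
    have h1 := Finset.card_sdiff_add_card_inter h P
    have h2 : (N ∆ h) ∩ P = h ∩ P := by
      ext i
      simp only [Finset.mem_inter, Finset.mem_symmDiff]
      constructor
      · rintro ⟨⟨a, -⟩ | ⟨a, -⟩, b⟩
        · exact absurd a (Finset.disjoint_left.1 hPN b)
        · exact ⟨a, b⟩
      · exact fun ⟨a, b⟩ => ⟨Or.inr ⟨a, Finset.disjoint_left.1 hPN b⟩, b⟩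
    obtain ⟨r, hr⟩ := InC_inter_even hc0 hP
    obtain ⟨s, hs⟩ := hhev.2 hev
    rw [h2] at hr
    rw [Nat.even_iff, hN']; omega
  have hN'4 : N'.card ≤ 4 := (Finset.card_le_card Finset.sdiff_subset).trans hh4
  have main : ∀ c, InC c → (((N ∆ c) \ P).card = 0 ∨ ((N ∆ c) \ P).card = 2) → ∃ c, InC c ∧ ∃ X : Sx, X.tet 0 ⊆ P ∧
      ∀ j, Disjoint P (X.tet j) → Even ((N ∆ c) ∩ X.tet j).card := fun c hc hcard => by
    obtain ⟨X, hX, hXj⟩ := sx_pair hP e Finset.disjoint_sdiff hcard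
    exact ⟨c, hc, X, hX, fun j hj => by rw [← inter_sdiff_of_disjoint hj]; exact hXj j hj⟩
  obtain ⟨r, hr⟩ := hN'ev
  rcases (show N'.card = 0 ∨ N'.card = 2 ∨ N'.card = 4 by omega) with h0 | h0 | h4
  · exact main _ hc0 (by rw [hNc]; exact Or.inl h0)
  · exact main _ hc0 (by rw [hNc]; exact Or.inr h0)
  obtain ⟨X, hX⟩ := exists_sx N' h4
  have hd0 : (P ∩ X.tet 0).card = 0 := by rw [hX, Finset.disjoint_iff_inter_eq_empty.1 hdis, Finset.card_empty]
  have hevj : ∀ j, Even (P ∩ X.tet j).card := fun j => by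
    have := X.parity hP j 0
    rw [hd0] at this; simpa using this
  by_cases hfull : ∃ j, (P ∩ X.tet j).card = 4
  · obtain ⟨j, hj⟩ := hfull
    have hsub : X.tet j ⊆ P := by
      rw [← Finset.eq_of_subset_of_card_le (Finset.inter_subset_right : P ∩ X.tet j ⊆ X.tet j) (by rw [X.tet_card, hj])]
      exact Finset.inter_subset_left
    obtain ⟨Y, hY⟩ := exists_sx_swap X j
    refine ⟨_, hc0, Y, by rw [hY, Equiv.swap_apply_left]; exact hsub, fun k hk => ?_⟩
    rw [hNc, ← inter_sdiff_of_disjoint hk, ← hN', hY, ← hX]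
    by_cases h1 : Equiv.swap 0 j k = 0
    · rw [h1, Finset.inter_self, X.tet_card]; decide
    · rw [Finset.disjoint_iff_inter_eq_empty.1 (X.tet_disjoint (Ne.symm h1))]; simp
  obtain ⟨j, hj⟩ : ∃ j, (P ∩ X.tet j).card = 2 := by
    by_contra hc
    push Not at hc
    have hz : ∀ j, (P ∩ X.tet j).card = 0 := fun j => by
      obtain ⟨r, hr⟩ := hevj j
      have := (Finset.card_le_card (Finset.inter_subset_right : P ∩ X.tet j ⊆ X.tet j)).trans (X.tet_card j).le
      have := hc j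
      have : (P ∩ X.tet j).card ≠ 4 := fun h => hfull ⟨j, h⟩
      omega
    obtain ⟨i, hi⟩ : P.Nonempty := Finset.card_pos.1 (by omega)
    exact absurd (hz (X.idx i)) (Nat.pos_iff_ne_zero.1 (Finset.card_pos.2 ⟨i, Finset.mem_inter.2 ⟨hi, X.mem_tet.2 rfl⟩⟩))
  have hj0 : (0 : Fin 6) ≠ j := fun hh => by rw [← hh, hd0] at hj; omega
  refine main _ (InC_symmDiff hc0 (X.InC_pair hj0)) (Or.inr ?_)
  have : (N ∆ ((N ∆ h) ∆ (X.tet 0 ∪ X.tet j))) \ P = X.tet j \ P := by
    rw [← symmDiff_assoc, hNc]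
    ext i
    have hdj := Finset.disjoint_left.1 (X.tet_disjoint hj0)
    simp only [Finset.mem_sdiff, Finset.mem_symmDiff, Finset.mem_union]
    have hi0 : i ∈ X.tet 0 ↔ i ∈ h ∧ i ∉ P := by rw [hX, hN', Finset.mem_sdiff]
    by_cases hp : i ∈ P
    · simp [hp]
    · by_cases hh : i ∈ h
      · have := hdj (hi0.2 ⟨hh, hp⟩); simp [hp, hh, hi0, this]
      · simp [hp, hh, hi0]
  rw [this]
  have := Finset.card_sdiff_add_card_inter (X.tet j) P
  rw [Finset.inter_comm, hj, X.tet_card] at this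
  omega

/-- shorten the pattern of an even singular vector modulo twice the lattice -/
theorem clEq_step {x : Vec} (h : LatM 0 x) (h32 : (32 : ℤ) ∣ sqNorm x) (hne : pat 0 x ≠ ∅) :
    ∃ y, ClEq x y ∧ LatM 0 y ∧ (pat 0 y).card < (pat 0 x).card := by
  have hx : x ∈ leechLattice := (mem_leech_iff _).2 ⟨0, h⟩
  obtain ⟨ho, hop, -⟩ := oddMin_latM
  have hoL : oddMin ∈ leechLattice := (mem_leech_iff _).2 ⟨1, ho⟩
  by_cases hbig : 16 ≤ (pat 0 x).card
  · refine ⟨x - 2 • oddMin, ClEq.of_cong ⟨oddMin, hoL, by abel⟩, latM_of_mem (sub_mem hx (nsmul_mem hoL 2)) (i := none) (by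
      have := h.1 none; simp only [two_nsmul, Pi.sub_apply, Pi.add_apply]; omega), ?_⟩
    have e : pat 0 (x - 2 • oddMin) = Finset.univ \ pat 0 x := by
      ext i
      have := h.1 i; have := ho.1 i
      simp only [mem_pat, Finset.mem_sdiff, Finset.mem_univ, true_and, two_nsmul, Pi.sub_apply, Pi.add_apply]
      omega
    rw [e, Finset.card_sdiff_of_subset (Finset.subset_univ _), Finset.card_univ, card_pt]
    omega
  set P := pat 0 x with hP
  set N := twos x with hN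
  have hPN : Disjoint P N := Finset.disjoint_left.2 fun i hi hi' => (h.mem_pat_iff i).1 hi (mem_twos.1 hi').1
  obtain ⟨c, hc, X, hX0, hXj⟩ : ∃ c, InC c ∧ ∃ X : Sx, X.tet 0 ⊆ P ∧
      ∀ j, Disjoint P (X.tet j) → Even ((N ∆ c) ∩ X.tet j).card := by
    have hpos := Finset.card_pos.2 (Finset.nonempty_iff_ne_empty.2 hne)
    rcases InC_weights h.2.2 with e | e | e | e | e <;> rw [← hP] at e
    · omega
    · exact sx_octad h.2.2 e hPN (twos_even_card h h32 e)
    · obtain ⟨T, hTP, hT⟩ := exists_four_of_le (S := P) (by omega)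
      obtain ⟨X, hX⟩ := exists_sx T hT
      have huniq : ∀ j k, Disjoint P (X.tet j) → Disjoint P (X.tet k) → j = k := fun j k hj hk => by
        by_contra hjk
        have hw := InC_weights (InC_symmDiff h.2.2 (X.InC_pair hjk))
        have hd : Disjoint P (X.tet j ∪ X.tet k) := Finset.disjoint_union_right.2 ⟨hj, hk⟩
        rw [← hP, Disjoint.symmDiff_eq_sup hd, Finset.sup_eq_union, Finset.card_union_of_disjoint hd,
          Finset.card_union_of_disjoint (X.tet_disjoint hjk), X.tet_card, X.tet_card, e] at hw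
        omega
      by_cases hodd : ∃ j, Disjoint P (X.tet j) ∧ ¬ Even (N ∩ X.tet j).card
      · obtain ⟨j, hj, hjo⟩ := hodd
        obtain ⟨c, hc, hc1⟩ := exists_InC_odd (T := X.tet j) (by rw [X.tet_card]; norm_num)
          (Finset.card_pos.1 (by rw [X.tet_card]; norm_num))
        refine ⟨c, hc, X, hX ▸ hTP, fun k hk => ?_⟩
        rw [← huniq j k hj hk]
        have hcs : ((N ∆ c) ∩ X.tet j) = (N ∩ X.tet j) ∆ (c ∩ X.tet j) := by
          ext i; simp only [Finset.mem_inter, Finset.mem_symmDiff]; tauto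
        have := card_symmDiff_add (N ∩ X.tet j) (c ∩ X.tet j)
        rw [Nat.even_iff] at hjo ⊢
        rw [hcs]; omega
      · push Not at hodd
        exact ⟨∅, InC_empty, X, hX ▸ hTP, fun j hj => by
          rw [← Finset.bot_eq_empty, symmDiff_bot]; exact hodd j hj⟩
    all_goals omega
  obtain ⟨hl, -⟩ := twoVec_latM hc
  have hcL : twoVec c ∈ leechLattice := (mem_leech_iff _).2 ⟨0, hl⟩
  set x' := x + 2 • twoVec c with hx'
  have hx'L : x' ∈ leechLattice := add_mem hx (nsmul_mem hcL 2)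
  have hxi : ∀ i, x' i = x i + if i ∈ c then 4 else 0 := fun i => by
    simp only [hx', two_nsmul, Pi.add_apply, twoVec]; split <;> omega
  have hl' : LatM 0 x' := latM_of_mem hx'L (i := none) (by have := h.1 none; rw [hxi]; split <;> omega)
  have hpat : pat 0 x' = P := by
    ext i; rw [hP, mem_pat, mem_pat, hxi]; split <;> omega
  have hxy : ClEq x x' := ClEq.of_cong ⟨-twoVec c, neg_mem hcL, by rw [hx', smul_neg]; abel⟩
  obtain ⟨y, hy, hy0, hlt⟩ := pat_step hl' X (hpat ▸ hX0) (fun j hj => by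
    rw [hpat] at hj
    have e : twos x' ∩ X.tet j = (N ∆ c) ∩ X.tet j := by
      ext i
      simp only [Finset.mem_inter, and_congr_left_iff]
      intro hij
      have hnp : i ∉ pat 0 x := fun hh => Finset.disjoint_left.1 hj hh hij
      rw [mem_pat] at hnp
      have := h.1 i
      rw [Finset.mem_symmDiff, hN, mem_twos, mem_twos]
      simp only [half, hxi i]
      by_cases hic : i ∈ c <;> simp [hic] <;> omega
    rw [e]; exact hXj j hj)
  exact ⟨y, hxy.trans hx (ClEq.of_coEq hy), hy0, by rw [hpat] at hlt; exact hlt⟩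

/-- singular classes fall in two orbits -/
theorem class_normal {x : Vec} (hx : x ∈ leechLattice) (h32 : (32 : ℤ) ∣ sqNorm x) (h0 : ¬ Cong x 0) :
    ClEq x Spor.vecU ∨ ClEq x (e8 none) := by
  obtain ⟨y, hxy, hy⟩ := coEq_even hx
  obtain ⟨z, hxz, hz, hzp⟩ : ∃ z, ClEq x z ∧ LatM 0 z ∧ pat 0 z = ∅ := by
    suffices ∀ n (y : Vec), (pat 0 y).card = n → LatM 0 y → ClEq x y → ∃ z, ClEq x z ∧ LatM 0 z ∧ pat 0 z = ∅ from
      this _ y rfl hy (ClEq.of_coEq hxy)
    intro n
    induction n using Nat.strong_induction_on with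
    | _ n ih =>
      intro y hn hy hxy
      by_cases hp : pat 0 y = ∅
      · exact ⟨y, hxy, hy, hp⟩
      · obtain ⟨w, hyw, hw, hlt⟩ := clEq_step hy (hxy.norm hx h32) hp
        exact ih _ (hn ▸ hlt) w rfl hw (hxy.trans hx hyw)
  obtain ⟨w, hw, -, hzw, hn⟩ := four_class hz hzp (hxz.ne_zero hx h0)
  have hxw := hxz.trans hx (ClEq.of_cong hzw)
  have hwL : w ∈ leechLattice := (mem_leech_iff _).2 ⟨0, hw⟩
  rcases hn with hn | hn
  · exact Or.inl (hxw.trans hx (ClEq.of_coEq (coEq_min hwL hn)))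
  · exact Or.inr (hxw.trans hx (ClEq.of_coEq (coEq_cross hwL hn)))

end Cfsg.Agent.Leech
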