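import Cfsg.Agent.Lib.Leech.Lattice
import Cfsg.Prelude.Def_Spor_Conway

set_option autoImplicit false

namespace Cfsg.Agent.Leech
open Cfsg
open scoped symmDiff

theorem co0_smul_def (g : ↥Co0) (v : ↥leechLattice) : g • v = (g : Equiv.Perm ↥leechLattice) v := rfl

theorem co0_smul_add (g : ↥Co0) (v w : ↥leechLattice) : g • (v + w) = g • v + g • w := g.2.1 v w

theorem co0_smul_norm (g : ↥Co0) (v : ↥leechLattice) :
    sqNorm ((g • v : ↥leechLattice) : Vec) = sqNorm (v : Vec) := g.2.2 v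

/-- additive hom given by an automorphism -/
def coHom (g : ↥Co0) : ↥leechLattice →+ ↥leechLattice :=
  AddMonoidHom.mk' (fun v => g • v) (co0_smul_add g)

theorem coHom_apply (g : ↥Co0) (v : ↥leechLattice) : coHom g v = g • v := rfl

theorem co0_smul_zero (g : ↥Co0) : g • (0 : ↥leechLattice) = 0 := (coHom g).map_zero

theorem co0_smul_neg (g : ↥Co0) (v : ↥leechLattice) : g • (-v) = -(g • v) := (coHom g).map_neg v

theorem co0_smul_sub (g : ↥Co0) (v w : ↥leechLattice) : g • (v - w) = g • v - g • w :=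
  (coHom g).map_sub v w

theorem co0_smul_nsmul (g : ↥Co0) (n : ℕ) (v : ↥leechLattice) : g • (n • v) = n • (g • v) :=
  map_nsmul (coHom g) n v

theorem co0_smul_dot (g : ↥Co0) (v w : ↥leechLattice) :
    dotInt ((g • v : ↥leechLattice) : Vec) ((g • w : ↥leechLattice) : Vec) = dotInt (v : Vec) (w : Vec) := by
  have h1 := sqNorm_add ((g • v : ↥leechLattice) : Vec) ((g • w : ↥leechLattice) : Vec)
  have h2 := sqNorm_add (v : Vec) (w : Vec)
  have h3 : sqNorm ((g • v : ↥leechLattice) + (g • w : ↥leechLattice) : Vec) = sqNorm ((v : Vec) + (w : Vec)) := by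
    rw [← AddSubgroup.coe_add, ← co0_smul_add, co0_smul_norm, AddSubgroup.coe_add]
  rw [co0_smul_norm, co0_smul_norm, h3] at h1
  linarith

/-- the action on integer vectors (identity outside the lattice) -/
noncomputable def ap (g : ↥Co0) (x : Vec) : Vec :=
  haveI := Classical.propDecidable
  if hx : x ∈ leechLattice then ((g • (⟨x, hx⟩ : ↥leechLattice) : ↥leechLattice) : Vec) else x

theorem ap_coe (g : ↥Co0) (v : ↥leechLattice) : ap g (v : Vec) = ((g • v : ↥leechLattice) : Vec) := by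
  simp [ap]

theorem ap_mem (g : ↥Co0) {x : Vec} (hx : x ∈ leechLattice) : ap g x ∈ leechLattice := by
  have e : ap g x = ((g • (⟨x, hx⟩ : ↥leechLattice) : ↥leechLattice) : Vec) := ap_coe g ⟨x, hx⟩
  rw [e]; exact SetLike.coe_mem _

theorem ap_add (g : ↥Co0) {x y : Vec} (hx : x ∈ leechLattice) (hy : y ∈ leechLattice) :
    ap g (x + y) = ap g x + ap g y := by
  have : ap g ((⟨x, hx⟩ + ⟨y, hy⟩ : ↥leechLattice) : Vec) =
      ap g (((⟨x, hx⟩ : ↥leechLattice)) : Vec) + ap g ((⟨y, hy⟩ : ↥leechLattice) : Vec) := by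
    rw [ap_coe, ap_coe, ap_coe, co0_smul_add, AddSubgroup.coe_add]
  exact this

theorem ap_neg (g : ↥Co0) {x : Vec} (hx : x ∈ leechLattice) : ap g (-x) = -ap g x := by
  have : ap g ((-⟨x, hx⟩ : ↥leechLattice) : Vec) = -ap g ((⟨x, hx⟩ : ↥leechLattice) : Vec) := by
    rw [ap_coe, ap_coe, co0_smul_neg, AddSubgroup.coe_neg]
  exact this

theorem ap_sub (g : ↥Co0) {x y : Vec} (hx : x ∈ leechLattice) (hy : y ∈ leechLattice) :
    ap g (x - y) = ap g x - ap g y := by
  rw [sub_eq_add_neg, ap_add g hx (neg_mem hy), ap_neg g hy, sub_eq_add_neg]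

theorem ap_zero (g : ↥Co0) : ap g 0 = 0 := by
  have := ap_coe g 0
  rwa [co0_smul_zero, AddSubgroup.coe_zero] at this

theorem ap_norm (g : ↥Co0) {x : Vec} (hx : x ∈ leechLattice) : sqNorm (ap g x) = sqNorm x := by
  have := co0_smul_norm g ⟨x, hx⟩
  rwa [← ap_coe] at this

theorem ap_dot (g : ↥Co0) {x y : Vec} (hx : x ∈ leechLattice) (hy : y ∈ leechLattice) :
    dotInt (ap g x) (ap g y) = dotInt x y := by
  have := co0_smul_dot g ⟨x, hx⟩ ⟨y, hy⟩
  rwa [← ap_coe, ← ap_coe] at this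

theorem ap_one (x : Vec) : ap 1 x = x := by
  by_cases hx : x ∈ leechLattice
  · have := ap_coe 1 ⟨x, hx⟩
    rwa [one_smul] at this
  · simp [ap, hx]

theorem ap_mul (g h : ↥Co0) {x : Vec} (hx : x ∈ leechLattice) : ap (g * h) x = ap g (ap h x) := by
  have : ap (g * h) ((⟨x, hx⟩ : ↥leechLattice) : Vec) = ap g (ap h ((⟨x, hx⟩ : ↥leechLattice) : Vec)) := by
    rw [ap_coe, ap_coe, ap_coe, mul_smul]
  exact this

theorem ap_inv_ap (g : ↥Co0) {x : Vec} (hx : x ∈ leechLattice) : ap g⁻¹ (ap g x) = x := by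
  rw [← ap_mul _ _ hx, inv_mul_cancel, ap_one]

theorem ap_inj (g : ↥Co0) {x y : Vec} (hx : x ∈ leechLattice) (hy : y ∈ leechLattice)
    (h : ap g x = ap g y) : x = y := by
  rw [← ap_inv_ap g hx, h, ap_inv_ap g hy]

theorem ap_nsmul_two (g : ↥Co0) {x : Vec} (hx : x ∈ leechLattice) : ap g (2 • x) = 2 • ap g x := by
  rw [two_nsmul, two_nsmul, ap_add g hx hx]

theorem ap_cong (g : ↥Co0) {x y : Vec} (hx : x ∈ leechLattice) (hy : y ∈ leechLattice) (h : Cong x y) :
    Cong (ap g x) (ap g y) := by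
  obtain ⟨z, hz, he⟩ := h
  exact ⟨ap g z, ap_mem g hz, by rw [← ap_sub g hx hy, he, ap_nsmul_two g hz]⟩

/-- build an automorphism from a pair of mutually inverse maps -/
def mkCo0 (f f' : Vec → Vec) (hf : ∀ x ∈ leechLattice, f x ∈ leechLattice)
    (hf' : ∀ x ∈ leechLattice, f' x ∈ leechLattice)
    (h1 : ∀ x ∈ leechLattice, f' (f x) = x) (h2 : ∀ x ∈ leechLattice, f (f' x) = x)
    (hadd : ∀ x ∈ leechLattice, ∀ y ∈ leechLattice, f (x + y) = f x + f y)
    (hnorm : ∀ x ∈ leechLattice, sqNorm (f x) = sqNorm x) : ↥Co0 :=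
  ⟨{ toFun := fun v => ⟨f v, hf v v.2⟩
     invFun := fun v => ⟨f' v, hf' v v.2⟩
     left_inv := fun v => Subtype.ext (h1 v v.2)
     right_inv := fun v => Subtype.ext (h2 v v.2) },
   fun v w => Subtype.ext (hadd v v.2 w w.2), fun v => hnorm v v.2⟩

theorem ap_mkCo0 (f f' : Vec → Vec) (hf : ∀ x ∈ leechLattice, f x ∈ leechLattice)
    (hf' : ∀ x ∈ leechLattice, f' x ∈ leechLattice)
    (h1 : ∀ x ∈ leechLattice, f' (f x) = x) (h2 : ∀ x ∈ leechLattice, f (f' x) = x)
    (hadd : ∀ x ∈ leechLattice, ∀ y ∈ leechLattice, f (x + y) = f x + f y)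
    (hnorm : ∀ x ∈ leechLattice, sqNorm (f x) = sqNorm x) {x : Vec} (hx : x ∈ leechLattice) :
    ap (mkCo0 f f' hf hf' h1 h2 hadd hnorm) x = f x := by
  simp only [ap, dif_pos hx]; rfl

/-- negation as an automorphism -/
def negOne : ↥Co0 :=
  mkCo0 (fun x => -x) (fun x => -x) (fun _ h => neg_mem h) (fun _ h => neg_mem h)
    (fun x _ => neg_neg x) (fun x _ => neg_neg x) (fun x _ y _ => neg_add x y) (fun x _ => sqNorm_neg x)

theorem negOne_smul (v : ↥leechLattice) : negOne • v = -v := rfl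

theorem ap_negOne {x : Vec} (hx : x ∈ leechLattice) : ap negOne x = -x := ap_mkCo0 _ _ _ _ _ _ _ _ hx

/-! ### permutations in M24 and sign changes -/

theorem M24_map {σ : Equiv.Perm GolayPt} (hσ : σ ∈ M24) (S : Finset GolayPt) :
    InC (S.image σ) ↔ InC S := by
  open Pointwise in
  have h : σ • (supports (golayCode : Set (GolayPt → ZMod 2))) = supports (golayCode : Set (GolayPt → ZMod 2)) :=
    MulAction.mem_stabilizer_iff.1 hσ
  constructor
  · intro hS
    have : S.image σ ∈ σ • (supports (golayCode : Set (GolayPt → ZMod 2))) := by rw [h]; exact hS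
    obtain ⟨T, hT, hTe⟩ := Set.mem_smul_set.1 this
    have e : T.image σ = S.image σ := hTe
    rw [← Finset.image_injective σ.injective e]; exact hT
  · intro hS
    have : σ • S ∈ σ • (supports (golayCode : Set (GolayPt → ZMod 2))) := Set.smul_mem_smul_set hS
    rw [h] at this
    exact this

/-- permute coordinates by `σ`, then negate those in `S` -/
def mono (σ : Equiv.Perm GolayPt) (S : Finset GolayPt) (x : Vec) : Vec :=
  fun i => if i ∈ S then -x (σ.symm i) else x (σ.symm i)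

theorem mono_norm (σ : Equiv.Perm GolayPt) (S : Finset GolayPt) (x : Vec) :
    sqNorm (mono σ S x) = sqNorm x := by
  simp only [sqNorm, mono, apply_ite (fun t : ℤ => t ^ 2), neg_sq, ite_self]
  exact Equiv.sum_comp σ.symm fun i => x i ^ 2

theorem mono_add (σ : Equiv.Perm GolayPt) (S : Finset GolayPt) (x y : Vec) :
    mono σ S (x + y) = mono σ S x + mono σ S y := by
  funext i
  simp only [mono, Pi.add_apply]
  split <;> omega

theorem sign_mem {S : Finset GolayPt} (hS : InC S) {x : Vec} (hx : x ∈ leechLattice) :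
    mono 1 S x ∈ leechLattice := by
  obtain ⟨m, hm⟩ := (mem_leech_iff x).1 hx
  have hval : ∀ i, mono 1 S x i = if i ∈ S then -x i else x i := fun i => rfl
  refine (mem_leech_iff _).2 ⟨m, fun i => ?_, ?_, ?_⟩
  · have := hm.1 i; rw [hval]; split <;> omega
  · have e : ∑ i, mono 1 S x i = (∑ i, x i) - 2 * ∑ i ∈ S, x i := by
      have h1 : ∑ i ∈ S, x i = ∑ i, if i ∈ S then x i else 0 := by
        rw [← Finset.sum_filter]; simp
      rw [h1, Finset.mul_sum, ← Finset.sum_sub_distrib]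
      exact Finset.sum_congr rfl fun i _ => by rw [hval]; split <;> omega
    have h4 := sum_emod_eq S x (fun i => m + (if i ∈ pat m x then (2 : ℤ) else 0)) 4 (fun i _ => by
      have := hm.1 i
      by_cases hi : i ∈ pat m x
      · rw [if_pos hi]; rw [mem_pat] at hi; omega
      · rw [if_neg hi]; rw [mem_pat, not_not] at hi; omega)
    have hcount : (∑ i ∈ S, (m + if i ∈ pat m x then (2 : ℤ) else 0)) =
        S.card * m + 2 * ((S ∩ pat m x).card : ℤ) := by
      rw [Finset.sum_add_distrib, ← Finset.sum_filter, Finset.filter_mem_eq_inter]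
      simp [mul_comm]
    rw [hcount] at h4
    have hS4 : (4 : ℤ) ∣ (S.card : ℤ) * m := (InC_four_dvd hS).mul_right m
    obtain ⟨r, hr⟩ := InC_inter_even hS hm.2.2
    have := hm.2.1
    rw [e]; omega
  · by_cases hodd : (2 : ℤ) ∣ m
    · have e' : pat m (mono 1 S x) = pat m x := by
        ext i
        have := hm.1 i
        simp only [mem_pat, hval]; split <;> omega
      rw [e']; exact hm.2.2
    · have e' : pat m (mono 1 S x) = pat m x ∆ S := by
        ext i
        have := hm.1 i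
        simp only [mem_pat, hval, Finset.mem_symmDiff]
        split <;> rename_i h <;> simp [h] <;> omega
      rw [e']; exact InC_symmDiff hm.2.2 hS

theorem perm_mem {σ : Equiv.Perm GolayPt} (hσ : σ ∈ M24) {x : Vec} (hx : x ∈ leechLattice) :
    mono σ ∅ x ∈ leechLattice := by
  obtain ⟨m, h1, h2, h3⟩ := (mem_leech_iff x).1 hx
  refine (mem_leech_iff _).2 ⟨m, fun i => ?_, ?_, ?_⟩
  · simpa [mono] using h1 (σ.symm i)
  · have : ∑ i, mono σ ∅ x i = ∑ i, x i := by
      simp only [mono, Finset.notMem_empty, if_false]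
      exact Equiv.sum_comp σ.symm x
    rw [this]; exact h2
  · have e : pat m (mono σ ∅ x) = (pat m x).image σ := by
      ext i
      simp only [mem_pat, mono, Finset.notMem_empty, if_false, Finset.mem_image]
      exact ⟨fun h => ⟨σ.symm i, h, σ.apply_symm_apply i⟩, by rintro ⟨j, hj, rfl⟩; simpa using hj⟩
    rw [e]; exact (M24_map hσ _).2 h3

/-- the coordinate permutation automorphism -/
def permCo (σ : Equiv.Perm GolayPt) (hσ : σ ∈ M24) : ↥Co0 :=
  mkCo0 (mono σ ∅) (mono σ⁻¹ ∅) (fun _ => perm_mem hσ) (fun _ => perm_mem (inv_mem hσ))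
    (fun x _ => funext fun i => by simp [mono, Equiv.Perm.inv_def])
    (fun x _ => funext fun i => by simp [mono, Equiv.Perm.inv_def])
    (fun x _ y _ => mono_add σ ∅ x y) (fun x _ => mono_norm σ ∅ x)

theorem ap_permCo {σ : Equiv.Perm GolayPt} (hσ : σ ∈ M24) {x : Vec} (hx : x ∈ leechLattice) (i : GolayPt) :
    ap (permCo σ hσ) x i = x (σ.symm i) := by
  rw [permCo, ap_mkCo0 _ _ _ _ _ _ _ _ hx]; simp [mono]

/-- the sign change automorphism -/
def signCo (S : Finset GolayPt) (hS : InC S) : ↥Co0 :=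
  mkCo0 (mono 1 S) (mono 1 S) (fun _ => sign_mem hS) (fun _ => sign_mem hS)
    (fun x _ => funext fun i => by by_cases h : i ∈ S <;> simp [mono, h, Equiv.Perm.one_def])
    (fun x _ => funext fun i => by by_cases h : i ∈ S <;> simp [mono, h, Equiv.Perm.one_def])
    (fun x _ y _ => mono_add 1 S x y) (fun x _ => mono_norm 1 S x)

theorem ap_signCo {S : Finset GolayPt} (hS : InC S) {x : Vec} (hx : x ∈ leechLattice) (i : GolayPt) :
    ap (signCo S hS) x i = if i ∈ S then -x i else x i := by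
  rw [signCo, ap_mkCo0 _ _ _ _ _ _ _ _ hx]; rfl

end Cfsg.Agent.Leech
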