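import Cfsg.Agent.Lib.Leech.Gen

set_option autoImplicit false

namespace Cfsg.Agent.Leech
open Cfsg
open scoped symmDiff

theorem cong_zero_iff {x : Vec} : Cong x 0 ↔ ∃ z ∈ leechLattice, x = 2 • z := by
  simp [Cong]

/-- an invariant subgroup between twice the lattice and the lattice is trivial -/
theorem irreducible (M : AddSubgroup Vec) (h2 : ∀ z ∈ leechLattice, 2 • z ∈ M) (hle : M ≤ leechLattice)
    (hinv : ∀ g : ↥Co0, ∀ x ∈ M, ap g x ∈ M) : (∀ x ∈ M, Cong x 0) ∨ M = leechLattice := by
  by_contra hc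
  push Not at hc
  obtain ⟨⟨v, hvM, hv⟩, hne⟩ := hc
  have hcl : ∀ x y, Cong x y → y ∈ M → x ∈ M := fun x y ⟨z, hz, he⟩ hy => by
    have : x = 2 • z + y := by rw [← he]; abel
    rw [this]; exact add_mem (h2 z hz) hy
  -- a vector in `M`, outside twice the lattice, with entries divisible by four
  obtain ⟨u, huM, hu, hup, hu0⟩ : ∃ u ∈ M, LatM 0 u ∧ pat 0 u = ∅ ∧ ¬ Cong u 0 := by
    have hsub : ∀ c (hc : InC c) (x : Vec), x ∈ M → ap (signCo c hc) x - x ∈ M := fun c hc x hx =>
      sub_mem (hinv _ x hx) hx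
    have hval : ∀ c (hc : InC c) (x : Vec), x ∈ leechLattice → ∀ i,
        (ap (signCo c hc) x - x) i = if i ∈ c then -2 * x i else 0 := fun c hc x hx i => by
      rw [Pi.sub_apply, ap_signCo hc hx]; split <;> ring
    -- first an even one
    obtain ⟨w, hwM, hw, hw0⟩ : ∃ w ∈ M, LatM 0 w ∧ ¬ Cong w 0 := by
      rcases exists_witness (hle hvM) with h | h
      · exact ⟨v, hvM, h, hv⟩
      · obtain ⟨S, hS⟩ : ∃ S : Finset GolayPt, S.card = 5 :=
          ⟨_, (Finset.exists_subset_card_eq (s := (Finset.univ : Finset GolayPt)) (n := 5)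
            (by rw [Finset.card_univ, card_pt]; norm_num)).choose_spec.2⟩
        obtain ⟨O, hO, hO8, -⟩ := InC_five hS
        have hm := hsub O hO v hvM
        have hl : LatM 0 (ap (signCo O hO) v - v) := latM_of_mem (hle hm) (i := none) (by
          rw [hval O hO v (hle hvM)]; split <;> omega)
        have hp : pat 0 (ap (signCo O hO) v - v) = O := by
          ext i
          have := h.1 i
          rw [mem_pat, hval O hO v (hle hvM)]
          by_cases hi : i ∈ O <;> simp [hi] <;> omega
        refine ⟨_, hm, hl, ?_⟩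
        rintro ⟨z, hz, he⟩
        obtain ⟨i, hi⟩ : O.Nonempty := Finset.card_pos.1 (by omega)
        obtain ⟨j, hj⟩ : (Finset.univ \ O).Nonempty := Finset.card_pos.1 (by
          rw [Finset.card_sdiff_of_subset (Finset.subset_univ _), Finset.card_univ, card_pt, hO8]; norm_num)
        have hj' : j ∉ O := (Finset.mem_sdiff.1 hj).2
        have ei := congrFun he i
        have ej := congrFun he j
        simp only [Pi.sub_apply, Pi.zero_apply, Pi.smul_apply, nsmul_eq_mul, Nat.cast_ofNat, sub_zero] at ei ej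
        rw [← Pi.sub_apply, hval O hO v (hle hvM), if_pos hi] at ei
        rw [← Pi.sub_apply, hval O hO v (hle hvM), if_neg hj'] at ej
        obtain ⟨m, hm'⟩ := (mem_leech_iff z).1 hz
        have := hm'.1 i; have := hm'.1 j; have := h.1 i
        omega
    by_cases hd0 : pat 0 w = ∅
    · exact ⟨w, hwM, hw, hd0, hw0⟩
    by_cases hdu : pat 0 w = Finset.univ
    · obtain ⟨h1, hp1, -⟩ := oddMin_latM
      have hL : oddMin ∈ leechLattice := (mem_leech_iff _).2 ⟨1, h1⟩
      refine ⟨w + 2 • oddMin, add_mem hwM (h2 _ hL), latM_of_mem (add_mem (hle hwM) (nsmul_mem hL 2)) (i := none) (by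
        have := hw.1 none; simp only [two_nsmul, Pi.add_apply]; omega), ?_, ?_⟩
      · refine Finset.eq_empty_of_forall_notMem fun i hi => ?_
        have h' : i ∈ pat 0 w := by rw [hdu]; exact Finset.mem_univ i
        have := h1.1 i
        have := hw.1 i
        rw [mem_pat] at hi h'
        simp only [two_nsmul, Pi.add_apply] at hi
        omega
      · intro h
        refine hw0 (Cong.trans ⟨-oddMin, neg_mem hL, ?_⟩ h)
        rw [sub_add_eq_sub_sub, sub_self, zero_sub, smul_neg]
    · obtain ⟨i, hi⟩ := Finset.nonempty_iff_ne_empty.2 hd0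
      obtain ⟨j, hj⟩ : (Finset.univ \ pat 0 w).Nonempty := by
        rw [Finset.sdiff_nonempty]; exact fun h => hdu (Finset.univ_subset_iff.1 h)
      have hj' : j ∉ pat 0 w := (Finset.mem_sdiff.1 hj).2
      obtain ⟨S, hsub5, hS⟩ := Finset.exists_subsuperset_card_eq (s := ({i, j} : Finset GolayPt))
        (t := Finset.univ) (n := 5) (Finset.subset_univ _) (Finset.card_le_two.trans (by norm_num))
        (by rw [Finset.card_univ, card_pt]; norm_num)
      obtain ⟨O, hO, hO8, hSO⟩ := InC_five hS.2
      have hiO : i ∈ O := hSO (hsub5 (by simp))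
      have hjO : j ∈ O := hSO (hsub5 (by simp))
      have hm := hsub O hO w hwM
      have hv' := hval O hO w (hle hwM)
      have hl : LatM 0 (ap (signCo O hO) w - w) := latM_of_mem (hle hm) (i := none) (by
        have := hw.1 none; rw [hv']; split <;> omega)
      refine ⟨_, hm, hl, ?_, ?_⟩
      · refine Finset.eq_empty_of_forall_notMem fun k hk => ?_
        have := hw.1 k
        rw [mem_pat, hv'] at hk
        split at hk <;> omega
      · rintro ⟨z, hz, he⟩
        have hzv : ∀ k, z k = if k ∈ O then -w k else 0 := fun k => by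
          have := congrFun he k
          rw [Pi.sub_apply, hv', Pi.zero_apply, sub_zero, Pi.smul_apply, nsmul_eq_mul, Nat.cast_ofNat] at this
          split at this <;> rename_i hk <;> simp only [hk, if_true, if_false] <;> omega
        have hzl : LatM 0 z := latM_of_mem hz (i := j) (by
          have := hw.1 j; rw [hzv]; split <;> omega)
        have e : pat 0 z = O ∩ pat 0 w := by
          ext k
          rw [mem_pat, hzv, Finset.mem_inter, mem_pat]
          by_cases hk : k ∈ O <;> simp [hk]
        have hsubO : pat 0 z ⊆ O := e ▸ Finset.inter_subset_left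
        have hlt : (pat 0 z).card < 8 := hO8 ▸ Finset.card_lt_card ⟨hsubO, fun h => hj' (by
          have := h hjO; rw [e] at this; exact (Finset.mem_inter.1 this).2)⟩
        have := InC_card_ge hzl.2.2 hlt
        rw [e] at this
        exact absurd (Finset.mem_inter.2 ⟨hiO, hi⟩) (by rw [this]; simp)
  obtain ⟨w, hw, -, huw, hn⟩ := four_class hu hup hu0
  have hwL : w ∈ leechLattice := (mem_leech_iff _).2 ⟨0, hw⟩
  have hwM : w ∈ M := hcl w u huw.symm huM
  have horb : ∀ x y, x ∈ M → CoEq x y → y ∈ M := fun x y hx ⟨g, hg⟩ => hg ▸ hinv g x hx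
  apply hne
  refine le_antisymm hle (le_of_min fun x hx hxn => ?_)
  rcases hn with hn | hn
  · exact horb w x hwM (coEq_of_norm32 hwL hx hn hxn)
  · obtain ⟨T, -, hT⟩ := Finset.exists_subset_card_eq (s := (Finset.univ : Finset GolayPt)) (n := 5)
      (by rw [Finset.card_univ, card_pt]; norm_num)
    obtain ⟨a, b, -, -, hab⟩ := Finset.one_lt_card_iff.1 (show 1 < T.card by omega)
    obtain ⟨c, d, e, hdist⟩ : ∃ c d e : GolayPt, c ≠ a ∧ c ≠ b ∧ d ≠ a ∧ d ≠ b ∧ d ≠ c ∧ e ≠ a ∧ e ≠ b ∧ e ≠ c ∧ e ≠ d := by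
      have h3 : 3 ≤ ((Finset.univ : Finset GolayPt) \ {a, b}).card := by
        rw [Finset.card_sdiff_of_subset (Finset.subset_univ _), Finset.card_univ, card_pt]
        have := Finset.card_le_two (a := a) (b := b); omega
      obtain ⟨t, ht, ht3⟩ := Finset.exists_subset_card_eq h3
      obtain ⟨c, d, e, hcd, hce, hde, rfl⟩ := Finset.card_eq_three.1 ht3
      have hcc := ht (by simp : c ∈ _); have hdd := ht (by simp : d ∈ _); have hee := ht (by simp : e ∈ _)
      simp only [Finset.mem_sdiff, Finset.mem_univ, true_and, Finset.mem_insert, Finset.mem_singleton, not_or] at hcc hdd hee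
      exact ⟨c, d, e, hcc.1, hcc.2, hdd.1, hdd.2, hcd.symm, hee.1, hee.2, hce.symm, hde.symm⟩
    obtain ⟨hca, hcb, hda, hdb, hdc, hea, heb, hec, hed⟩ := hdist
    have h64 : ∀ f, f ≠ a → f ≠ b → f ≠ c → sqNorm (e44 a b + e44 c f) = 64 := fun f hfa hfb hfc => by
      rw [sqNorm_add, e44_norm hab, e44_norm (Ne.symm hfc)]
      have : dotInt (e44 a b) (e44 c f) = 0 := Finset.sum_eq_zero fun k _ => by
        simp only [e44]
        by_cases h : k = a ∨ k = b
        · rw [if_pos h, if_neg (by rcases h with rfl | rfl <;> simp [Ne.symm hca, Ne.symm hcb, Ne.symm hfa, Ne.symm hfb])]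
          ring
        · rw [if_neg h, zero_mul]
      omega
    have hx1 : ∀ f, f ≠ a → f ≠ b → f ≠ c → e44 a b + e44 c f ∈ M := fun f hfa hfb hfc =>
      have hL := add_mem (e44_mem hab) (e44_mem (Ne.symm hfc))
      horb w _ hwM (coEq_of_norm64 hwL hL hn (h64 f hfa hfb hfc))
    have hd := sub_mem (hx1 d hda hdb hdc) (hx1 e hea heb hec)
    have e' : e44 a b + e44 c d - (e44 a b + e44 c e) = d44 d e := funext fun k => by
      simp only [Pi.sub_apply, Pi.add_apply, e44, d44]
      by_cases hk : k = c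
      · simp [hk, Ne.symm hdc, Ne.symm hec, hca, hcb]
      · by_cases hkd : k = d
        · simp [hkd, hdc, hed.symm]
        · by_cases hke : k = e <;> simp [hk, hkd, hke, hec, hed]
    rw [e'] at hd
    exact horb _ x hd (coEq_of_norm32 (d44_mem hed.symm) hx (d44_norm hed.symm) hxn)

end Cfsg.Agent.Leech
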