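import Cfsg.Agent.Lib.Leech.Stab
import Cfsg.Agent.Lib.Golay.Mathieu

set_option autoImplicit false

namespace Cfsg.Agent.Leech
open Cfsg
open scoped symmDiff

theorem ext_ap {g k : ↥Co0} (h : ∀ x ∈ leechLattice, ap g x = ap k x) : g = k :=
  Subtype.ext (Equiv.ext fun v => Subtype.ext (by have e := h v v.2; rwa [ap_coe, ap_coe] at e))

/-- the stabiliser of the standard frame -/
def frame : Subgroup ↥Co0 where
  carrier := {g | Cong (ap g (e8 none)) (e8 none)}
  one_mem' := by show Cong (ap 1 (e8 none)) (e8 none); rw [ap_one]; exact Cong.refl _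
  mul_mem' := fun {a b} ha hb => by
    show Cong (ap (a * b) (e8 none)) (e8 none)
    rw [ap_mul _ _ (e8_mem none)]
    exact (ap_cong a (ap_mem b (e8_mem none)) (e8_mem none) hb).trans ha
  inv_mem' := fun {a} ha => by
    show Cong (ap a⁻¹ (e8 none)) (e8 none)
    have := (ap_cong a⁻¹ (ap_mem a (e8_mem none)) (e8_mem none) ha).symm
    rwa [ap_inv_ap a (e8_mem none)] at this

theorem mem_frame {g : ↥Co0} : g ∈ frame ↔ Cong (ap g (e8 none)) (e8 none) := Iff.rfl

theorem frame_exists (g : ↥frame) : ∃ σ : ↥M24, ∃ S : Finset GolayPt, InC S ∧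
    ∀ x ∈ leechLattice, ap (g : ↥Co0) x = mono σ S x := by
  obtain ⟨σ, S, hσ, hS, h⟩ := stab_e8 (g : ↥Co0) g.2
  exact ⟨⟨σ, hσ⟩, S, hS, h⟩

theorem mono_unique {σ σ' : Equiv.Perm GolayPt} {S S' : Finset GolayPt}
    (h : ∀ i, mono σ S (e8 i) = mono σ' S' (e8 i)) : σ = σ' ∧ S = S' := by
  have hσ : σ = σ' := Equiv.ext fun i => by
    have := congrFun (h i) (σ i)
    simp only [mono, e8, Equiv.symm_apply_apply, if_true] at this
    by_contra hne
    have hne' : σ'.symm (σ i) ≠ i := fun hh => hne (by conv_rhs => rw [← hh]; simp)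
    rw [if_neg hne'] at this
    split at this <;> simp at this
  subst hσ
  refine ⟨rfl, Finset.ext fun k => ?_⟩
  have := congrFun (h (σ.symm k)) k
  simp only [mono, e8, if_true] at this
  by_cases h1 : k ∈ S <;> by_cases h2 : k ∈ S' <;> simp [h1, h2] at this ⊢

theorem mono_mono (σ τ : Equiv.Perm GolayPt) (S T : Finset GolayPt) (x : Vec) :
    mono σ S (mono τ T x) = mono (σ * τ) (S ∆ T.image σ) x := by
  funext i
  have hi : i ∈ T.image σ ↔ σ.symm i ∈ T := by
    rw [Finset.mem_image]
    exact ⟨fun ⟨j, hj, hji⟩ => by rw [← hji, Equiv.symm_apply_apply]; exact hj, fun h => ⟨_, h, σ.apply_symm_apply i⟩⟩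
  have hs : (σ * τ).symm i = τ.symm (σ.symm i) := rfl
  simp only [mono, Finset.mem_symmDiff, hi, hs]
  by_cases h1 : i ∈ S <;> by_cases h2 : σ.symm i ∈ T <;> simp [h1, h2]

/-- the permutation part of a frame automorphism -/
noncomputable def frameHom : ↥frame →* ↥M24 :=
  MonoidHom.mk' (fun g => (frame_exists g).choose) fun a b => by
    obtain ⟨Sa, -, ha⟩ := (frame_exists a).choose_spec
    obtain ⟨Sb, -, hb⟩ := (frame_exists b).choose_spec
    obtain ⟨Sab, -, hab⟩ := (frame_exists (a * b)).choose_spec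
    refine Subtype.ext ((mono_unique (S := Sab) (S' := Sa ∆ Sb.image ((frame_exists a).choose : ↥M24).1) fun i => ?_).1)
    have h := hab _ (e8_mem i)
    simp only [Subgroup.coe_mul] at h
    rw [ap_mul _ _ (e8_mem i), ha _ (ap_mem _ (e8_mem i)), hb _ (e8_mem i), mono_mono] at h
    exact h.symm

theorem frameHom_spec (g : ↥frame) : ∃ S, InC S ∧ ∀ x ∈ leechLattice, ap (g : ↥Co0) x = mono (frameHom g : Equiv.Perm GolayPt) S x :=
  (frame_exists g).choose_spec

theorem permCo_mem_frame {σ : Equiv.Perm GolayPt} (hσ : σ ∈ M24) : permCo σ hσ ∈ frame := by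
  rw [mem_frame, perm_e8 hσ]; exact cong_e8 _ _

theorem ap_permCo_mono {σ : Equiv.Perm GolayPt} (hσ : σ ∈ M24) {x : Vec} (hx : x ∈ leechLattice) :
    ap (permCo σ hσ) x = mono σ ∅ x := funext fun i => by
  rw [ap_permCo hσ hx]; simp [mono]

theorem frameHom_permCo {σ : Equiv.Perm GolayPt} (hσ : σ ∈ M24) : frameHom ⟨permCo σ hσ, permCo_mem_frame hσ⟩ = ⟨σ, hσ⟩ := by
  obtain ⟨S, -, h⟩ := frameHom_spec ⟨permCo σ hσ, permCo_mem_frame hσ⟩
  refine Subtype.ext ((mono_unique (S := S) (S' := ∅) fun i => ?_).1)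
  rw [← h _ (e8_mem i)]; exact ap_permCo_mono hσ (e8_mem i)

theorem ap_signCo_mono {S : Finset GolayPt} (hS : InC S) {x : Vec} (hx : x ∈ leechLattice) :
    ap (signCo S hS) x = mono 1 S x := funext fun i => by
  rw [ap_signCo hS hx]; rfl

theorem signCo_mem_frame {S : Finset GolayPt} (hS : InC S) : signCo S hS ∈ frame := by
  rw [mem_frame, ap_signCo_mono hS (e8_mem none)]
  by_cases h : none ∈ S
  · have : mono 1 S (e8 none) = -e8 none := funext fun i => by
      by_cases hi : i = none
      · subst hi; simp [mono, e8, h, Equiv.Perm.one_def]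
      · simp [mono, e8, hi, Equiv.Perm.one_def]
    rw [this]; exact (cong_neg (e8_mem none)).symm
  · have : mono 1 S (e8 none) = e8 none := funext fun i => by
      by_cases hi : i = none
      · subst hi; simp [mono, e8, h, Equiv.Perm.one_def]
      · simp [mono, e8, hi, Equiv.Perm.one_def]
    rw [this]; exact Cong.refl _

theorem frameHom_ker {g : ↥frame} (h : frameHom g = 1) : ∃ S, ∃ hS : InC S, (g : ↥Co0) = signCo S hS := by
  obtain ⟨S, hS, hg⟩ := frameHom_spec g
  refine ⟨S, hS, ext_ap fun x hx => ?_⟩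
  rw [hg x hx, ap_signCo_mono hS hx, h]; rfl

theorem frameHom_surjective : Function.Surjective frameHom := fun σ =>
  ⟨_, frameHom_permCo σ.2⟩

theorem InC_support (c : ↥golayCode) : InC (support₂ (c : GolayPt → ZMod 2)) := ⟨_, c.2, rfl⟩

theorem signCo_mul {S T U : Finset GolayPt} (hS : InC S) (hT : InC T) (hU : InC U) (h : U = S ∆ T) :
    signCo U hU = signCo S hS * signCo T hT := ext_ap fun x hx => by
  subst h
  rw [ap_signCo_mono hU hx, ap_mul _ _ hx, ap_signCo_mono hS (ap_mem _ hx), ap_signCo_mono hT hx, mono_mono]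
  have : T.image ⇑(1 : Equiv.Perm GolayPt) = T := by rw [Equiv.Perm.coe_one, Finset.image_id]
  rw [this, one_mul]

/-- the word of an element of the code -/
def wd (c : Multiplicative ↥golayCode) : GolayPt → ZMod 2 := ((Multiplicative.toAdd c : ↥golayCode) : GolayPt → ZMod 2)

theorem wd_mul (a b : Multiplicative ↥golayCode) : wd (a * b) = wd a + wd b := rfl

/-- sign changes as a homomorphism from the code -/
noncomputable def signHom : Multiplicative ↥golayCode →* ↥Co0 :=
  MonoidHom.mk' (fun c => signCo (support₂ (wd c)) (InC_support (Multiplicative.toAdd c))) fun a b =>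
    signCo_mul _ _ _ (by
      ext p
      show p ∈ support₂ (wd (a * b)) ↔ p ∈ support₂ (wd a) ∆ support₂ (wd b)
      simp only [support₂, Finset.mem_filter, Finset.mem_univ, true_and, Finset.mem_symmDiff]
      rw [wd_mul, Pi.add_apply]
      generalize (wd a) p = x, (wd b) p = y
      revert x y; decide)

/-- the sign subgroup -/
noncomputable def signs : Subgroup ↥Co0 := signHom.range

theorem signCo_mem_signs {S : Finset GolayPt} (hS : InC S) : signCo S hS ∈ signs := by
  obtain ⟨w, hw, rfl⟩ := hS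
  exact ⟨Multiplicative.ofAdd ⟨w, hw⟩, rfl⟩

theorem signs_le_frame : signs ≤ frame := by
  rintro _ ⟨c, rfl⟩; exact signCo_mem_frame (InC_support (Multiplicative.toAdd c))

/-- the permutation automorphisms -/
def permHom : ↥M24 →* ↥Co0 :=
  MonoidHom.mk' (fun σ => permCo σ σ.2) fun a b => ext_ap fun x hx => by
    rw [ap_mul _ _ hx, ap_permCo_mono _ (ap_mem _ hx), ap_permCo_mono _ hx, ap_permCo_mono _ hx, mono_mono]
    simp

theorem signs_normalized {g h : ↥Co0} (hg : g ∈ frame) (hh : h ∈ signs) : g * h * g⁻¹ ∈ signs := by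
  have hf : (⟨g, hg⟩ * ⟨h, signs_le_frame hh⟩ * ⟨g, hg⟩⁻¹ : ↥frame) ∈ frameHom.ker := by
    obtain ⟨c, rfl⟩ := hh
    rw [MonoidHom.mem_ker, map_mul, map_mul, map_inv]
    have : frameHom ⟨signHom c, signs_le_frame ⟨c, rfl⟩⟩ = 1 := by
      obtain ⟨S, -, h⟩ := frameHom_spec ⟨signHom c, signs_le_frame ⟨c, rfl⟩⟩
      refine Subtype.ext ((mono_unique (S := S) (S' := support₂ (wd c)) fun i => ?_).1)
      rw [← h _ (e8_mem i)]; exact ap_signCo_mono (InC_support (Multiplicative.toAdd c)) (e8_mem i)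
    rw [this, mul_one, mul_inv_cancel]
  obtain ⟨S, hS, e⟩ := frameHom_ker hf
  simp only [Subgroup.coe_mul, Subgroup.coe_inv] at e
  rw [e]; exact signCo_mem_signs hS

theorem not_commutative_M24 : ¬ ∀ a b : ↥M24, a * b = b * a := fun h => by
  obtain ⟨σ, hσ, hs⟩ := Golay24.exists_map_le_five (by norm_num : (2 : ℕ) ≤ 5)
    ⟨![none, some 0], by decide⟩
    ⟨![none, some 1], by decide⟩
  obtain ⟨τ, hτ, ht⟩ := Golay24.exists_map_le_five (by norm_num : (2 : ℕ) ≤ 5)
    ⟨![none, some 1], by decide⟩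
    ⟨![some 0, some 2], by decide⟩
  have h0 : σ none = none := hs 0
  have h1 : σ (some 0) = some 1 := hs 1
  have h2 : τ none = some 0 := ht 0
  have := congrArg (fun π : ↥M24 => (π : Equiv.Perm GolayPt) none) (h ⟨σ, hσ⟩ ⟨τ, hτ⟩)
  simp only [Subgroup.coe_mul, Equiv.Perm.mul_apply, h0, h1, h2] at this
  exact absurd this (by decide)

/-- small normal subgroups of the frame stabiliser consist of sign changes -/
theorem frame_normal_le_signs {A : Subgroup ↥Co0} (hA : A ≤ frame) (hn : ∀ g ∈ frame, ∀ a ∈ A, g * a * g⁻¹ ∈ A)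
    (hc : ∀ a ∈ A, ∀ b ∈ A, a * b * a⁻¹ * b⁻¹ ∈ Subgroup.center ↥Co0) : A ≤ signs := by
  set B := (A.subgroupOf frame).map frameHom with hB
  have : (A.subgroupOf frame).Normal := ⟨fun a ha g => by
    rw [Subgroup.mem_subgroupOf] at ha ⊢; exact hn g g.2 a ha⟩
  have hBn : B.Normal := this.map frameHom frameHom_surjective
  rcases (Golay24.M24_simple.eq_bot_or_eq_top_of_normal B hBn) with h | h
  · intro a ha
    have : frameHom ⟨a, hA ha⟩ = 1 := by
      have := Subgroup.mem_map_of_mem frameHom (show (⟨a, hA ha⟩ : ↥frame) ∈ A.subgroupOf frame from ha)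
      rw [← hB, h] at this; exact this
    obtain ⟨S, hS, e⟩ := frameHom_ker this
    show a ∈ signs
    rw [show a = _ from e]; exact signCo_mem_signs hS
  · exfalso
    refine not_commutative_M24 fun x y => ?_
    obtain ⟨a, ha, rfl⟩ := Subgroup.mem_map.1 (h ▸ Subgroup.mem_top x : x ∈ B)
    obtain ⟨b, hb, rfl⟩ := Subgroup.mem_map.1 (h ▸ Subgroup.mem_top y : y ∈ B)
    have hk : frameHom (a * b * a⁻¹ * b⁻¹) = 1 := by
      have hz := hc (a : ↥Co0) ha (b : ↥Co0) hb
      obtain ⟨S, -, he⟩ := frameHom_spec (a * b * a⁻¹ * b⁻¹)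
      simp only [Subgroup.coe_mul, Subgroup.coe_inv] at he
      rcases center_eq.1 hz with hz | hz <;> rw [hz] at he
      · refine Subtype.ext ((mono_unique (S := S) (S' := ∅) fun i => ?_).1)
        rw [← he _ (e8_mem i), ap_one]; funext k; simp [mono, Equiv.Perm.one_def]
      · refine Subtype.ext ((mono_unique (S := S) (S' := Finset.univ) fun i => ?_).1)
        rw [← he _ (e8_mem i), ap_negOne (e8_mem i)]; funext k; simp [mono, Equiv.Perm.one_def]
    rw [map_mul, map_mul, map_mul, map_inv, map_inv, mul_inv_eq_one, mul_inv_eq_iff_eq_mul] at hk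
    exact hk

theorem signs_card_mod_center : Nat.card ↥(signs.map (QuotientGroup.mk' (Subgroup.center ↥Co0))) = 2 ^ 11 := by
  classical
  have hcode : Nat.card (Multiplicative ↥golayCode) = 2 ^ 12 := by
    rw [Nat.card_congr Multiplicative.toAdd, Module.natCard_eq_pow_finrank (K := ZMod 2), Golay24.golayCode_finrank,
      Nat.card_zmod]
  set φ := (QuotientGroup.mk' (Subgroup.center ↥Co0)).comp signHom with hφ
  have hr : signs.map (QuotientGroup.mk' (Subgroup.center ↥Co0)) = φ.range := by
    rw [hφ, MonoidHom.range_comp]; rfl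
  have hone : (1 : GolayPt → ZMod 2) ∈ golayCode := Submodule.subset_span (Or.inr rfl)
  have hk : (φ.ker : Set (Multiplicative ↥golayCode)) = {1, Multiplicative.ofAdd ⟨1, hone⟩} := by
    ext c
    simp only [SetLike.mem_coe, MonoidHom.mem_ker, hφ, MonoidHom.comp_apply, QuotientGroup.mk'_apply,
      QuotientGroup.eq_one_iff, Set.mem_insert_iff, Set.mem_singleton_iff]
    have hval : ∀ i, ap (signHom c) (e8 i) i = if (wd c) i ≠ 0 then -8 else 8 := fun i => by
      show ap (signCo _ (InC_support (Multiplicative.toAdd c))) (e8 i) i = _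
      rw [ap_signCo _ (e8_mem i)]; by_cases h : wd c i = 0 <;> unfold wd at h <;> simp [support₂, e8, h, wd]
    rw [center_eq]
    constructor
    · rintro (h | h) <;> [left; right] <;>
        refine Multiplicative.toAdd.injective (Subtype.ext (funext fun i => ?_))
      · have := hval i
        rw [h, ap_one] at this
        show (wd c) i = 0
        by_contra hne; simp [hne, e8] at this
      · have := hval i
        rw [h, ap_negOne (e8_mem i)] at this
        show (wd c) i = 1
        have hb : ∀ a : ZMod 2, a ≠ 0 → a = 1 := by decide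
        refine hb _ fun h0 => ?_
        simp [h0, e8] at this
    · rintro (rfl | rfl)
      · left; exact map_one _
      · right
        refine ext_ap fun x hx => funext fun i => ?_
        show ap (signCo (support₂ (1 : GolayPt → ZMod 2)) (InC_support ⟨1, hone⟩)) x i = _
        rw [ap_signCo _ hx, ap_negOne hx]; simp [support₂]
  have hk2 : Nat.card φ.ker = 2 := by
    rw [show Nat.card φ.ker = Nat.card (φ.ker : Set (Multiplicative ↥golayCode)) from rfl, hk,
      Nat.card_coe_set_eq, Set.ncard_pair]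
    intro h
    have := congrFun (congrArg (fun c : Multiplicative ↥golayCode => (wd c)) h) none
    simp [wd] at this
  have := Subgroup.index_mul_card φ.ker
  rw [Subgroup.index_ker, hk2, hcode] at this
  rw [hr]; omega

end Cfsg.Agent.Leech
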