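import Cfsg.Agent.Lib.Leech.Transitive

set_option autoImplicit false

namespace Cfsg.Agent.Leech
open Cfsg
open scoped symmDiff

/-- the vector with a single coordinate 8 -/
def e8 (i : GolayPt) : Vec := fun j => if j = i then 8 else 0

/-- the vector with two coordinates 4 -/
def e44 (p q : GolayPt) : Vec := fun j => if j = p ∨ j = q then 4 else 0

theorem four_mem {y : Vec} (h4 : ∀ i, (4 : ℤ) ∣ y i) (h8 : (8 : ℤ) ∣ ∑ i, y i) : LatM 0 y ∧ pat 0 y = ∅ := by
  have hp : pat 0 y = ∅ := Finset.eq_empty_of_forall_notMem fun i hi => by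
    rw [mem_pat, sub_zero] at hi; exact hi (h4 i)
  exact ⟨⟨fun i => by have := h4 i; omega, by simpa using h8, hp ▸ InC_empty⟩, hp⟩

theorem e8_mem (i : GolayPt) : e8 i ∈ leechLattice :=
  (mem_leech_iff _).2 ⟨0, (four_mem (fun j => by simp only [e8]; split <;> omega) (by simp [e8])).1⟩

theorem e8_norm (i : GolayPt) : sqNorm (e8 i) = 64 := by
  simp [sqNorm, e8, ite_pow]

theorem e44_mem {p q : GolayPt} (h : p ≠ q) : e44 p q ∈ leechLattice := by
  refine (mem_leech_iff _).2 ⟨0, (four_mem (fun j => by simp only [e44]; split <;> omega) ?_).1⟩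
  have : ∑ j, e44 p q j = 8 := by
    simp only [e44, ← Finset.sum_filter, Finset.filter_or, Finset.filter_eq', Finset.mem_univ, if_true]
    rw [Finset.sum_union (by simp [h])]; simp
  rw [this]

theorem e44_norm {p q : GolayPt} (h : p ≠ q) : sqNorm (e44 p q) = 32 := by
  simp only [sqNorm, e44, ite_pow, zero_pow two_ne_zero, ← Finset.sum_filter, Finset.filter_or,
    Finset.filter_eq', Finset.mem_univ, if_true]
  rw [Finset.sum_union (by simp [h])]; simp

theorem e44_vecU : e44 none (some 0) = Spor.vecU := rfl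

theorem perm_e8 {σ : Equiv.Perm GolayPt} (hσ : σ ∈ M24) (i : GolayPt) : ap (permCo σ hσ) (e8 i) = e8 (σ i) := by
  funext j
  rw [ap_permCo hσ (e8_mem i)]
  simp only [e8, Equiv.symm_apply_eq]

theorem perm_e44 {σ : Equiv.Perm GolayPt} (hσ : σ ∈ M24) {p q : GolayPt} (h : p ≠ q) :
    ap (permCo σ hσ) (e44 p q) = e44 (σ p) (σ q) := by
  funext j
  rw [ap_permCo hσ (e44_mem h)]
  simp only [e44, Equiv.symm_apply_eq]

theorem exists_M24_pair {p q p' q' : GolayPt} (h : p ≠ q) (h' : p' ≠ q') :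
    ∃ σ : Equiv.Perm GolayPt, σ ∈ M24 ∧ σ p = p' ∧ σ q = q' := by
  obtain ⟨σ, hσ, hs⟩ := Golay24.exists_map_le_five (by norm_num : (2 : ℕ) ≤ 5)
    ⟨![p, q], by intro a b; fin_cases a <;> fin_cases b <;> simp [h, h.symm]⟩
    ⟨![p', q'], by intro a b; fin_cases a <;> fin_cases b <;> simp [h', h'.symm]⟩
  exact ⟨σ, hσ, hs 0, hs 1⟩

theorem coEq_e8 (i j : GolayPt) : CoEq (e8 i) (e8 j) := by
  obtain ⟨σ, hσ, hs⟩ := Golay24.exists_map_le_five (by norm_num : (1 : ℕ) ≤ 5)
    ⟨fun _ : Fin 1 => i, fun a b _ => Subsingleton.elim a b⟩ ⟨fun _ : Fin 1 => j, fun a b _ => Subsingleton.elim a b⟩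
  have hs0 : σ i = j := hs 0
  exact ⟨permCo σ hσ, by rw [perm_e8, hs0]⟩

theorem coEq_e44 {p q p' q' : GolayPt} (h : p ≠ q) (h' : p' ≠ q') : CoEq (e44 p q) (e44 p' q') := by
  obtain ⟨σ, hσ, h1, h2⟩ := exists_M24_pair h h'
  exact ⟨permCo σ hσ, by rw [perm_e44 hσ h, h1, h2]⟩

/-- a vector of fours can have its signs chosen on any seven coordinates -/
theorem exists_signs {x : Vec} (hx : x ∈ leechLattice) (T A : Finset GolayPt) (hA : A ⊆ T) (hT : T.card ≤ 7) :
    ∃ y, CoEq x y ∧ y ∈ leechLattice ∧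
      (∀ i ∈ T, y i = if i ∈ A then -x i else x i) ∧ ∀ i, x i = 0 → y i = 0 := by
  obtain ⟨c, hc, he⟩ := exists_InC_inter_small hA hT
  refine ⟨ap (signCo c hc) x, ⟨_, rfl⟩, ap_mem _ hx, fun i hi => ?_, fun i hi => ?_⟩
  · rw [ap_signCo hc hx]
    have : i ∈ c ↔ i ∈ A := by rw [← he, Finset.mem_inter]; simp [hi]
    simp only [this]
  · rw [ap_signCo hc hx, hi]; simp

/-- short singular vectors fall in two orbits, by length -/
theorem coEq_normal {x : Vec} (hx : x ∈ leechLattice) (h0 : x ≠ 0) (hn : sqNorm x ≤ 64)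
    (h32 : (32 : ℤ) ∣ sqNorm x) :
    (sqNorm x = 32 ∧ CoEq x Spor.vecU) ∨ (sqNorm x = 64 ∧ CoEq x (e8 none)) := by
  obtain ⟨y, hxy, hy0, hyp⟩ := coEq_four hx hn h32
  have hyL := hxy.mem hx
  have hny := hxy.norm hx
  have h4 : ∀ i, ∃ b, y i = 4 * b := fun i => by
    by_contra hc
    push Not at hc
    have : i ∈ pat 0 y := mem_pat.2 fun ⟨k, hk⟩ => hc k (by omega)
    simp [hyp] at this
  choose b hb using h4
  have hnorm : sqNorm y = 16 * ∑ i, b i ^ 2 := by
    rw [sqNorm, Finset.mul_sum]; exact Finset.sum_congr rfl fun i _ => by rw [hb]; ring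
  have hxne : sqNorm x ≠ 0 := fun h => h0 (sqNorm_eq_zero.1 h)
  have hnn := sqNorm_nonneg x
  have hsb : (∑ i, b i ^ 2) = 2 ∨ (∑ i, b i ^ 2) = 4 := by omega
  by_cases hbig : ∃ i, 2 ≤ |b i|
  · -- one coordinate of absolute value eight
    obtain ⟨i, hi⟩ := hbig
    have h4i : 4 ≤ b i ^ 2 := by nlinarith [sq_abs (b i)]
    have hrest := Finset.add_sum_erase Finset.univ (fun j => b j ^ 2) (Finset.mem_univ i)
    have hrest0 : 0 ≤ ∑ j ∈ Finset.univ.erase i, b j ^ 2 := Finset.sum_nonneg fun j _ => sq_nonneg _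
    have hz : ∑ j ∈ Finset.univ.erase i, b j ^ 2 = 0 := by omega
    have hbi : b i ^ 2 = 4 := by omega
    have hb0 : ∀ j, j ≠ i → y j = 0 := fun j hj => by
      have := (Finset.sum_eq_zero_iff_of_nonneg fun j _ => sq_nonneg (b j)).1 hz j
        (Finset.mem_erase.2 ⟨hj, Finset.mem_univ _⟩)
      rw [hb, sq_eq_zero_iff.1 this]; rfl
    have hyi : y i = 8 ∨ y i = -8 := by
      have : (b i - 2) * (b i + 2) = 0 := by linear_combination hbi
      rcases mul_eq_zero.1 this with h | h <;> [left; right] <;> rw [hb] <;> omega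
    refine Or.inr ⟨by omega, hxy.trans hx ?_⟩
    refine CoEq.trans hyL ?_ (coEq_e8 i none)
    rcases hyi with h | h
    · exact ⟨1, by rw [ap_one]; funext j; by_cases hj : j = i <;> simp [e8, hj, h, hb0]⟩
    · refine ⟨negOne, ?_⟩
      rw [ap_negOne hyL]; funext j
      by_cases hj : j = i <;> simp [e8, hj, h, hb0]
  push Not at hbig
  set T := Finset.univ.filter (fun i => b i ≠ 0) with hT
  have hb1 : ∀ i, b i ^ 2 = if i ∈ T then 1 else 0 := fun i => by
    have := abs_lt.1 (hbig i)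
    by_cases hi : b i = 0
    · simp [hT, hi]
    · have : b i = 1 ∨ b i = -1 := by omega
      rcases this with h | h <;> simp [hT, h]
  have hTc : (T.card : ℤ) = ∑ i, b i ^ 2 := by
    rw [Finset.sum_congr rfl fun i _ => hb1 i, sum_indicator, one_mul]
  have hy_out : ∀ i, i ∉ T → y i = 0 := fun i hi => by
    have : b i = 0 := by simpa [hT] using hi
    rw [hb, this]; rfl
  have hy_in : ∀ i ∈ T, y i = 4 ∨ y i = -4 := fun i hi => by
    have := abs_lt.1 (hbig i)
    have : b i ≠ 0 := by simpa [hT] using hi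
    rw [hb]; omega
  rcases hsb with h2 | h2
  · refine Or.inl ⟨by omega, hxy.trans hx ?_⟩
    obtain ⟨p, q, hpq, he⟩ := Finset.card_eq_two.1 (show T.card = 2 by omega)
    obtain ⟨z, hyz, -, hzT, hz0⟩ := exists_signs hyL T (T.filter fun i => y i = -4) (Finset.filter_subset _ _)
      (by omega)
    have : z = e44 p q := by
      funext j
      by_cases hj : j ∈ T
      · rw [hzT j hj]
        have h' : e44 p q j = 4 := by
          simp only [e44]; rw [if_pos]; simpa [he] using hj
        rw [h']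
        rcases hy_in j hj with h | h <;> simp [Finset.mem_filter, hj, h]
      · rw [hz0 j (hy_out j hj)]
        simp only [e44]; rw [if_neg]; simpa [he] using hj
    rw [this] at hyz
    rw [← e44_vecU]
    exact hyz.trans hyL (coEq_e44 hpq (by simp))
  · refine Or.inr ⟨by omega, hxy.trans hx ?_⟩
    have hT4 : T.card = 4 := by omega
    obtain ⟨q, hq⟩ : T.Nonempty := Finset.card_pos.1 (by omega)
    obtain ⟨z, hyz, hzL, hzT, hz0⟩ := exists_signs hyL T
      (T.filter fun i => (y i = -4 ∧ i ≠ q) ∨ (y i = 4 ∧ i = q)) (Finset.filter_subset _ _) (by omega)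
    have hzv : ∀ j, z j = if j = q then -4 else if j ∈ T then 4 else 0 := fun j => by
      by_cases hj : j ∈ T
      · rw [hzT j hj]
        by_cases hjq : j = q
        · subst hjq
          rcases hy_in j hj with h | h <;> simp [Finset.mem_filter, hj, h]
        · rcases hy_in j hj with h | h <;> simp [Finset.mem_filter, hj, h, hjq]
      · rw [hz0 j (hy_out j hj), if_neg (fun h : j = q => hj (by rw [h]; exact hq)), if_neg hj]
    obtain ⟨X, hX⟩ := exists_sx T hT4
    have ht0 : X.tsum z 0 = 8 := by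
      show ∑ i ∈ X.tet 0, z i = 8
      have he : ∑ j ∈ T.erase q, z j = ∑ j ∈ T.erase q, (4 : ℤ) := Finset.sum_congr rfl fun j hj => by
        rw [Finset.mem_erase] at hj
        rw [hzv j, if_neg hj.1, if_pos hj.2]
      rw [hX, ← Finset.add_sum_erase T z hq, hzv q, if_pos rfl, he, Finset.sum_const,
        Finset.card_erase_of_mem hq, hT4]
      rfl
    have htj : ∀ j, j ≠ 0 → X.tsum z j = 0 := fun j hj => Finset.sum_eq_zero fun i hi => by
      have : i ∉ T := fun h => by
        rw [← hX, X.mem_tet] at h; rw [X.mem_tet] at hi; exact hj (hi.symm.trans h)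
      rw [hzv i, if_neg (fun h : i = q => this (by rw [h]; exact hq)), if_neg this]
    have hxi : X.xi z = e8 q := by
      funext j
      simp only [Sx.xi, e8]
      by_cases hj : X.idx j = 0
      · have hjT : j ∈ T := by rw [← hX]; exact X.mem_tet.2 hj
        rw [if_pos hj, hj, ht0, hzv j]
        by_cases hjq : j = q <;> simp [hjq, hjT]
      · have hjT : j ∉ T := fun h => hj (by rw [← hX] at h; exact X.mem_tet.1 h)
        rw [if_neg hj, htj _ hj, hzv j, if_neg (fun h : j = q => hjT (by rw [h]; exact hq)), if_neg hjT,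
          if_neg (fun h : j = q => hjT (by rw [h]; exact hq))]
        rfl
    exact hyz.trans hyL (CoEq.trans hzL ⟨X.xiCo, by rw [X.ap_xiCo hzL, hxi]⟩ (coEq_e8 q none))

theorem coEq_min {x : Vec} (hx : x ∈ leechLattice) (hn : sqNorm x = 32) : CoEq x Spor.vecU := by
  rcases coEq_normal hx (fun h => by rw [h] at hn; simp [sqNorm] at hn) (by omega) ⟨1, by omega⟩ with h | h
  · exact h.2
  · omega

theorem coEq_cross {x : Vec} (hx : x ∈ leechLattice) (hn : sqNorm x = 64) : CoEq x (e8 none) := by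
  rcases coEq_normal hx (fun h => by rw [h] at hn; simp [sqNorm] at hn) (by omega) ⟨2, by omega⟩ with h | h
  · omega
  · exact h.2

theorem coEq_of_norm32 {x y : Vec} (hx : x ∈ leechLattice) (hy : y ∈ leechLattice) (hxn : sqNorm x = 32)
    (hyn : sqNorm y = 32) : CoEq x y :=
  (coEq_min hx hxn).trans hx ((coEq_min hy hyn).symm hy)

theorem coEq_of_norm64 {x y : Vec} (hx : x ∈ leechLattice) (hy : y ∈ leechLattice) (hxn : sqNorm x = 64)
    (hyn : sqNorm y = 64) : CoEq x y :=
  (coEq_cross hx hxn).trans hx ((coEq_cross hy hyn).symm hy)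

end Cfsg.Agent.Leech
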