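import Cfsg.Agent.Lib.Leech.Maximal
import Cfsg.Agent.Lib.Leech.Irred
import Cfsg.Agent.Lib.LeechCount.Order
import Cfsg.Prelude.Def_Sporadic

/-!
The quotient of the automorphism group of the Leech lattice by its centre is simple.

The sign changes form an abelian subgroup, normal in the maximal subgroup fixing the standard frame; their
conjugates generate the group, and they are commutators.
-/

set_option autoImplicit false

namespace Cfsg.Agent.Leech
open Cfsg
open scoped symmDiff Pointwise

theorem exists_perm_octad {O O' : Finset GolayPt} (hO : InC O) (hc : O.card = 8) (hO' : InC O') (hc' : O'.card = 8) :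
    ∃ σ : Equiv.Perm GolayPt, σ ∈ M24 ∧ O.image σ = O' := by
  obtain ⟨S, hS, hS5⟩ := Finset.exists_subset_card_eq (show 5 ≤ O.card by omega)
  obtain ⟨S', hS', hS5'⟩ := Finset.exists_subset_card_eq (show 5 ≤ O'.card by omega)
  let e : Fin 5 ≃ S := (S.equivFinOfCardEq hS5).symm
  let f : Fin 5 ≃ S' := (S'.equivFinOfCardEq hS5').symm
  obtain ⟨σ, hσ, hs⟩ := Golay24.exists_map_le_five (le_refl 5)
    ⟨fun k => (e k : GolayPt), fun a b h => e.injective (Subtype.ext h)⟩
    ⟨fun k => (f k : GolayPt), fun a b h => f.injective (Subtype.ext h)⟩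
  refine ⟨σ, hσ, InC_octad_unique ((M24_map hσ _).2 hO) hO'
    (by rw [Finset.card_image_of_injective _ σ.injective, hc]) hc' ?_⟩
  rw [← hS5']
  refine Finset.card_le_card fun i hi => Finset.mem_inter.2 ⟨?_, hS' hi⟩
  have := hs (f.symm ⟨i, hi⟩)
  change σ _ = ((f _ : S') : GolayPt) at this
  rw [f.apply_symm_apply] at this
  exact Finset.mem_image.2 ⟨_, hS (e _).2, this⟩

theorem perm_sign_conj {σ : Equiv.Perm GolayPt} (hσ : σ ∈ M24) {S : Finset GolayPt} (hS : InC S) :
    permCo σ hσ * signCo S hS = signCo (S.image σ) ((M24_map hσ S).2 hS) * permCo σ hσ := ext_ap fun x hx => by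
  rw [ap_mul _ _ hx, ap_mul _ _ hx, ap_permCo_mono hσ (ap_mem _ hx), ap_signCo_mono hS hx,
    ap_signCo_mono _ (ap_mem _ hx), ap_permCo_mono hσ hx, mono_mono, mono_mono]
  simp [symmDiff_comm]

/-- the sign changes are commutators -/
theorem signs_le_commutator : signs ≤ commutator ↥Co0 := by
  have hoct : ∀ O (hO : InC O), O.card = 8 → signCo O hO ∈ commutator ↥Co0 := fun O hO h8 => by
    obtain ⟨T, hT, hT4⟩ := exists_four_of_le (S := O) (by omega)
    obtain ⟨X, hX⟩ := exists_sx T hT4
    obtain ⟨j, hj, hje⟩ := tet_of_octad X hO h8 (hX ▸ hT)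
    obtain ⟨k, hk0, hkj⟩ : ∃ k : Fin 6, k ≠ 0 ∧ k ≠ j :=
      (show ∀ j : Fin 6, ∃ k : Fin 6, k ≠ 0 ∧ k ≠ j by decide) j
    have hOe : O = X.tet 0 ∪ X.tet j := by
      rw [hje, Finset.union_sdiff_of_subset (hX ▸ hT)]
    have h1 := X.InC_pair hk0.symm
    have h2 := X.InC_pair hkj.symm
    have c1 : (X.tet 0 ∪ X.tet k).card = 8 := by
      rw [Finset.card_union_of_disjoint (X.tet_disjoint hk0.symm), X.tet_card, X.tet_card]
    have c2 : (X.tet j ∪ X.tet k).card = 8 := by
      rw [Finset.card_union_of_disjoint (X.tet_disjoint hkj.symm), X.tet_card, X.tet_card]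
    obtain ⟨σ, hσ, hs⟩ := exists_perm_octad h2 c2 h1 c1
    have e : O = (X.tet j ∪ X.tet k).image σ ∆ (X.tet j ∪ X.tet k) := by
      rw [hs, hOe]
      ext i
      simp only [Finset.mem_symmDiff, Finset.mem_union, X.mem_tet]
      constructor
      · rintro (h | h)
        · exact Or.inl ⟨Or.inl h, by rintro (h' | h') <;> rw [h] at h' <;> [exact hj h'.symm; exact hk0 h'.symm]⟩
        · exact Or.inr ⟨Or.inl h, by rintro (h' | h') <;> rw [h] at h' <;> [exact hj h'; exact hkj h'.symm]⟩
      · rintro (⟨h | h, h'⟩ | ⟨h | h, h'⟩)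
        · exact Or.inl h
        · exact absurd (Or.inr h) h'
        · exact Or.inr h
        · exact absurd (Or.inr h) h'
    rw [signCo_mul ((M24_map hσ _).2 h2) h2 hO e]
    have hc := Subgroup.commutator_mem_commutator (Subgroup.mem_top (permCo σ hσ))
      (Subgroup.mem_top (signCo _ h2))
    rw [← commutator_def, commutatorElement_def, perm_sign_conj hσ h2] at hc
    have hinv : (signCo _ h2)⁻¹ = signCo _ h2 := inv_eq_of_mul_eq_one_right (ext_ap fun x hx => funext fun i => by
      rw [ap_mul _ _ hx, ap_signCo h2 (ap_mem _ hx), ap_signCo h2 hx, ap_one]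
      by_cases hi : i ∈ X.tet j ∪ X.tet k <;> simp [hi])
    rw [hinv] at hc
    simpa [mul_assoc] using hc
  have key : ∀ n, ∀ P (hP : InC P), P.card = n → signCo P hP ∈ commutator ↥Co0 := by
    intro n
    induction n using Nat.strong_induction_on with
    | _ n ih =>
      intro P hP hn
      by_cases h5 : 5 ≤ P.card
      · obtain ⟨O, hO, h8, hlt⟩ := exists_octad_reduce h5
        rw [signCo_mul (InC_symmDiff hP hO) hO hP (by rw [symmDiff_assoc, symmDiff_self, symmDiff_bot])]
        exact mul_mem (ih _ (hn ▸ hlt) _ _ rfl) (hoct O hO h8)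
      · have h0 : P = ∅ := InC_card_ge hP (by omega)
        subst h0
        rw [show signCo ∅ hP = 1 from ext_ap fun x hx => funext fun i => by
          rw [ap_signCo hP hx, ap_one]; simp]
        exact one_mem _
  rintro _ ⟨c, rfl⟩
  exact key _ _ (InC_support (Multiplicative.toAdd c)) rfl

/-- the conjugates of the sign changes generate -/
theorem normalClosure_signs : Subgroup.normalClosure (signs : Set ↥Co0) = ⊤ := by
  set M := Subgroup.normalClosure (signs : Set ↥Co0) with hM
  have hsM : signs ≤ M := Subgroup.subset_normalClosure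
  -- a product of a sign change with two sextet maps permuting the points nontrivially
  obtain ⟨T, hnT, hT⟩ := Finset.exists_subsuperset_card_eq (s := ({none} : Finset GolayPt)) (t := Finset.univ)
    (n := 4) (Finset.subset_univ _) (by simp) (by rw [Finset.card_univ, card_pt]; norm_num)
  obtain ⟨X, hX⟩ := exists_sx T hT.2
  obtain ⟨b, hb⟩ : ((X.tet 0).erase none).Nonempty := Finset.card_pos.1 (by
    rw [Finset.card_erase_of_mem (hX ▸ hnT (by simp)), X.tet_card]; norm_num)
  obtain ⟨hb0, hbT⟩ := Finset.mem_erase.1 hb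
  obtain ⟨S, hS, hST⟩ := exists_InC_inter_small (A := {none, b}) (T := X.tet 0)
    (Finset.insert_subset (hX ▸ hnT (by simp)) (Finset.singleton_subset_iff.2 hbT)) (by rw [X.tet_card]; norm_num)
  set y := X.xiCo * signCo S hS * X.xiCo with hy
  have hxx : X.xiCo * X.xiCo = 1 := ext_ap fun x hx => by
    rw [ap_mul _ _ hx, X.ap_xiCo hx, X.ap_xiCo (X.xi_mem hx), X.xi_xi hx, ap_one]
  have hyM : y ∈ M := by
    have h := Subgroup.normalClosure_normal.conj_mem _ (hsM (signCo_mem_signs hS)) X.xiCo
    rwa [inv_eq_of_mul_eq_one_right hxx, ← hy] at h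
  have hn0 : X.idx none = 0 := X.mem_tet.1 (hX ▸ hnT (by simp))
  have hyb : ap y (e8 none) = e8 b := by
    set u := X.xi (e8 none) with hu
    have huv : ∀ i, u i = if X.idx i = 0 then (if i = none then -4 else 4) else 0 := fun i => by
      have ht : ∀ j, X.tsum (e8 none) j = if j = 0 then 8 else 0 := fun j => by
        show ∑ i ∈ X.tet j, e8 none i = _
        simp only [e8, Finset.sum_ite_eq', X.mem_tet, hn0]
        by_cases h : j = 0 <;> simp [h, Ne.symm]
      simp only [hu, Sx.xi, ht]
      by_cases h : X.idx i = 0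
      · by_cases hi : i = none <;> simp [h, hi, e8, hn0]
      · have : i ≠ none := fun hi => h (hi ▸ hn0)
        simp [h, this, e8]
    have hmem : ∀ i, X.idx i = 0 → (i ∈ S ↔ i = none ∨ i = b) := fun i h => by
      have := Finset.ext_iff.1 hST i
      simpa [X.mem_tet, h] using this
    have hwv : ∀ i, ap (signCo S hS) u i = if X.idx i = 0 then (if i = b then -4 else 4) else 0 := fun i => by
      rw [hu, ap_signCo hS (X.xi_mem (e8_mem none)), ← hu, huv]
      by_cases h : X.idx i = 0
      · by_cases h1 : i = none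
        · subst h1; simp [h, (hmem none h).2 (Or.inl rfl), Ne.symm hb0]
        · by_cases h2 : i = b
          · subst h2; simp [h, h1, (hmem i h).2 (Or.inr rfl)]
          · simp [h, h1, h2, show i ∉ S from fun hh => ((hmem i h).1 hh).elim h1 h2]
      · simp [h]
    rw [hy, ap_mul _ _ (e8_mem none), ap_mul _ _ (ap_mem _ (e8_mem none)), X.ap_xiCo (e8_mem none), ← hu,
      X.ap_xiCo (ap_mem _ (X.xi_mem (e8_mem none)))]
    funext i
    have hb' : X.idx b = 0 := X.mem_tet.1 hbT
    have ht : ∀ j, X.tsum (ap (signCo S hS) u) j = if j = 0 then 8 else 0 := fun j => by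
      show ∑ i ∈ X.tet j, ap (signCo S hS) u i = _
      by_cases hj : j = 0
      · subst hj
        rw [← Finset.add_sum_erase _ _ hbT, hwv b, if_pos hb', if_pos rfl,
          Finset.sum_congr rfl fun k hk => show ap (signCo S hS) u k = 4 by
            rw [Finset.mem_erase, X.mem_tet] at hk
            rw [hwv, if_pos hk.2, if_neg hk.1],
          Finset.sum_const, Finset.card_erase_of_mem hbT, X.tet_card]
        simp
      · rw [if_neg hj]
        exact Finset.sum_eq_zero fun k hk => by rw [hwv, if_neg (by rw [X.mem_tet] at hk; rw [hk]; exact hj)]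
    rw [hu] at ht hwv
    simp only [Sx.xi, ht, hwv]
    by_cases h : X.idx i = 0
    · by_cases hi : i = b <;> simp [h, hi, e8, hb']
    · have : i ≠ b := fun hi => h (hi ▸ hb')
      simp [h, this, e8]
  have hyf : y ∈ frame := mem_frame_of_eq (Or.inl hyb)
  have hne : frameHom ⟨y, hyf⟩ ≠ 1 := fun h1 => by
    obtain ⟨U, hU, e⟩ := frameHom_ker h1
    have := congrFun hyb b
    rw [show y = signCo U hU from e, ap_signCo hU (e8_mem none)] at this
    simp [e8, hb0] at this
  have hfM : frame ≤ M := fun g hg => by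
    haveI : (M.subgroupOf frame).Normal := Subgroup.normalClosure_normal.subgroupOf frame
    rcases Golay24.M24_simple.eq_bot_or_eq_top_of_normal _ (this.map frameHom frameHom_surjective) with h | h
    · exact absurd (Subgroup.mem_bot.1 (h ▸ Subgroup.mem_map_of_mem frameHom (show (⟨y, hyf⟩ : ↥frame) ∈ M.subgroupOf frame from hyM))) hne
    · obtain ⟨k, hk, hke⟩ := Subgroup.mem_map.1 (h ▸ Subgroup.mem_top (frameHom ⟨g, hg⟩))
      have hker : frameHom (⟨g, hg⟩ * k⁻¹) = 1 := by rw [map_mul, map_inv, hke, mul_inv_cancel]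
      obtain ⟨U, hU, e⟩ := frameHom_ker hker
      have h2 : g * (k : ↥Co0)⁻¹ ∈ M := by
        simp only [Subgroup.coe_mul, Subgroup.coe_inv] at e
        rw [e]; exact hsM (signCo_mem_signs hU)
      simpa using mul_mem h2 hk
  refine isCoatom_frame.2 M (lt_of_le_of_ne hfM fun e => ?_)
  -- a normal subgroup inside the frame stabiliser would fix every frame
  have hxf : ∀ Z, ∀ (hZ : InC Z), X.xiCo * signCo Z hZ * X.xiCo ∈ frame := fun Z hZ => by
    rw [e]
    have h := Subgroup.normalClosure_normal.conj_mem _ (hsM (signCo_mem_signs hZ)) X.xiCo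
    rwa [inv_eq_of_mul_eq_one_right hxx] at h
  obtain ⟨Z, hZ, hZT⟩ := exists_InC_inter_small (A := {none}) (T := X.tet 0)
    (Finset.singleton_subset_iff.2 (hX ▸ hnT (by simp))) (by rw [X.tet_card]; norm_num)
  have hf := mem_frame.1 (hxf Z hZ)
  rw [ap_mul _ _ (e8_mem none), ap_mul _ _ (ap_mem _ (e8_mem none)), X.ap_xiCo (e8_mem none),
    X.ap_xiCo (ap_mem _ (X.xi_mem (e8_mem none)))] at hf
  obtain ⟨q, hq⟩ := cross_std (X.xi_mem (ap_mem _ (X.xi_mem (e8_mem none))))
    (by rw [X.xi_norm (ap_mem _ (X.xi_mem (e8_mem none))), ap_norm _ (X.xi_mem (e8_mem none)),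
      X.xi_norm (e8_mem none), e8_norm]) hf
  set w := ap (signCo Z hZ) (X.xi (e8 none)) with hw
  have hwv : ∀ i ∈ X.tet 0, w i = 4 := fun i hi => by
    have hi0 := X.mem_tet.1 hi
    have hu : X.xi (e8 none) i = if i = none then -4 else 4 := by
      have : X.tsum (e8 none) 0 = 8 := by
        show ∑ i ∈ X.tet 0, e8 none i = 8
        simp [e8, X.mem_tet, hn0]
      simp only [Sx.xi, hi0, if_true, this]
      by_cases h : i = none <;> simp [h, e8]
    have hiZ : i ∈ Z ↔ i = none := by
      have := Finset.ext_iff.1 hZT i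
      simpa [hi] using this
    rw [hw, ap_signCo hZ (X.xi_mem (e8_mem none)), hu]
    by_cases h : i = none
    · simp [h, show none ∈ Z from h ▸ hiZ.2 h]
    · simp [h, show i ∉ Z from fun hh => h (hiZ.1 hh)]
  have : X.xi w none = 4 := by
    have ht : X.tsum w 0 = 16 := by
      show ∑ i ∈ X.tet 0, w i = 16
      rw [Finset.sum_congr rfl hwv, Finset.sum_const, X.tet_card]; rfl
    simp only [Sx.xi, hn0, if_true, ht, hwv none (X.mem_tet.2 hn0)]
    norm_num
  rcases hq with hq | hq <;> rw [hq] at this <;> simp only [e8, Pi.neg_apply] at this <;> split at this <;> omega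

theorem co0_perfect : commutator ↥Co0 = ⊤ :=
  top_le_iff.1 (normalClosure_signs ▸ Subgroup.normalClosure_le_normal signs_le_commutator)

theorem signs_comm : IsMulCommutative ↥signs :=
  ⟨⟨fun a b => Subtype.ext (by
    obtain ⟨c, hc⟩ := a.2
    obtain ⟨d, hd⟩ := b.2
    show (a : ↥Co0) * b = b * a
    rw [← hc, ← hd, ← map_mul, ← map_mul, mul_comm])⟩⟩

theorem e8_not_cong_zero : ¬ Cong (e8 none) 0 := fun ⟨z, hz, he⟩ => by
  have hv : ∀ i, z i = if i = none then 4 else 0 := fun i => by
    have := congrFun he i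
    simp only [Pi.sub_apply, Pi.zero_apply, sub_zero, Pi.smul_apply, nsmul_eq_mul, e8] at this
    by_cases h : i = none <;> simp [h] at this ⊢ <;> omega
  have hm := latM_of_mem hz (m := 0) (i := none) (by rw [hv]; norm_num)
  have := hm.2.1
  rw [Finset.sum_congr rfl fun i _ => hv i, Finset.sum_ite_eq' Finset.univ none, if_pos (Finset.mem_univ _)] at this
  norm_num at this

/-- normal subgroups are central or everything -/
theorem co0_normal_cases (N : Subgroup ↥Co0) [hN : N.Normal] : N ≤ Subgroup.center ↥Co0 ∨ N = ⊤ := by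
  by_cases hf : N ≤ frame
  · -- the vectors whose classes are fixed form an invariant subgroup
    left
    intro a ha
    let M : AddSubgroup Vec :=
      { carrier := {x | x ∈ leechLattice ∧ ∀ a ∈ N, Cong (ap a x) x}
        zero_mem' := ⟨zero_mem _, fun a _ => by rw [ap_zero]; exact Cong.refl 0⟩
        add_mem' := fun {x y} hx hy => ⟨add_mem hx.1 hy.1, fun a ha => by
          obtain ⟨z, hz, e⟩ := hx.2 a ha
          obtain ⟨z', hz', e'⟩ := hy.2 a ha
          exact ⟨z + z', add_mem hz hz', by rw [ap_add a hx.1 hy.1, smul_add, ← e, ← e']; abel⟩⟩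
        neg_mem' := fun {x} hx => ⟨neg_mem hx.1, fun a ha => by
          obtain ⟨z, hz, e⟩ := hx.2 a ha
          exact ⟨-z, neg_mem hz, by rw [ap_neg a hx.1, smul_neg, ← e]; abel⟩⟩ }
    have h8 : e8 none ∈ M := ⟨e8_mem none, fun a ha => mem_frame.1 (hf ha)⟩
    have hinv : ∀ g : ↥Co0, ∀ x ∈ M, ap g x ∈ M := fun g x hx => ⟨ap_mem g hx.1, fun a ha => by
      have h1 := hx.2 _ (hN.conj_mem a ha g⁻¹)
      rw [inv_inv, ap_mul _ _ hx.1, ap_mul _ _ (ap_mem g hx.1)] at h1
      have h2 := ap_cong g (ap_mem _ (ap_mem a (ap_mem g hx.1))) hx.1 h1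
      rwa [← ap_mul _ _ (ap_mem a (ap_mem g hx.1)), mul_inv_cancel, ap_one] at h2⟩
    have h2 : ∀ z ∈ leechLattice, 2 • z ∈ M := fun z hz => ⟨nsmul_mem hz 2, fun a _ =>
      ⟨ap a z - z, sub_mem (ap_mem a hz) hz, by rw [ap_nsmul_two a hz, smul_sub]⟩⟩
    rcases irreducible M h2 (fun x hx => hx.1) hinv with h | h
    · exact absurd (h _ h8) e8_not_cong_zero
    · exact center_eq.2 (kernel_classes a fun x hx => (show x ∈ M by rw [h]; exact hx).2 a ha)
  · right
    have hsup : N ⊔ frame = ⊤ := isCoatom_frame.2 _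
      (lt_of_le_of_ne le_sup_right fun e => hf (by rw [e]; exact le_sup_left))
    have hL : N ⊔ signs = ⊤ := by
      refine top_le_iff.1 (normalClosure_signs ▸ (Subgroup.closure_le _).2 fun s hs => ?_)
      obtain ⟨t, ht, hts⟩ := Group.mem_conjugatesOfSet_iff.1 hs
      obtain ⟨g, rfl⟩ := isConj_iff.1 hts
      obtain ⟨n, hn, f, hf', rfl⟩ : g ∈ (N : Set ↥Co0) * (frame : Set ↥Co0) := by
        rw [← Subgroup.normal_mul, hsup]; trivial
      show n * f * t * (n * f)⁻¹ ∈ N ⊔ signs
      have : n * f * t * (n * f)⁻¹ = n * (f * t * f⁻¹) * n⁻¹ := by group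
      rw [this]
      exact mul_mem (mul_mem (Subgroup.mem_sup_left hn) (Subgroup.mem_sup_right (signs_normalized hf' ht)))
        (inv_mem (Subgroup.mem_sup_left hn))
    exact top_le_iff.1 (co0_perfect ▸ hN.commutator_le_of_self_sup_commutative_eq_top hL signs_comm)

theorem card_center : Nat.card ↥(Subgroup.center ↥Co0) = 2 := by
  have : (Subgroup.center ↥Co0 : Set ↥Co0) = {1, negOne} := Set.ext fun g => center_eq
  rw [show Nat.card ↥(Subgroup.center ↥Co0) = Nat.card (Subgroup.center ↥Co0 : Set ↥Co0) from rfl, this,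
    Nat.card_coe_set_eq, Set.ncard_pair negOne_ne_one.symm]

theorem isCo1_quot : IsCo1 (↥Co0 ⧸ Subgroup.center ↥Co0) := by
  have hcard : Nat.card (↥Co0 ⧸ Subgroup.center ↥Co0) = 4157776806543360000 := by
    have h := Subgroup.card_eq_card_quotient_mul_card_subgroup (Subgroup.center ↥Co0)
    rw [card_center, LeechCount.co0_card] at h
    omega
  refine ⟨?_, hcard⟩
  haveI : Finite (↥Co0 ⧸ Subgroup.center ↥Co0) := Nat.finite_of_card_ne_zero (by rw [hcard]; norm_num)
  haveI : Nontrivial (↥Co0 ⧸ Subgroup.center ↥Co0) :=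
    Finite.one_lt_card_iff_nontrivial.1 (by rw [hcard]; norm_num)
  constructor
  intro Q hQ
  haveI := hQ.comap (QuotientGroup.mk' (Subgroup.center ↥Co0))
  have hsurj := QuotientGroup.mk'_surjective (Subgroup.center ↥Co0)
  rcases co0_normal_cases (Q.comap (QuotientGroup.mk' (Subgroup.center ↥Co0))) with h | h
  · left
    rw [← Subgroup.map_comap_eq_self_of_surjective hsurj Q, eq_bot_iff, Subgroup.map_le_iff_le_comap]
    refine h.trans fun x hx => ?_
    simpa [Subgroup.mem_comap] using hx
  · right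
    rw [← Subgroup.map_comap_eq_self_of_surjective hsurj Q, h, Subgroup.map_top_of_surjective _ hsurj]

end Cfsg.Agent.Leech
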