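import Cfsg.Agent.Lib.Leech.Sextet

set_option autoImplicit false

namespace Cfsg.Agent.Leech
open Cfsg
open scoped symmDiff

theorem InC_card_ge {S : Finset GolayPt} (h : InC S) (h' : S.card < 8) : S = ∅ := by
  rcases InC_weights h with e | e | e | e | e <;> first | exact Finset.card_eq_zero.1 e | omega

theorem zmod_two_sum_indicator (S : Finset GolayPt) (v : GolayPt → ZMod 2) :
    ∑ i ∈ S, v i = ((S ∩ support₂ v).card : ZMod 2) := by
  rw [← Finset.filter_mem_eq_inter, ← Finset.sum_filter_add_sum_filter_not S (· ∈ support₂ v)]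
  have h2 : ∑ i ∈ S.filter (fun i => ¬ i ∈ support₂ v), v i = 0 :=
    Finset.sum_eq_zero fun i hi => by simpa [support₂] using (Finset.mem_filter.1 hi).2
  have h1 : ∀ i ∈ S.filter (· ∈ support₂ v), v i = 1 := fun i hi => by
    have : v i ≠ 0 := by simpa [support₂] using (Finset.mem_filter.1 hi).2
    revert this; generalize v i = a; revert a; decide
  rw [h2, add_zero, Finset.sum_congr rfl h1, Finset.sum_const, nsmul_eq_mul, mul_one]

/-- prescribing a codeword on a set, subject to the parity conditions from the code -/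
theorem exists_InC_inter {A T : Finset GolayPt} (hA : A ⊆ T)
    (hpar : ∀ S, InC S → S ⊆ T → Even (S ∩ A).card) : ∃ c, InC c ∧ c ∩ T = A := by
  classical
  let r : (GolayPt → ZMod 2) →ₗ[ZMod 2] (GolayPt → ZMod 2) :=
    { toFun := fun v i => if i ∈ T then v i else 0
      map_add' := fun v w => funext fun i => by by_cases h : i ∈ T <;> simp [h]
      map_smul' := fun c v => funext fun i => by by_cases h : i ∈ T <;> simp [h] }
  let a : GolayPt → ZMod 2 := fun i => if i ∈ A then 1 else 0
  by_cases ha : a ∈ golayCode.map r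
  · obtain ⟨w, hw, he⟩ := ha
    refine ⟨support₂ w, ⟨w, hw, rfl⟩, ?_⟩
    ext i
    have hi : (if i ∈ T then w i else 0) = (if i ∈ A then 1 else 0 : ZMod 2) := congrFun he i
    simp only [Finset.mem_inter, support₂, Finset.mem_filter, Finset.mem_univ, true_and]
    by_cases h1 : i ∈ A
    · rw [if_pos h1, if_pos (hA h1)] at hi
      simp [h1, hA h1, hi]
    · rw [if_neg h1] at hi
      by_cases h2 : i ∈ T
      · rw [if_pos h2] at hi; simp [h1, hi]
      · simp [h1, h2]
  · exfalso
    obtain ⟨f, hfa, hf⟩ := Submodule.exists_le_ker_of_notMem ha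
    let d : Finset GolayPt := T.filter fun i => f (Pi.single i 1) ≠ 0
    have hexp : ∀ v : GolayPt → ZMod 2, (∀ i, i ∉ T → v i = 0) →
        f v = ((d ∩ support₂ v).card : ZMod 2) := fun v hv => by
      rw [← zmod_two_sum_indicator, LinearMap.pi_apply_eq_sum_univ f v]
      rw [Finset.sum_filter]
      rw [← Finset.sum_subset (Finset.subset_univ T) (fun i _ hi => by simp [hv i hi])]
      refine Finset.sum_congr rfl fun i _ => ?_
      have : (fun j : GolayPt => if i = j then (1 : ZMod 2) else 0) = Pi.single i 1 := by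
        funext j; by_cases h : i = j <;> simp [h, Pi.single_apply, Ne.symm]
      rw [this, smul_eq_mul]
      generalize f (Pi.single i 1) = b; generalize v i = c
      revert b c; decide
    have hd : InC d := by
      refine InC_of_inter_even fun S hS => ?_
      obtain ⟨w, hw, rfl⟩ := hS
      have h0 : f (r w) = 0 := hf ⟨w, hw, rfl⟩
      rw [hexp (r w) (fun i hi => if_neg hi)] at h0
      have e : d ∩ support₂ (r w) = d ∩ support₂ w := by
        ext i
        simp only [Finset.mem_inter, support₂, Finset.mem_filter, Finset.mem_univ, true_and, d]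
        constructor <;> rintro ⟨⟨h1, h2⟩, h3⟩ <;> refine ⟨⟨h1, h2⟩, ?_⟩ <;> simpa [r, h1] using h3
      rw [e] at h0
      exact ZMod.natCast_eq_zero_iff_even.1 h0
    apply hfa
    have hsupp : support₂ a = A := by ext i; by_cases h : i ∈ A <;> simp [support₂, a, h]
    rw [hexp a (fun i hi => if_neg fun h => hi (hA h)), hsupp]
    exact ZMod.natCast_eq_zero_iff_even.2 (hpar d hd (Finset.filter_subset _ _))

theorem exists_InC_inter_small {A T : Finset GolayPt} (hA : A ⊆ T) (hT : T.card ≤ 7) :
    ∃ c, InC c ∧ c ∩ T = A :=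
  exists_InC_inter hA fun S hS hST => by
    rw [InC_card_ge hS (by have := Finset.card_le_card hST; omega)]; simp

/-- a codeword meeting a given small set oddly -/
theorem exists_InC_odd {T : Finset GolayPt} (hT : T.card ≤ 7) (hne : T.Nonempty) :
    ∃ c, InC c ∧ (c ∩ T).card = 1 := by
  obtain ⟨p, hp⟩ := hne
  obtain ⟨c, hc, he⟩ := exists_InC_inter_small (Finset.singleton_subset_iff.2 hp) hT
  exact ⟨c, hc, by rw [he, Finset.card_singleton]⟩

end Cfsg.Agent.Leech
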