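import Cfsg.Prelude.Def_Sporadic_a
import Cfsg.Prelude.Def_SporadicCombinatorics
import Cfsg.Agent.Lib.Golay.Conj

set_option autoImplicit false

namespace Cfsg.Agent.Leech
open Cfsg
open scoped symmDiff

/-- `S` is the support of a word of the length-24 code. -/
def InC (S : Finset GolayPt) : Prop := S ∈ supports (golayCode : Set (GolayPt → ZMod 2))

theorem InC_empty : InC ∅ := ⟨0, Submodule.zero_mem _, by ext p; simp [support₂]⟩

theorem InC_univ : InC Finset.univ :=
  ⟨1, Submodule.subset_span (Set.mem_union_right _ rfl), by ext p; simp [support₂]⟩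

theorem InC_symmDiff {S T : Finset GolayPt} (hS : InC S) (hT : InC T) : InC (S ∆ T) := by
  obtain ⟨v, hv, rfl⟩ := hS
  obtain ⟨w, hw, rfl⟩ := hT
  refine ⟨v + w, Submodule.add_mem _ hv hw, ?_⟩
  ext p
  simp only [support₂, Finset.mem_filter, Finset.mem_univ, true_and, Finset.mem_symmDiff, Pi.add_apply]
  generalize v p = a; generalize w p = b
  revert a b; decide

theorem InC_weights {S : Finset GolayPt} (hS : InC S) :
    S.card = 0 ∨ S.card = 8 ∨ S.card = 12 ∨ S.card = 16 ∨ S.card = 24 :=
  Golay24.card_supports_cases hS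

theorem dotLin_eq_card (v w : GolayPt → ZMod 2) :
    Golay24.dotLin v w = ((support₂ v ∩ support₂ w).card : ZMod 2) := by
  have e : support₂ v ∩ support₂ w = Finset.univ.filter fun i => v i * w i ≠ 0 := by
    ext i
    simp [support₂]
  rw [e]
  show ∑ i, v i * w i = _
  rw [← Finset.sum_filter_ne_zero]
  have h : ∀ i ∈ Finset.univ.filter (fun i => v i * w i ≠ 0), v i * w i = 1 := fun i hi => by
    have := (Finset.mem_filter.1 hi).2
    revert this; generalize v i * w i = a; revert a; decide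
  rw [Finset.sum_congr rfl h, Finset.sum_const, nsmul_eq_mul, mul_one]

theorem dot_golay {v w : GolayPt → ZMod 2} (hv : v ∈ golayCode) (hw : w ∈ golayCode) :
    Golay24.dotLin v w = 0 := by
  rw [Golay24.golayCode_eq_span] at hv
  induction hv using Submodule.span_induction with
  | mem x hx =>
    obtain ⟨i, rfl⟩ := hx
    exact Golay24.golayCode_le_dot hw i
  | zero => simp [Golay24.dotLin]
  | add x y _ _ hx hy =>
    have : Golay24.dotLin (x + y) w = Golay24.dotLin x w + Golay24.dotLin y w := by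
      simp [Golay24.dotLin, add_mul, Finset.sum_add_distrib]
    rw [this, hx, hy, add_zero]
  | smul c x _ hx =>
    have : Golay24.dotLin (c • x) w = c * Golay24.dotLin x w := by
      show (∑ i, c * x i * w i) = c * ∑ i, x i * w i
      rw [Finset.mul_sum]
      exact Finset.sum_congr rfl fun i _ => mul_assoc _ _ _
    rw [this, hx, mul_zero]

theorem InC_inter_even {S T : Finset GolayPt} (hS : InC S) (hT : InC T) : Even (S ∩ T).card := by
  obtain ⟨v, hv, rfl⟩ := hS
  obtain ⟨w, hw, rfl⟩ := hT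
  exact ZMod.natCast_eq_zero_iff_even.1 (by rw [← dotLin_eq_card]; exact dot_golay hv hw)

theorem InC_of_inter_even {S : Finset GolayPt} (h : ∀ T, InC T → Even (S ∩ T).card) : InC S := by
  refine ⟨Golay24.wordOf (Golay24.maskOf S), Golay24.mem_golayCode_iff_dot.2 fun i => ?_, ?_⟩
  · rw [dotLin_eq_card, Golay24.support₂_wordOf (Golay24.maskOf S), Golay24.setOf_maskOf, Finset.inter_comm]
    exact ZMod.natCast_eq_zero_iff_even.2 (h _ ⟨_, Golay24.basisWord_mem i, rfl⟩)
  · rw [Golay24.support₂_wordOf, Golay24.setOf_maskOf]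

theorem InC_five {S : Finset GolayPt} (hS : S.card = 5) : ∃ O, InC O ∧ O.card = 8 ∧ S ⊆ O := by
  obtain ⟨O, hO, hsub⟩ := Golay24.exists_octad_through hS
  exact ⟨O, hO.1, hO.2, hsub⟩

theorem M24_four_transitive (f g : Fin 4 → GolayPt) (hf : Function.Injective f) (hg : Function.Injective g) :
    ∃ σ : Equiv.Perm GolayPt, σ ∈ M24 ∧ ∀ i, σ (f i) = g i := by
  obtain ⟨σ, hσ, h⟩ := Golay24.exists_map_le_five (by norm_num : (4 : ℕ) ≤ 5) ⟨f, hf⟩ ⟨g, hg⟩
  exact ⟨σ, hσ, h⟩

end Cfsg.Agent.Leech
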