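import Cfsg.Agent.Lib.Leech.Orbits

set_option autoImplicit false

namespace Cfsg.Agent.Leech
open Cfsg
open scoped symmDiff

theorem dot_e8 (x : Vec) (i : GolayPt) : dotInt x (e8 i) = 8 * x i := by
  rw [mul_comm]
  simp [dotInt, e8]

theorem dot_comm (x y : Vec) : dotInt x y = dotInt y x :=
  Finset.sum_congr rfl fun i _ => mul_comm _ _

theorem dot_neg_left (x y : Vec) : dotInt (-x) y = -dotInt x y := by
  simp [dotInt]

/-- difference vector `4 e_p - 4 e_q` -/
def d44 (p q : GolayPt) : Vec := fun j => if j = p then 4 else if j = q then -4 else 0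

theorem d44_mem {p q : GolayPt} (h : p ≠ q) : d44 p q ∈ leechLattice := by
  refine (mem_leech_iff _).2 ⟨0, (four_mem (fun j => by simp only [d44]; split_ifs <;> omega) ?_).1⟩
  have : ∀ j, d44 p q j = (if j = p then 4 else 0) + (if j = q then -4 else 0) := fun j => by
    simp only [d44]; split_ifs with h1 h2 <;> first | omega | exact absurd (h1.symm.trans h2) h
  simp [this, Finset.sum_add_distrib]

theorem d44_norm {p q : GolayPt} (h : p ≠ q) : sqNorm (d44 p q) = 32 := by
  have : ∀ j, d44 p q j ^ 2 = (if j = p then 16 else 0) + (if j = q then 16 else 0) := fun j => by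
    simp only [d44]; split_ifs with h1 h2 <;> first | (norm_num; done) | exact absurd (h1.symm.trans h2) h
  simp [sqNorm, this, Finset.sum_add_distrib]

theorem cong_e8 (i j : GolayPt) : Cong (e8 i) (e8 j) := by
  by_cases h : i = j
  · subst h; exact Cong.refl _
  · refine ⟨d44 i j, d44_mem h, funext fun k => ?_⟩
    simp only [Pi.sub_apply, Pi.smul_apply, e8, d44, nsmul_eq_mul]
    split_ifs with h1 h2 <;> first | (norm_num; done) | exact absurd (h1.symm.trans h2) h

/-- the vectors of sum of squares 64 congruent to the standard cross vectors -/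
theorem cross_std {y : Vec} (hy : y ∈ leechLattice) (hn : sqNorm y = 64) (hc : Cong y (e8 none)) :
    ∃ i, y = e8 i ∨ y = -e8 i := by
  by_contra hne
  push Not at hne
  have h0 : y = 0 := funext fun i => by
    rcases cong_short hy (e8_mem i) (hc.trans (cong_e8 none i)) hn.le (e8_norm i).le with h | h | h
    · exact absurd h (hne i).1
    · exact absurd h (hne i).2
    · have := dot_e8 y i
      show y i = 0
      omega
  rw [h0] at hn; simp [sqNorm] at hn

/-- twice the indicator of a codeword -/
def twoVec (c : Finset GolayPt) : Vec := fun i => if i ∈ c then 2 else 0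

theorem twoVec_latM {c : Finset GolayPt} (hc : InC c) : LatM 0 (twoVec c) ∧ pat 0 (twoVec c) = c := by
  have hp : pat 0 (twoVec c) = c := by
    ext i; rw [mem_pat]; simp only [twoVec, sub_zero]; by_cases h : i ∈ c <;> simp [h]
  refine ⟨⟨fun i => by simp only [twoVec]; split <;> omega, ?_, hp.symm ▸ hc⟩, hp⟩
  simp only [twoVec]
  rw [sum_indicator]
  have := InC_four_dvd hc
  omega

theorem vecV_latM : LatM 1 Spor.vecV := by
  have h := (mem_leech_iff _).2 ((leechSet_iff _).1 Spor.vecV_mem_leechSet)
  exact latM_of_mem h (i := none) (by simp [Spor.vecV])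

/-- automorphisms fixing the standard cross class are monomial -/
theorem stab_e8 (g : ↥Co0) (h : Cong (ap g (e8 none)) (e8 none)) :
    ∃ (σ : Equiv.Perm GolayPt) (S : Finset GolayPt), σ ∈ M24 ∧ InC S ∧
      ∀ x ∈ leechLattice, ap g x = mono σ S x := by
  classical
  have hi : ∀ i, ∃ j, ap g (e8 i) = e8 j ∨ ap g (e8 i) = -e8 j := fun i =>
    cross_std (ap_mem g (e8_mem i)) (by rw [ap_norm g (e8_mem i), e8_norm])
      ((ap_cong g (e8_mem i) (e8_mem none) (cong_e8 i none)).trans h)
  choose f hf using hi
  have finj : Function.Injective f := fun i j hij => by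
    by_contra hne
    have h0 : dotInt (ap g (e8 i)) (ap g (e8 j)) = 0 := by
      rw [ap_dot g (e8_mem i) (e8_mem j), dot_e8]; simp [e8, Ne.symm hne]
    have hd : dotInt (e8 (f j)) (e8 (f j)) = 64 := by rw [dot_e8]; simp [e8]
    rcases hf i with hI | hI <;> rcases hf j with hJ | hJ <;> rw [hI, hJ, hij] at h0 <;>
      simp only [dot_neg_left, dot_comm (e8 (f j)) (-e8 (f j)), hd] at h0 <;> omega
  let σ : Equiv.Perm GolayPt := Equiv.ofBijective f (Finite.injective_iff_bijective.1 finj)
  let S : Finset GolayPt := Finset.univ.filter fun k => ap g (e8 (σ.symm k)) = -e8 k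
  have hne : ∀ k, e8 k ≠ -e8 k := fun k hk => by
    have := congrFun hk k; simp [e8] at this
  have happ : ∀ x ∈ leechLattice, ap g x = mono σ S x := fun x hx => funext fun k => by
    have hk : f (σ.symm k) = k := σ.apply_symm_apply k
    have hd := ap_dot g hx (e8_mem (σ.symm k))
    rw [dot_e8] at hd
    simp only [mono]
    rcases hf (σ.symm k) with h' | h' <;> rw [hk] at h'
    · rw [if_neg (by simp only [S, Finset.mem_filter, Finset.mem_univ, true_and, h']; exact hne k)]
      rw [h', dot_e8] at hd; omega
    · rw [if_pos (by simp only [S, Finset.mem_filter, Finset.mem_univ, true_and, h'])]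
      rw [h', dot_comm, dot_neg_left, dot_comm, dot_e8] at hd; omega
  have hv : Spor.vecV ∈ leechLattice := (mem_leech_iff _).2 ⟨1, vecV_latM⟩
  have hS : InC S := by
    have hm := latM_of_mem (ap_mem g hv) (m := -1) (i := none) (by
      rw [happ _ hv]; simp only [mono, Spor.vecV]; split_ifs <;> omega)
    have e : pat (-1) (ap g Spor.vecV) = S := by
      ext k
      rw [mem_pat, happ _ hv]
      simp only [mono, Spor.vecV]
      split_ifs with h1 h2 h3 <;> simp only [h1, iff_true, iff_false, not_not] <;> norm_num
    rw [← e]; exact hm.2.2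
  refine ⟨σ, S, ?_, hS, happ⟩
  have hmap : ∀ c, InC c → InC (c.image σ) := fun c hc => by
    obtain ⟨hl, hp⟩ := twoVec_latM hc
    have hL := (mem_leech_iff _).2 ⟨0, hl⟩
    have hval : ∀ k, ap (signCo S hS) (ap g (twoVec c)) k = twoVec c (σ.symm k) := fun k => by
      rw [ap_signCo hS (ap_mem g hL), happ _ hL]
      simp only [mono]; split <;> simp
    have hm := latM_of_mem (ap_mem (signCo S hS) (ap_mem g hL)) (m := 0) (i := none) (by
      rw [hval]; simp only [twoVec]; split <;> omega)
    have e : pat 0 (ap (signCo S hS) (ap g (twoVec c))) = c.image σ := by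
      ext k
      rw [mem_pat, hval]
      simp only [twoVec, Finset.mem_image, sub_zero]
      constructor
      · intro hh
        refine ⟨σ.symm k, ?_, σ.apply_symm_apply k⟩
        by_contra hc'; rw [if_neg hc'] at hh; exact hh (dvd_zero _)
      · rintro ⟨j, hj, rfl⟩; simp [hj]
    rw [← e]; exact hm.2.2
  open Pointwise in
  refine MulAction.mem_stabilizer_iff.2 (Set.eq_of_subset_of_ncard_le ?_ ?_ (Set.toFinite _))
  · rintro _ ⟨c, hc, rfl⟩; exact hmap c hc
  · exact (Set.ncard_image_of_injective _ (MulAction.injective σ)).ge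

theorem pair_eq_of_e44 {p q p' q' : GolayPt} (h : ∀ k, e44 p q k ≠ 0 → e44 p' q' k ≠ 0) :
    (p = p' ∨ p = q') ∧ (q = p' ∨ q = q') := by
  have hp := h p (by simp [e44])
  have hq := h q (by simp [e44])
  simp only [e44] at hp hq
  constructor
  · by_contra hc; rw [if_neg hc] at hp; exact hp rfl
  · by_contra hc; rw [if_neg hc] at hq; exact hq rfl

/-- an automorphism fixing all classes modulo twice the lattice is plus or minus the identity -/
theorem kernel_classes (g : ↥Co0) (h : ∀ x ∈ leechLattice, Cong (ap g x) x) : g = 1 ∨ g = negOne := by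
  obtain ⟨σ, S, hσ, hS, happ⟩ := stab_e8 g (h _ (e8_mem none))
  have hpair : ∀ p q, p ≠ q → mono σ S (e44 p q) = e44 p q ∨ mono σ S (e44 p q) = -e44 p q := fun p q hpq => by
    have hL := e44_mem hpq
    have := cong_short (ap_mem g hL) hL (h _ hL) (by rw [ap_norm g hL, e44_norm hpq]; norm_num)
      (by rw [e44_norm hpq]; norm_num)
    rw [ap_norm g hL, e44_norm hpq, happ _ hL] at this
    rcases this with h | h | h
    · exact Or.inl h
    · exact Or.inr h
    · omega
  have hfix : ∀ p, σ p = p := fun p => by
    by_contra hne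
    obtain ⟨q, hqp, hqs⟩ : ∃ q, q ≠ p ∧ q ≠ σ p := by
      obtain ⟨q, hq⟩ : ((Finset.univ : Finset GolayPt) \ {p, σ p}).Nonempty := Finset.card_pos.1 (by
        have h2 : ({p, σ p} : Finset GolayPt).card ≤ 2 := Finset.card_le_two
        rw [Finset.card_sdiff_of_subset (Finset.subset_univ _), Finset.card_univ, card_pt]; omega)
      simp only [Finset.mem_sdiff, Finset.mem_insert, Finset.mem_singleton, not_or] at hq
      exact ⟨q, hq.2.1, hq.2.2⟩
    have hz : mono σ S (e44 p q) (σ p) ≠ 0 := by
      simp only [mono, Equiv.symm_apply_apply, e44]; split <;> simp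
    have h0 : e44 p q (σ p) = 0 := by
      simp only [e44]; exact if_neg (by rintro (h | h); exacts [hne h, hqs h.symm])
    rcases hpair p q (Ne.symm hqp) with e | e <;> rw [e] at hz
    · exact hz h0
    · simp [h0] at hz
  have hσ1 : σ = 1 := Equiv.ext hfix
  subst hσ1
  have hconst : ∀ p q, p ≠ q → (p ∈ S ↔ q ∈ S) := fun p q hpq => by
    rcases hpair p q hpq with e | e <;>
      · have e1 := congrFun e p
        have e2 := congrFun e q
        by_cases hp : p ∈ S <;> by_cases hq : q ∈ S <;>
          simp [mono, e44, Equiv.Perm.one_def, hp, hq] at e1 e2 ⊢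
  have hext : ∀ k : ↥Co0, (∀ x ∈ leechLattice, ap g x = ap k x) → g = k := fun k hk =>
    Subtype.ext (Equiv.ext fun v => Subtype.ext (by
      have e := hk v v.2; rwa [ap_coe, ap_coe] at e))
  by_cases hn : none ∈ S
  · right
    refine hext _ fun x hx => ?_
    rw [happ x hx, ap_negOne hx]
    funext i
    have : i ∈ S := by
      by_cases hi : i = none
      · rw [hi]; exact hn
      · exact (hconst _ _ hi).2 hn
    simp [mono, this, Equiv.Perm.one_def]
  · left
    refine hext _ fun x hx => ?_
    rw [happ x hx, ap_one]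
    funext i
    have : i ∉ S := by
      by_cases hi : i = none
      · rw [hi]; exact hn
      · exact fun h' => hn ((hconst _ _ hi).1 h')
    simp [mono, this, Equiv.Perm.one_def]

theorem negOne_central (g : ↥Co0) : negOne * g = g * negOne := by
  refine Subtype.ext (Equiv.ext fun v => ?_)
  show negOne • (g • v) = g • (negOne • v)
  rw [negOne_smul, negOne_smul, co0_smul_neg]

theorem negOne_mem_center : negOne ∈ Subgroup.center ↥Co0 :=
  Subgroup.mem_center_iff.2 fun g => (negOne_central g).symm

theorem negOne_ne_one : negOne ≠ (1 : ↥Co0) := fun h => by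
  have := congrFun (congrArg (fun k => ap k (e8 none)) h) none
  simp [ap_negOne (e8_mem none), ap_one, e8] at this

/-- the centre consists of plus and minus the identity -/
theorem center_eq {g : ↥Co0} : g ∈ Subgroup.center ↥Co0 ↔ g = 1 ∨ g = negOne := by
  refine ⟨fun hg => ?_, ?_⟩
  swap
  · rintro (rfl | rfl)
    · exact one_mem _
    · exact negOne_mem_center
  have hcom : ∀ k : ↥Co0, ∀ x ∈ leechLattice, ap k (ap g x) = ap g (ap k x) := fun k x hx => by
    rw [← ap_mul _ _ hx, ← ap_mul _ _ hx, Subgroup.mem_center_iff.1 hg k]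
  have hsupp : ∀ i j, j ≠ i → ap g (e8 i) j = 0 := fun i j hj => by
    obtain ⟨c, hc, he⟩ := exists_InC_inter_small (A := {j}) (T := {i, j}) (by simp)
      (Finset.card_le_two.trans (by norm_num))
    have hjc : j ∈ c := (Finset.mem_inter.1 (show j ∈ c ∩ {i, j} by rw [he]; simp)).1
    have hic : i ∉ c := fun hi => by
      have : i ∈ ({j} : Finset GolayPt) := he ▸ Finset.mem_inter.2 ⟨hi, by simp⟩
      exact hj (Finset.mem_singleton.1 this).symm
    have e1 : ap (signCo c hc) (e8 i) = e8 i := funext fun k => by
      rw [ap_signCo hc (e8_mem i)]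
      by_cases hk : k = i
      · subst hk; simp [hic]
      · simp [e8, hk]
    have := congrFun (hcom (signCo c hc) _ (e8_mem i)) j
    rw [e1, ap_signCo hc (ap_mem g (e8_mem i)), if_pos hjc] at this
    omega
  have hcl : Cong (ap g (e8 none)) (e8 none) := by
    have hv : ap g (e8 none) = ap g (e8 none) none • (fun k => if k = none then (1 : ℤ) else 0) := funext fun k => by
      by_cases hk : k = none
      · subst hk; simp
      · simp [hk, hsupp none k hk]
    have hn := ap_norm g (e8_mem none)
    rw [e8_norm, hv, sqNorm_smul] at hn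
    have h1 : sqNorm (fun k : GolayPt => if k = none then (1 : ℤ) else 0) = 1 := by simp [sqNorm]
    rw [h1, mul_one] at hn
    have hpm : ap g (e8 none) none = 8 ∨ ap g (e8 none) none = -8 := by
      have : (ap g (e8 none) none - 8) * (ap g (e8 none) none + 8) = 0 := by linear_combination hn
      rcases mul_eq_zero.1 this with h | h <;> omega
    rcases hpm with h | h
    · have : ap g (e8 none) = e8 none := by
        funext k; by_cases hk : k = none
        · subst hk; simp [h, e8]
        · simp [hsupp none k hk, e8, hk]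
      rw [this]; exact Cong.refl _
    · have : ap g (e8 none) = -e8 none := by
        funext k; by_cases hk : k = none
        · subst hk; simp [h, e8]
        · simp [hsupp none k hk, e8, hk]
      rw [this]; exact (cong_neg (e8_mem none)).symm
  obtain ⟨σ, S, hσ, hS, happ⟩ := stab_e8 g hcl
  have hfix : ∀ p, σ p = p := fun p => by
    by_contra hne
    have := hsupp p (σ p) hne
    rw [happ _ (e8_mem p)] at this
    simp only [mono, Equiv.symm_apply_apply, e8] at this
    split at this <;> simp at this
  have hσ1 : σ = 1 := Equiv.ext hfix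
  subst hσ1
  have hconst : ∀ p, p ∈ S ↔ none ∈ S := fun p => by
    obtain ⟨π, hπ, hs⟩ := Golay24.exists_map_le_five (by norm_num : (1 : ℕ) ≤ 5)
      ⟨fun _ : Fin 1 => none, fun a b _ => Subsingleton.elim a b⟩ ⟨fun _ : Fin 1 => p, fun a b _ => Subsingleton.elim a b⟩
    have hs0 : π none = p := hs 0
    have := congrFun (hcom (permCo π hπ) _ (e8_mem none)) p
    rw [perm_e8 hπ, ap_permCo hπ (ap_mem g (e8_mem none)), happ _ (e8_mem none), hs0, happ _ (e8_mem p)] at this
    have hs' : π.symm p = none := by rw [← hs0, Equiv.symm_apply_apply]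
    rw [hs'] at this
    by_cases h1 : p ∈ S <;> by_cases h2 : none ∈ S <;> simp [mono, e8, Equiv.Perm.one_def, h1, h2] at this ⊢
  refine kernel_classes g fun x hx => ?_
  rw [happ x hx]
  by_cases hn : none ∈ S
  · have : mono 1 S x = -x := funext fun i => by simp [mono, (hconst i).2 hn, Equiv.Perm.one_def]
    rw [this]; exact (cong_neg hx).symm
  · have : mono 1 S x = x := funext fun i => by
      simp [mono, show i ∉ S from fun hi => hn ((hconst i).1 hi), Equiv.Perm.one_def]
    rw [this]; exact Cong.refl x

end Cfsg.Agent.Leech
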