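import Cfsg.Agent.Lib.Leech.Singular
import Cfsg.Agent.Lib.Leech.Stab

set_option autoImplicit false

namespace Cfsg.Agent.Leech
open Cfsg
open scoped symmDiff

/-- the classes that sign changes only move by the cross class -/
theorem fourSub_of_signs {w : Vec} (hw : w ∈ leechLattice)
    (h : ∀ c (hc : InC c), Cong (ap (signCo c hc) w) w ∨ Cong (ap (signCo c hc) w) (w + e8 none)) : w ∈ fourSub := by
  have key : ∀ c (hc : InC c), ∃ z ∈ leechLattice, ∃ δ : ℤ,
      ∀ i, (if i ∈ c then -2 * w i else 0) = 2 * z i + 8 * δ * (if i = none then 1 else 0) := fun c hc => by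
    have hv : ∀ i, ap (signCo c hc) w i - w i = if i ∈ c then -2 * w i else 0 := fun i => by
      rw [ap_signCo hc hw]; split <;> ring
    rcases h c hc with ⟨z, hz, he⟩ | ⟨z, hz, he⟩
    · refine ⟨z, hz, 0, fun i => ?_⟩
      have := congrFun he i
      simp only [Pi.sub_apply, two_nsmul, Pi.add_apply, hv i] at this
      omega
    · refine ⟨z, hz, 1, fun i => ?_⟩
      have := congrFun he i
      have := hv i
      simp only [Pi.sub_apply, two_nsmul, Pi.add_apply, e8] at *
      split_ifs at * <;> omega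
  obtain ⟨m, hm⟩ := (mem_leech_iff w).1 hw
  have heven : (2 : ℤ) ∣ m := by
    by_contra hodd
    obtain ⟨T, -, hT⟩ := Finset.exists_subset_card_eq (s := (Finset.univ : Finset GolayPt)) (n := 5)
      (by rw [Finset.card_univ, card_pt]; norm_num)
    obtain ⟨O, hO, hO8, -⟩ := InC_five hT
    obtain ⟨z, hz, δ, hzv⟩ := key O hO
    obtain ⟨n, hn⟩ := (mem_leech_iff z).1 hz
    obtain ⟨p, hp⟩ : O.Nonempty := Finset.card_pos.1 (by omega)
    obtain ⟨q, hq⟩ : (Finset.univ \ O).Nonempty := Finset.card_pos.1 (by
      rw [Finset.card_sdiff_of_subset (Finset.subset_univ _), Finset.card_univ, card_pt, hO8]; norm_num)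
    have h1 := hzv p; have h2 := hzv q
    rw [if_pos hp] at h1
    rw [if_neg (Finset.mem_sdiff.1 hq).2] at h2
    have := hm.1 p; have := hn.1 p; have := hn.1 q
    split_ifs at h1 h2 <;> omega
  have hl : LatM 0 w := hm.shift (by omega)
  have hP : pat 0 w = ∅ ∨ pat 0 w = Finset.univ := by
    by_contra hne
    push Not at hne
    set d := pat 0 w with hd
    obtain ⟨i, hi⟩ := hne.1
    obtain ⟨j, hj⟩ : (Finset.univ \ d).Nonempty := by
      rw [Finset.sdiff_nonempty]; exact fun h => hne.2 (Finset.univ_subset_iff.1 h)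
    have hj' : j ∉ d := (Finset.mem_sdiff.1 hj).2
    obtain ⟨S, hsub, hS⟩ := Finset.exists_subsuperset_card_eq (s := ({i, j} : Finset GolayPt))
      (t := Finset.univ) (n := 5) (Finset.subset_univ _) (Finset.card_le_two.trans (by norm_num))
      (by rw [Finset.card_univ, card_pt]; norm_num)
    obtain ⟨O, hO, hO8, hSO⟩ := InC_five hS.2
    have hiO : i ∈ O := hSO (hsub (by simp))
    have hjO : j ∈ O := hSO (hsub (by simp))
    obtain ⟨z, hz, δ, hzv⟩ := key O hO
    have hzl : LatM 0 z := latM_of_mem hz (i := j) (by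
      have := hzv j; rw [if_pos hjO] at this; have := hl.1 j; split_ifs at * <;> omega)
    have e : pat 0 z = O ∩ d := by
      ext k
      have := hzv k
      have := hl.1 k
      rw [mem_pat, Finset.mem_inter, hd, mem_pat]
      by_cases hk : k ∈ O <;> simp only [hk, if_true, if_false, true_and, false_and, iff_false, not_not] at * <;>
        split_ifs at * <;> omega
    have hlt : (pat 0 z).card < 8 := hO8 ▸ Finset.card_lt_card ⟨e ▸ Finset.inter_subset_left, fun h => hj' (by
      have := h hjO; rw [e] at this; exact (Finset.mem_inter.1 this).2)⟩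
    have h0 := InC_card_ge hzl.2.2 hlt
    rw [e] at h0
    exact absurd (Finset.mem_inter.2 ⟨hiO, hi⟩) (by rw [h0]; simp)
  refine mem_fourSub.2 ⟨hw, ?_, fun i => ?_⟩
  · have := hl.1 none; omega
  · have := hl.1 i; have := hl.1 none
    rcases hP with hP | hP
    · have h1 : i ∉ pat 0 w := by rw [hP]; simp
      have h2 : none ∉ pat 0 w := by rw [hP]; simp
      rw [mem_pat] at h1 h2; omega
    · have h1 : i ∈ pat 0 w := by rw [hP]; simp
      have h2 : none ∈ pat 0 w := by rw [hP]; simp
      rw [mem_pat] at h1 h2; omega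

end Cfsg.Agent.Leech
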