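import Cfsg.Agent.Lib.Leech.CodeFacts

set_option autoImplicit false

namespace Cfsg.Agent.Leech
open Cfsg
open scoped symmDiff

abbrev Vec : Type := GolayPt → ℤ

/-- positions where `x` is not congruent to `m` modulo 4 -/
def pat (m : ℤ) (x : Vec) : Finset GolayPt := Finset.univ.filter fun i => ¬ (4 : ℤ) ∣ x i - m

/-- membership test with explicit parity witness -/
def LatM (m : ℤ) (x : Vec) : Prop :=
  (∀ i, (2 : ℤ) ∣ x i - m) ∧ (8 : ℤ) ∣ (∑ i, x i) - 4 * m ∧ InC (pat m x)

theorem mem_pat {m : ℤ} {x : Vec} {i : GolayPt} : i ∈ pat m x ↔ ¬ (4 : ℤ) ∣ x i - m := by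
  simp [pat]

theorem latM_zero : LatM 0 0 := by
  refine ⟨fun i => by simp, by simp, ?_⟩
  have : pat 0 (0 : Vec) = ∅ := by ext i; simp [pat]
  rw [this]; exact InC_empty

theorem LatM.add {m n : ℤ} {x y : Vec} (hx : LatM m x) (hy : LatM n y) : LatM (m + n) (x + y) := by
  refine ⟨fun i => ?_, ?_, ?_⟩
  · have := hx.1 i; have := hy.1 i; simp only [Pi.add_apply]; omega
  · have := hx.2.1; have := hy.2.1
    simp only [Pi.add_apply, Finset.sum_add_distrib]; omega
  · have e : pat (m + n) (x + y) = pat m x ∆ pat n y := by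
      ext i
      have := hx.1 i; have := hy.1 i
      simp only [Finset.mem_symmDiff, mem_pat, Pi.add_apply]
      omega
    rw [e]; exact InC_symmDiff hx.2.2 hy.2.2

theorem LatM.neg {m : ℤ} {x : Vec} (hx : LatM m x) : LatM (-m) (-x) := by
  refine ⟨fun i => ?_, ?_, ?_⟩
  · have := hx.1 i; simp only [Pi.neg_apply]; omega
  · have := hx.2.1; simp only [Pi.neg_apply, Finset.sum_neg_distrib]; omega
  · have e : pat (-m) (-x) = pat m x := by
      ext i
      simp only [mem_pat, Pi.neg_apply]
      omega
    rw [e]; exact hx.2.2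

theorem LatM.shift {m n : ℤ} {x : Vec} (hx : LatM m x) (h : (2 : ℤ) ∣ n - m) : LatM n x := by
  refine ⟨fun i => ?_, ?_, ?_⟩
  · have := hx.1 i; omega
  · have := hx.2.1; omega
  · by_cases h4 : (4 : ℤ) ∣ n - m
    · have e : pat n x = pat m x := by
        ext i; simp only [mem_pat]; omega
      rw [e]; exact hx.2.2
    · have e : pat n x = pat m x ∆ Finset.univ := by
        ext i
        have := hx.1 i
        simp [Finset.mem_symmDiff, mem_pat]
        omega
      rw [e]; exact InC_symmDiff hx.2.2 InC_univ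

/-- the lattice as a subgroup, in closed form -/
def latSubgroup : AddSubgroup Vec where
  carrier := {x | ∃ m, LatM m x}
  zero_mem' := ⟨0, latM_zero⟩
  add_mem' := fun ⟨m, hm⟩ ⟨n, hn⟩ => ⟨m + n, hm.add hn⟩
  neg_mem' := fun ⟨m, hm⟩ => ⟨-m, hm.neg⟩

theorem leechSet_iff (x : Vec) : x ∈ leechSet ↔ ∃ m, LatM m x := by
  constructor
  · rintro ⟨m, h1, h2, h3⟩
    have h1' : ∀ i, (2 : ℤ) ∣ x i - m := fun i => by
      have := h1 i; rw [Int.ModEq] at this; omega
    refine ⟨m, h1', ?_, ?_⟩
    · rw [Int.ModEq] at h2; omega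
    · have e : pat m x = (Finset.univ.filter fun i => x i ≡ m + 2 [ZMOD 4]) := by
        ext i
        have := h1' i
        rw [mem_pat, Finset.mem_filter]
        simp only [Finset.mem_univ, true_and, Int.ModEq]
        omega
      rw [e]; exact h3 (m + 2)
  · rintro ⟨m, h1, h2, h3⟩
    refine ⟨m, fun i => ?_, ?_, fun k => ?_⟩
    · have := h1 i; rw [Int.ModEq]; omega
    · rw [Int.ModEq]; omega
    · by_cases hk : (4 : ℤ) ∣ k - m
      · have e : (Finset.univ.filter fun i => x i ≡ k [ZMOD 4]) = pat m x ∆ Finset.univ := by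
          ext i
          have := h1 i
          rw [Finset.mem_filter, Finset.mem_symmDiff, mem_pat]
          simp only [Finset.mem_univ, true_and, not_true, and_false, false_or, Int.ModEq]
          omega
        rw [e]; exact InC_symmDiff h3 InC_univ
      · by_cases hk2 : (2 : ℤ) ∣ k - m
        · have e : (Finset.univ.filter fun i => x i ≡ k [ZMOD 4]) = pat m x := by
            ext i
            have := h1 i
            rw [mem_pat, Finset.mem_filter]
            simp only [Finset.mem_univ, true_and, Int.ModEq]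
            omega
          rw [e]; exact h3
        · have e : (Finset.univ.filter fun i => x i ≡ k [ZMOD 4]) = ∅ := by
            ext i
            have := h1 i
            rw [Finset.mem_filter]
            simp only [Finset.mem_univ, true_and, Int.ModEq, Finset.notMem_empty, iff_false]
            omega
          rw [e]; exact InC_empty

theorem mem_leech_iff (x : Vec) : x ∈ leechLattice ↔ ∃ m, LatM m x := by
  have : leechLattice = latSubgroup := by
    apply le_antisymm
    · exact (AddSubgroup.closure_le _).2 fun y hy => (leechSet_iff y).1 hy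
    · intro y hy
      exact AddSubgroup.subset_closure ((leechSet_iff y).2 hy)
  rw [this]; rfl

/-- a normalised parity witness -/
theorem exists_witness {x : Vec} (hx : x ∈ leechLattice) : LatM 0 x ∨ LatM 1 x := by
  obtain ⟨m, hm⟩ := (mem_leech_iff x).1 hx
  by_cases h : (2 : ℤ) ∣ m
  · exact Or.inl (hm.shift (by omega))
  · exact Or.inr (hm.shift (by omega))

/-- the half differences `(x i - m) / 2` -/
def half (m : ℤ) (x : Vec) : Vec := fun i => (x i - m) / 2

theorem LatM.eq_half {m : ℤ} {x : Vec} (hx : LatM m x) (i : GolayPt) : x i = m + 2 * half m x i := by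
  have := hx.1 i; simp only [half]; omega

theorem LatM.mem_pat_iff {m : ℤ} {x : Vec} (hx : LatM m x) (i : GolayPt) :
    i ∈ pat m x ↔ ¬ (2 : ℤ) ∣ half m x i := by
  rw [mem_pat]; have := hx.eq_half i; omega

theorem card_pt : Fintype.card GolayPt = 24 := by simp [Fintype.card_option, ZMod.card]

theorem LatM.sum_eq {m : ℤ} {x : Vec} (hx : LatM m x) : ∑ i, x i = 24 * m + 2 * ∑ i, half m x i := by
  calc ∑ i, x i = ∑ i, (m + 2 * half m x i) := Finset.sum_congr rfl fun i _ => hx.eq_half i
    _ = _ := by rw [Finset.sum_add_distrib, ← Finset.mul_sum]; simp [card_pt]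

theorem LatM.sum_half {m : ℤ} {x : Vec} (hx : LatM m x) : (4 : ℤ) ∣ (∑ i, half m x i) - 2 * m := by
  have := hx.2.1; rw [hx.sum_eq] at this; omega

theorem sum_emod_eq {α : Type*} (s : Finset α) (f g : α → ℤ) (n : ℤ)
    (h : ∀ a ∈ s, n ∣ f a - g a) : n ∣ (∑ a ∈ s, f a) - ∑ a ∈ s, g a := by
  rw [← Finset.sum_sub_distrib]; exact Finset.dvd_sum h

theorem sum_indicator (S : Finset GolayPt) (c : ℤ) :
    (∑ i, if i ∈ S then c else 0) = c * S.card := by
  rw [← Finset.sum_filter]
  simp [mul_comm]

theorem InC_four_dvd {S : Finset GolayPt} (h : InC S) : (4 : ℤ) ∣ (S.card : ℤ) := by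
  rcases InC_weights h with h | h | h | h | h <;> rw [h] <;> norm_num

theorem sqNorm_sixteen {x : Vec} (hx : x ∈ leechLattice) : (16 : ℤ) ∣ sqNorm x := by
  rcases exists_witness hx with h | h
  · -- even vectors
    have e : sqNorm x = 4 * ∑ i, half 0 x i ^ 2 := by
      rw [sqNorm, Finset.mul_sum]
      exact Finset.sum_congr rfl fun i _ => by rw [h.eq_half i]; ring
    have h4 := sum_emod_eq Finset.univ (fun i => half 0 x i ^ 2)
      (fun i => if i ∈ pat 0 x then (1 : ℤ) else 0) 4 (fun i _ => by
        by_cases hi : i ∈ pat 0 x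
        · rw [if_pos hi]
          obtain ⟨k, hk⟩ : ∃ k, half 0 x i = 2 * k + 1 := ⟨half 0 x i / 2, by
            have := (h.mem_pat_iff i).1 hi; omega⟩
          exact ⟨k * k + k, by rw [hk]; ring⟩
        · rw [if_neg hi]
          obtain ⟨k, hk⟩ : (2 : ℤ) ∣ half 0 x i := by
            by_contra hc; exact hi ((h.mem_pat_iff i).2 hc)
          exact ⟨k * k, by rw [hk]; ring⟩)
    rw [sum_indicator, one_mul] at h4
    have := InC_four_dvd h.2.2
    rw [e]; omega
  · -- odd vectors
    set a := half 1 x with ha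
    have e : sqNorm x = 24 + 4 * (∑ i, (a i * (a i + 1))) := by
      rw [sqNorm, Finset.mul_sum]
      have : (24 : ℤ) = ∑ _i : GolayPt, (1 : ℤ) := by simp [card_pt]
      rw [this, ← Finset.sum_add_distrib]
      exact Finset.sum_congr rfl fun i _ => by rw [h.eq_half i]; ring
    -- modulo 4, a(a+1) ≡ 2·[a odd] + a·[..]
    have h4 := sum_emod_eq Finset.univ (fun i => a i * (a i + 1))
      (fun i => a i + (if i ∈ pat 1 x then (1 : ℤ) else 0)) 4 (fun i _ => by
        by_cases hi : i ∈ pat 1 x
        · rw [if_pos hi]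
          obtain ⟨k, hk⟩ : ∃ k, a i = 2 * k + 1 := ⟨a i / 2, by
            have := (h.mem_pat_iff i).1 hi; rw [← ha] at this; omega⟩
          exact ⟨k * k + k, by rw [hk]; ring⟩
        · rw [if_neg hi]
          obtain ⟨k, hk⟩ : (2 : ℤ) ∣ a i := by
            by_contra hc; exact hi ((h.mem_pat_iff i).2 hc)
          exact ⟨k * k, by rw [hk]; ring⟩)
    rw [Finset.sum_add_distrib, sum_indicator, one_mul] at h4
    have := InC_four_dvd h.2.2
    have hs := h.sum_half
    rw [← ha] at hs
    rw [e]; omega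

theorem sqNorm_add (x y : Vec) : sqNorm (x + y) = sqNorm x + 2 * dotInt x y + sqNorm y := by
  simp only [sqNorm, dotInt, Pi.add_apply, Finset.mul_sum, ← Finset.sum_add_distrib]
  exact Finset.sum_congr rfl fun i _ => by ring

theorem sqNorm_sub (x y : Vec) : sqNorm (x - y) = sqNorm x - 2 * dotInt x y + sqNorm y := by
  simp only [sqNorm, dotInt, Pi.sub_apply, Finset.mul_sum, ← Finset.sum_add_distrib, ← Finset.sum_sub_distrib]
  exact Finset.sum_congr rfl fun i _ => by ring

theorem sqNorm_smul (c : ℤ) (x : Vec) : sqNorm (c • x) = c ^ 2 * sqNorm x := by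
  simp only [sqNorm, Pi.smul_apply, smul_eq_mul, Finset.mul_sum]
  exact Finset.sum_congr rfl fun i _ => by ring

theorem sqNorm_neg (x : Vec) : sqNorm (-x) = sqNorm x := by simp [sqNorm]

theorem sqNorm_nonneg (x : Vec) : 0 ≤ sqNorm x := Finset.sum_nonneg fun i _ => sq_nonneg _

theorem sqNorm_eq_zero {x : Vec} : sqNorm x = 0 ↔ x = 0 := by
  rw [sqNorm, Finset.sum_eq_zero_iff_of_nonneg fun i _ => sq_nonneg _]
  simp [funext_iff]

theorem dot_eight {x y : Vec} (hx : x ∈ leechLattice) (hy : y ∈ leechLattice) : (8 : ℤ) ∣ dotInt x y := by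
  have := sqNorm_sixteen (add_mem hx hy)
  have := sqNorm_sixteen hx
  have := sqNorm_sixteen hy
  have := sqNorm_add x y
  omega

theorem sqNorm_min {x : Vec} (hx : x ∈ leechLattice) (h0 : x ≠ 0) : 32 ≤ sqNorm x := by
  have h16 := sqNorm_sixteen hx
  have hnn := sqNorm_nonneg x
  have hne : sqNorm x ≠ 0 := fun h => h0 (sqNorm_eq_zero.1 h)
  rcases exists_witness hx with h | h
  · have e : sqNorm x = 4 * ∑ i, half 0 x i ^ 2 := by
      rw [sqNorm, Finset.mul_sum]
      exact Finset.sum_congr rfl fun i _ => by rw [h.eq_half i]; ring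
    by_cases hp : pat 0 x = ∅
    · -- all half coordinates even, their halves sum to an even number
      have he : ∀ i, (2 : ℤ) ∣ half 0 x i := fun i => by
        by_contra hc
        have := (h.mem_pat_iff i).2 hc
        simp [hp] at this
      choose b hb using he
      have e2 : sqNorm x = 16 * ∑ i, b i ^ 2 := by
        rw [e, Finset.mul_sum, Finset.mul_sum]
        exact Finset.sum_congr rfl fun i _ => by rw [hb i]; ring
      have hs : ∑ i, half 0 x i = 2 * ∑ i, b i := by
        rw [Finset.mul_sum]; exact Finset.sum_congr rfl fun i _ => hb i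
      have := h.sum_half
      have h2 := sum_emod_eq Finset.univ (fun i => b i ^ 2) b 2 (fun i _ => by
        rcases Int.even_mul_succ_self (b i - 1) with ⟨k, hk⟩
        exact ⟨k, by linear_combination hk⟩)
      omega
    · have hge : ((pat 0 x).card : ℤ) ≤ ∑ i, half 0 x i ^ 2 := by
        rw [← one_mul ((pat 0 x).card : ℤ), ← sum_indicator]
        refine Finset.sum_le_sum fun i _ => ?_
        by_cases hi : i ∈ pat 0 x
        · rw [if_pos hi]
          have := (h.mem_pat_iff i).1 hi
          have : half 0 x i ≠ 0 := fun hz => by simp [hz] at this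
          have := Int.one_le_abs this
          nlinarith [sq_abs (half 0 x i)]
        · rw [if_neg hi]; positivity
      have hc : (8 : ℕ) ≤ (pat 0 x).card := by
        have := Finset.card_pos.2 (Finset.nonempty_iff_ne_empty.2 hp)
        rcases InC_weights h.2.2 with h' | h' | h' | h' | h' <;> omega
      omega
  · have : (24 : ℤ) ≤ sqNorm x := by
      have e : (24 : ℤ) = ∑ _i : GolayPt, (1 : ℤ) := by simp [card_pt]
      rw [e]
      refine Finset.sum_le_sum fun i _ => ?_
      have := h.eq_half i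
      have : x i ≠ 0 := by omega
      have := Int.one_le_abs this
      nlinarith [sq_abs (x i)]
    omega

/-- congruence modulo twice the lattice -/
def Cong (x y : Vec) : Prop := ∃ z ∈ leechLattice, x - y = 2 • z

theorem Cong.refl (x : Vec) : Cong x x := ⟨0, zero_mem _, by simp⟩

theorem Cong.symm {x y : Vec} (h : Cong x y) : Cong y x := by
  obtain ⟨z, hz, he⟩ := h
  exact ⟨-z, neg_mem hz, by rw [smul_neg, ← he, neg_sub]⟩

theorem Cong.trans {x y w : Vec} (h : Cong x y) (h' : Cong y w) : Cong x w := by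
  obtain ⟨z, hz, he⟩ := h
  obtain ⟨z', hz', he'⟩ := h'
  exact ⟨z + z', add_mem hz hz', by rw [smul_add, ← he, ← he', sub_add_sub_cancel]⟩

theorem cong_neg {x : Vec} (hx : x ∈ leechLattice) : Cong x (-x) :=
  ⟨x, hx, by rw [two_nsmul, sub_neg_eq_add]⟩

/-- the uniqueness of short representatives modulo twice the lattice -/
theorem cong_short {x y : Vec} (hx : x ∈ leechLattice) (hy : y ∈ leechLattice) (hc : Cong x y)
    (hxn : sqNorm x ≤ 64) (hyn : sqNorm y ≤ 64) :
    x = y ∨ x = -y ∨ (sqNorm x = 64 ∧ sqNorm y = 64 ∧ dotInt x y = 0) := by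
  obtain ⟨z, hz, he⟩ := hc
  have hw : x + y = (2 : ℤ) • (x - z) := by
    rw [smul_sub, two_smul, two_smul, ← two_nsmul z, ← he]; abel
  have he' : x - y = (2 : ℤ) • z := by rw [he, two_zsmul, two_nsmul]
  by_cases hz0 : z = 0
  · left; rw [hz0, smul_zero] at he'; exact sub_eq_zero.1 he'
  by_cases hw0 : x - z = 0
  · right; left; rw [hw0, smul_zero] at hw; exact eq_neg_of_add_eq_zero_left hw
  have h1 := sqNorm_min hz hz0
  have h2 := sqNorm_min (sub_mem hx hz) hw0
  have e1 := sqNorm_sub x y
  have e2 := sqNorm_add x y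
  rw [he', sqNorm_smul] at e1
  rw [hw, sqNorm_smul] at e2
  right; right
  refine ⟨?_, ?_, ?_⟩ <;> linarith

end Cfsg.Agent.Leech
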