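import Cfsg.Agent.Lib.Leech.Orbits
import Cfsg.Agent.Lib.Leech.Frame
import Cfsg.Agent.Lib.Leech.Gen

/-!
The stabiliser of the standard frame is a maximal subgroup.

A subgroup above it contains one sextet map: some conjugate of such a map by a sign change fixes the class
of a given even short vector modulo twice the lattice. All sextet maps are then conjugate, and they reduce
any short vector to the standard frame.
-/

set_option autoImplicit false

namespace Cfsg.Agent.Leech
open Cfsg
open scoped symmDiff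

theorem mem_frame_of_eq {g : ↥Co0} {q : GolayPt} (h : ap g (e8 none) = e8 q ∨ ap g (e8 none) = -e8 q) :
    g ∈ frame := by
  rw [mem_frame]
  rcases h with h | h <;> rw [h]
  · exact cong_e8 q none
  · exact (cong_neg (e8_mem q)).symm.trans (cong_e8 q none)

/-- `x` goes to `y` by an element of the subgroup -/
def CoK (K : Subgroup ↥Co0) (x y : Vec) : Prop := ∃ g ∈ K, ap g x = y

variable {K : Subgroup ↥Co0}

theorem CoK.refl (x : Vec) : CoK K x x := ⟨1, one_mem K, ap_one x⟩

theorem CoK.trans {x y z : Vec} (hx : x ∈ leechLattice) (h : CoK K x y) (h' : CoK K y z) : CoK K x z := by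
  obtain ⟨g, hg, rfl⟩ := h
  obtain ⟨k, hk, rfl⟩ := h'
  exact ⟨k * g, mul_mem hk hg, ap_mul k g hx⟩

theorem CoK.mem {x y : Vec} (hx : x ∈ leechLattice) (h : CoK K x y) : y ∈ leechLattice := by
  obtain ⟨g, -, rfl⟩ := h
  exact ap_mem g hx

theorem CoK.norm {x y : Vec} (hx : x ∈ leechLattice) (h : CoK K x y) : sqNorm y = sqNorm x := by
  obtain ⟨g, -, rfl⟩ := h
  exact ap_norm g hx

theorem coK_even (hK : frame ≤ K) (hxi : ∀ X : Sx, X.xiCo ∈ K) {x : Vec} (hx : x ∈ leechLattice) : ∃ y, CoK K x y ∧ LatM 0 y := by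
  rcases exists_witness hx with h | h
  · exact ⟨x, CoK.refl x, h⟩
  obtain ⟨T, -, hT⟩ := exists_four_of_le (S := (Finset.univ : Finset GolayPt)) (by rw [Finset.card_univ, card_pt]; norm_num)
  obtain ⟨X, hX⟩ := exists_sx T hT
  -- a sign change making the pattern meet tetrad 0 oddly
  obtain ⟨S, hS, hodd⟩ : ∃ S, InC S ∧ ¬ Even ((pat 1 x ∆ S) ∩ X.tet 0).card := by
    by_cases he : Even ((pat 1 x) ∩ X.tet 0).card
    · obtain ⟨S, hS, h1⟩ := exists_InC_odd (T := X.tet 0) (by rw [X.tet_card]; norm_num)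
        (Finset.card_pos.1 (by rw [X.tet_card]; norm_num))
      refine ⟨S, hS, ?_⟩
      obtain ⟨q, hq⟩ := Finset.card_eq_one.1 h1
      have hqs : q ∈ S ∩ X.tet 0 := by rw [hq]; exact Finset.mem_singleton_self q
      rw [Finset.mem_inter] at hqs
      have e : (pat 1 x ∆ S) ∩ X.tet 0 = (pat 1 x ∩ X.tet 0) ∆ {q} := by
        rw [← hq]
        ext i; simp only [Finset.mem_inter, Finset.mem_symmDiff]; tauto
      rw [e]
      by_cases hqp : q ∈ pat 1 x ∩ X.tet 0
      · have : (pat 1 x ∩ X.tet 0) ∆ {q} = (pat 1 x ∩ X.tet 0).erase q := by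
          ext i; simp only [Finset.mem_symmDiff, Finset.mem_erase, Finset.mem_singleton]
          by_cases hi : i = q <;> simp [hi, hqp]
        rw [this, Finset.card_erase_of_mem hqp]
        have := Finset.card_pos.2 ⟨q, hqp⟩
        rw [Nat.even_iff] at he ⊢; omega
      · have : (pat 1 x ∩ X.tet 0) ∆ {q} = insert q (pat 1 x ∩ X.tet 0) := by
          ext i; simp only [Finset.mem_symmDiff, Finset.mem_insert, Finset.mem_singleton]
          by_cases hi : i = q <;> simp [hi, hqp]
        rw [this, Finset.card_insert_of_notMem hqp]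
        rw [Nat.even_iff] at he ⊢; omega
    · exact ⟨∅, InC_empty, by rwa [← Finset.bot_eq_empty, symmDiff_bot]⟩
  set y := ap (signCo S hS) x with hy
  have hyL : y ∈ leechLattice := ap_mem _ hx
  have hyi : ∀ i, y i = if i ∈ S then -x i else x i := fun i => ap_signCo hS hx i
  have hy1 : LatM 1 y := latM_of_mem hyL (i := none) (by have := h.1 none; rw [hyi]; split <;> omega)
  have hpat : pat 1 y = pat 1 x ∆ S := by
    ext i
    have := h.1 i
    simp only [mem_pat, hyi, Finset.mem_symmDiff]
    by_cases hi : i ∈ S <;> simp [hi] <;> omega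
  have h2 := (X.xi_latM hy1).1
  have hp := X.half_parity hy1 0
  rw [hpat] at hp
  refine ⟨X.xi y, CoK.trans hx ⟨_, hK (signCo_mem_frame hS), rfl⟩ ⟨X.xiCo, hxi X, X.ap_xiCo hyL⟩, h2.shift ?_⟩
  rw [Nat.even_iff] at hodd
  omega

theorem coK_step (hK : frame ≤ K) (hxi : ∀ X : Sx, X.xiCo ∈ K) {x : Vec} (h : LatM 0 x) (X : Sx) (h0 : X.tet 0 ⊆ pat 0 x)
    (hz : ∀ j, Disjoint (pat 0 x) (X.tet j) → Even (twos x ∩ X.tet j).card) :
    ∃ y, CoK K x y ∧ LatM 0 y ∧ (pat 0 y).card < (pat 0 x).card := by
  have hx : x ∈ leechLattice := (mem_leech_iff x).2 ⟨0, h⟩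
  set a := half 0 x with ha
  have hxa : ∀ i, x i = 2 * a i := fun i => by have := h.eq_half i; rw [← ha] at this; omega
  have hPa : ∀ i, i ∈ pat 0 x ↔ ¬ (2 : ℤ) ∣ a i := fun i => by rw [h.mem_pat_iff]
  have ht0e : (2 : ℤ) ∣ ∑ i ∈ X.tet 0, a i := by
    have := X.half_parity h 0
    rw [Finset.inter_eq_right.2 h0, X.tet_card] at this
    rw [← ha] at this
    omega
  obtain ⟨q, hq⟩ : (X.tet 0).Nonempty := Finset.card_pos.1 (by rw [X.tet_card]; norm_num)
  -- choose the signs
  obtain ⟨S, hS, hS0⟩ : ∃ S, InC S ∧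
      ¬ (4 : ℤ) ∣ ∑ i ∈ X.tet 0, (if i ∈ S then -a i else a i) := by
    by_cases h4 : (4 : ℤ) ∣ ∑ i ∈ X.tet 0, a i
    · obtain ⟨S, hS, he⟩ := exists_InC_inter_small (A := {q}) (T := X.tet 0) (Finset.singleton_subset_iff.2 hq)
        (by rw [X.tet_card]; norm_num)
      refine ⟨S, hS, ?_⟩
      have e : ∑ i ∈ X.tet 0, (if i ∈ S then -a i else a i) = (∑ i ∈ X.tet 0, a i) - 2 * a q := by
        have : ∀ i ∈ X.tet 0, (if i ∈ S then -a i else a i) = a i - if i = q then 2 * a i else 0 := fun i hi => by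
          have : i ∈ S ↔ i = q := by
            rw [← Finset.mem_singleton, ← he, Finset.mem_inter]; simp [hi]
          by_cases hiq : i = q
          · rw [if_pos (this.2 hiq), if_pos hiq]; omega
          · rw [if_neg (fun hh => hiq (this.1 hh)), if_neg hiq]; omega
        rw [Finset.sum_congr rfl this, Finset.sum_sub_distrib, Finset.sum_ite_eq' _ q, if_pos hq]
      have := (hPa q).1 (h0 hq)
      rw [e]; omega
    · exact ⟨∅, InC_empty, by simpa using h4⟩
  set y := ap (signCo S hS) x with hy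
  have hyL : y ∈ leechLattice := ap_mem _ hx
  have hyi : ∀ i, y i = 2 * (if i ∈ S then -a i else a i) := fun i => by
    rw [hy, ap_signCo hS hx i, hxa i]; split <;> omega
  have hy0 : LatM 0 y := latM_of_mem hyL (i := none) (by rw [hyi]; omega)
  set z := X.xi y with hz'
  have hzL : z ∈ leechLattice := X.xi_mem hyL
  set t : Fin 6 → ℤ := fun j => ∑ i ∈ X.tet j, (if i ∈ S then -a i else a i) with ht
  have hts : ∀ j, X.tsum y j = 2 * t j := fun j => by
    simp only [ht, Finset.mul_sum]; exact Finset.sum_congr rfl fun i _ => hyi i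
  have hpar : ∀ j, (2 : ℤ) ∣ t j := fun j => by
    have h1 : (2 : ℤ) ∣ t j - ∑ i ∈ X.tet j, a i :=
      sum_emod_eq _ _ _ 2 fun i _ => by split <;> omega
    have h2 := X.half_sums_parity h j 0
    rw [← ha] at h2
    omega
  have hzi : ∀ i, z i = if X.idx i = 0 then t (X.idx i) - y i else y i - t (X.idx i) := fun i => by
    rw [hz']; simp only [Sx.xi, hts]; split <;> omega
  have hz0 : LatM 0 z := latM_of_mem hzL (i := none) (by
    have := hpar (X.idx none); rw [hzi, hyi]; split <;> omega)
  have hPz : ∀ i, i ∈ pat 0 z ↔ ¬ ((i ∈ pat 0 x) ↔ ¬ (4 : ℤ) ∣ t (X.idx i)) := fun i => by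
    have := hpar (X.idx i)
    rw [mem_pat, hzi, hPa]
    have := hyi i
    by_cases hiS : i ∈ S
    · rw [if_pos hiS] at this; split <;> omega
    · rw [if_neg hiS] at this; split <;> omega
  refine ⟨z, CoK.trans hx ⟨_, hK (signCo_mem_frame hS), hy.symm⟩ ⟨X.xiCo, hxi X, X.ap_xiCo hyL⟩, hz0, ?_⟩
  -- count tetrad by tetrad
  have hcard : ∀ P : Finset GolayPt, P.card = ∑ j, (P ∩ X.tet j).card := fun P => by
    rw [Finset.card_eq_sum_card_fiberwise (t := (Finset.univ : Finset (Fin 6))) (f := X.idx)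
      (fun i _ => Finset.mem_univ _)]
    refine Finset.sum_congr rfl fun j _ => congrArg Finset.card ?_
    ext i; simp [Sx.tet]
  have hkeep : ∀ j, (4 : ℤ) ∣ t j → pat 0 z ∩ X.tet j = pat 0 x ∩ X.tet j := fun j hj => by
    ext i
    simp only [Finset.mem_inter, hPz, X.mem_tet]
    constructor <;> rintro ⟨h1, rfl⟩ <;> simp [hj] at h1 ⊢ <;> exact h1
  have hswap : ∀ j, ¬ (4 : ℤ) ∣ t j → pat 0 z ∩ X.tet j = X.tet j \ pat 0 x := fun j hj => by
    ext i
    simp only [Finset.mem_inter, Finset.mem_sdiff, hPz, X.mem_tet]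
    constructor
    · rintro ⟨h1, rfl⟩; simp [hj] at h1 ⊢; exact h1
    · rintro ⟨rfl, h1⟩; simp [hj]; exact h1
  have hevencard : ∀ j, Even (pat 0 x ∩ X.tet j).card := fun j => by
    have := X.parity h.2.2 j 0
    rw [Finset.inter_eq_right.2 h0, X.tet_card, Nat.even_add] at this
    exact this.2 (by decide)
  have hle : ∀ j ∈ (Finset.univ : Finset (Fin 6)), (pat 0 z ∩ X.tet j).card ≤ (pat 0 x ∩ X.tet j).card := by
    intro j _
    by_cases hj : (4 : ℤ) ∣ t j
    · rw [hkeep j hj]
    · rw [hswap j hj]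
      have h1 := Finset.card_sdiff_add_card_inter (X.tet j) (pat 0 x)
      rw [Finset.inter_comm, X.tet_card] at h1
      by_cases hzero : (pat 0 x ∩ X.tet j).card = 0
      · exfalso
        have hd : Disjoint (pat 0 x) (X.tet j) :=
          Finset.disjoint_iff_inter_eq_empty.2 (Finset.card_eq_zero.1 hzero)
        have he := hz j hd
        apply hj
        have h4 := sum_emod_eq (X.tet j) (fun i => if i ∈ S then -a i else a i)
          (fun i => if i ∈ twos x then (2 : ℤ) else 0) 4 (fun i hi => by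
            have hna : (2 : ℤ) ∣ a i := by
              by_contra hc
              exact Finset.disjoint_left.1 hd ((hPa i).2 hc) hi
            by_cases h2 : i ∈ twos x
            · rw [if_pos h2]; rw [mem_twos, ← ha] at h2; split <;> omega
            · rw [if_neg h2]
              rw [mem_twos, ← ha] at h2
              have : (4 : ℤ) ∣ a i := by by_contra hc; exact h2 ⟨hna, hc⟩
              split <;> omega)
        rw [← Finset.sum_filter, Finset.filter_mem_eq_inter, Finset.inter_comm] at h4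
        simp only [Finset.sum_const, nsmul_eq_mul] at h4
        obtain ⟨r, hr⟩ := he
        show (4 : ℤ) ∣ t j
        simp only [ht]
        omega
      · obtain ⟨r, hr⟩ := hevencard j
        omega
  have hlt : (pat 0 z ∩ X.tet 0).card < (pat 0 x ∩ X.tet 0).card := by
    rw [hswap 0 hS0, Finset.inter_eq_right.2 h0, X.tet_card, Finset.sdiff_eq_empty_iff_subset.2 h0]
    simp
  rw [hcard (pat 0 z), hcard (pat 0 x)]
  exact Finset.sum_lt_sum hle ⟨0, Finset.mem_univ _, hlt⟩

/-- the even vectors of a short singular orbit reach multiples of four -/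
theorem coK_four (hK : frame ≤ K) (hxi : ∀ X : Sx, X.xiCo ∈ K) {x : Vec} (hx : x ∈ leechLattice) (hn : sqNorm x ≤ 64) (h32 : (32 : ℤ) ∣ sqNorm x) :
    ∃ y, CoK K x y ∧ LatM 0 y ∧ pat 0 y = ∅ := by
  obtain ⟨y, hy, hy0⟩ := coK_even hK hxi hx
  have key : ∀ n, ∀ y, LatM 0 y → (pat 0 y).card = n → sqNorm y ≤ 64 → (32 : ℤ) ∣ sqNorm y →
      ∃ z, CoK K y z ∧ LatM 0 z ∧ pat 0 z = ∅ := by
    intro n
    induction n using Nat.strong_induction_on with
    | _ n ih =>
      intro y hy0 hc hn h32
      by_cases hne : pat 0 y = ∅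
      · exact ⟨y, CoK.refl y, hy0, hne⟩
      obtain ⟨X, hX0, hXz⟩ := exists_step_sx hy0 hn h32 hne
      obtain ⟨z, hyz, hz0, hlt⟩ := coK_step hK hxi hy0 X hX0 hXz
      have hyL : y ∈ leechLattice := (mem_leech_iff y).2 ⟨0, hy0⟩
      have hnz := hyz.norm hyL
      obtain ⟨w, hzw, hw0, hwe⟩ := ih _ (hc ▸ hlt) z hz0 rfl (by omega) (by omega)
      exact ⟨w, hyz.trans hyL hzw, hw0, hwe⟩
  have hnn := hy.norm hx
  obtain ⟨z, hyz, hz⟩ := key _ y hy0 rfl (by omega) (by omega)
  exact ⟨z, hy.trans hx hyz, hz⟩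


/-- vectors of norm 64 with entries divisible by four -/
theorem four_shape64 {x : Vec} (hx : LatM 0 x) (hp : pat 0 x = ∅) (hn : sqNorm x = 64) :
    (∃ q, x = e8 q ∨ x = -e8 q) ∨
      ∃ (S : Finset GolayPt) (hS : InC S) (X : Sx) (q : GolayPt), X.xi (ap (signCo S hS) x) = e8 q := by
  have hxL : x ∈ leechLattice := (mem_leech_iff x).2 ⟨0, hx⟩
  choose b hb using four_of_pat_empty hx hp
  have hsb : ∑ i, b i ^ 2 = 4 := by
    have : sqNorm x = 16 * ∑ i, b i ^ 2 := by
      rw [sqNorm, Finset.mul_sum]; exact Finset.sum_congr rfl fun i _ => by rw [hb]; ring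
    omega
  by_cases hbig : ∃ i, 2 ≤ |b i|
  · obtain ⟨i, hi⟩ := hbig
    have h4i : 4 ≤ b i ^ 2 := by nlinarith [sq_abs (b i)]
    have hrest := Finset.add_sum_erase Finset.univ (fun j => b j ^ 2) (Finset.mem_univ i)
    have hrest0 : 0 ≤ ∑ j ∈ Finset.univ.erase i, b j ^ 2 := Finset.sum_nonneg fun j _ => sq_nonneg _
    have hz : ∑ j ∈ Finset.univ.erase i, b j ^ 2 = 0 := by omega
    have hbi : (b i - 2) * (b i + 2) = 0 := by
      have : b i ^ 2 = 4 := by omega
      linear_combination this
    have hb0 : ∀ j, j ≠ i → x j = 0 := fun j hj => by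
      have := (Finset.sum_eq_zero_iff_of_nonneg fun j _ => sq_nonneg (b j)).1 hz j
        (Finset.mem_erase.2 ⟨hj, Finset.mem_univ _⟩)
      rw [hb, sq_eq_zero_iff.1 this]; rfl
    refine Or.inl ⟨i, ?_⟩
    rcases mul_eq_zero.1 hbi with h | h <;> [left; right] <;>
    · funext j
      by_cases hj : j = i
      · subst hj; rw [hb]; simp [e8]; omega
      · rw [hb0 j hj]; simp [e8, hj]
  push Not at hbig
  right
  set T := Finset.univ.filter (fun i => b i ≠ 0) with hT
  have hb1 : ∀ i, b i ^ 2 = if i ∈ T then 1 else 0 := fun i => by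
    have := abs_lt.1 (hbig i)
    by_cases hi : b i = 0
    · simp [hT, hi]
    · have : b i = 1 ∨ b i = -1 := by omega
      rcases this with h | h <;> simp [hT, h]
  have hT4 : T.card = 4 := by
    rw [Finset.sum_congr rfl fun i _ => hb1 i, sum_indicator, one_mul] at hsb
    omega
  have hin : ∀ i ∈ T, x i = 4 ∨ x i = -4 := fun i hi => by
    have := abs_lt.1 (hbig i)
    have : b i ≠ 0 := by simpa [hT] using hi
    rw [hb]; omega
  have hout : ∀ i, i ∉ T → x i = 0 := fun i hi => by
    have : b i = 0 := by simpa [hT] using hi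
    rw [hb, this]; rfl
  obtain ⟨q, hq⟩ : T.Nonempty := Finset.card_pos.1 (by omega)
  obtain ⟨S, hS, he⟩ := exists_InC_inter_small (T := T)
    (A := T.filter fun i => (x i = -4 ∧ i ≠ q) ∨ (x i = 4 ∧ i = q)) (Finset.filter_subset _ _) (by omega)
  set z := ap (signCo S hS) x with hz
  have hzv : ∀ i, z i = if i = q then -4 else if i ∈ T then 4 else 0 := fun i => by
    rw [hz, ap_signCo hS hxL]
    by_cases hi : i ∈ T
    · have hiS : i ∈ S ↔ ((x i = -4 ∧ i ≠ q) ∨ (x i = 4 ∧ i = q)) := by
        have := Finset.ext_iff.1 he i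
        simpa [hi] using this
      by_cases hiq : i = q
      · subst hiq; rcases hin i hi with h | h <;> simp [hiS, h]
      · rcases hin i hi with h | h <;> simp [hiS, h, hiq, hi]
    · rw [hout i hi, if_neg (fun h : i = q => hi (h ▸ hq)), if_neg hi]; simp
  obtain ⟨X, hX⟩ := exists_sx T hT4
  refine ⟨S, hS, X, q, funext fun i => ?_⟩
  have ht0 : X.tsum z 0 = 8 := by
    show ∑ j ∈ X.tet 0, z j = 8
    have e : ∑ j ∈ T.erase q, z j = ∑ j ∈ T.erase q, (4 : ℤ) := Finset.sum_congr rfl fun j hj => by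
      rw [Finset.mem_erase] at hj
      rw [hzv j, if_neg hj.1, if_pos hj.2]
    rw [hX, ← Finset.add_sum_erase T z hq, hzv q, if_pos rfl, e, Finset.sum_const,
      Finset.card_erase_of_mem hq, hT4]
    rfl
  rw [← hz]
  by_cases hi : X.idx i = 0
  · have hiT : i ∈ T := by rw [← hX]; exact X.mem_tet.2 hi
    simp only [Sx.xi, hi, if_true, ht0, hzv i, e8]
    by_cases hiq : i = q <;> simp [hiq, hiT]
  · have hout' : ∀ j ∈ X.tet (X.idx i), j ∉ T := fun j hj h => by
      rw [← hX, X.mem_tet] at h; rw [X.mem_tet] at hj; exact hi (hj.symm.trans h)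
    have hiT := hout' i (X.mem_tet.2 rfl)
    have hiq : i ≠ q := fun h => hiT (h ▸ hq)
    have : X.tsum z (X.idx i) = 0 := Finset.sum_eq_zero fun j hj => by
      rw [hzv, if_neg (fun h : j = q => hout' j hj (h ▸ hq)), if_neg (hout' j hj)]
    simp only [Sx.xi, if_neg hi, this, hzv i, e8, if_neg hiq, if_neg hiT]
    rfl

/-- the sextet maps and the frame generate -/
theorem top_of_xi (hK : frame ≤ K) (hxi : ∀ X : Sx, X.xiCo ∈ K) : K = ⊤ := by
  refine eq_top_iff.2 fun g _ => ?_
  have hx := ap_mem g (e8_mem none)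
  have hn : sqNorm (ap g (e8 none)) = 64 := by rw [ap_norm g (e8_mem none), e8_norm]
  obtain ⟨y, ⟨k, hk, hky⟩, hy0, hyp⟩ := coK_four hK hxi hx (by omega) (by omega)
  have hkg : ap (k * g) (e8 none) = y := by rw [ap_mul _ _ (e8_mem none), hky]
  have hyL : y ∈ leechLattice := (mem_leech_iff y).2 ⟨0, hy0⟩
  have hyn : sqNorm y = 64 := by rw [← hkg, ap_norm _ (e8_mem none), e8_norm]
  suffices k * g ∈ K by simpa using mul_mem (inv_mem hk) this
  rcases four_shape64 hy0 hyp hyn with ⟨q, h⟩ | ⟨S, hS, X, q, h⟩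
  · rw [← hkg] at h; exact hK (mem_frame_of_eq h)
  · have : X.xiCo * (signCo S hS * (k * g)) ∈ frame := by
      refine mem_frame_of_eq (q := q) (Or.inl ?_)
      rw [ap_mul _ _ (e8_mem none), ap_mul _ _ (e8_mem none), hkg, X.ap_xiCo (ap_mem _ hyL), h]
    have h2 := mul_mem (inv_mem (hK (signCo_mem_frame hS))) (mul_mem (inv_mem (hxi X)) (hK this))
    simpa [mul_assoc] using h2

/-- a permutation matching two tetrads matches the sextets -/
theorem tet_image (X Y : Sx) {σ : Equiv.Perm GolayPt} (hσ : σ ∈ M24) (h0 : (X.tet 0).image σ = Y.tet 0)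
    (p : GolayPt) : (X.tet (X.idx p)).image σ = Y.tet (Y.idx (σ p)) := by
  have hiff : X.idx p = 0 ↔ Y.idx (σ p) = 0 := by
    rw [← X.mem_tet, ← Y.mem_tet, ← h0, σ.injective.mem_finset_image]
  by_cases hp : X.idx p = 0
  · rw [hp, hiff.1 hp, h0]
  · have hne : Y.idx (σ p) ≠ 0 := fun h => hp (hiff.2 h)
    have hd := X.tet_disjoint (Ne.symm hp)
    have hd' := Y.tet_disjoint (Ne.symm hne)
    set O := (X.tet 0 ∪ X.tet (X.idx p)).image σ with hO
    have hOC : InC O := (M24_map hσ _).2 (X.InC_pair (Ne.symm hp))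
    have hO8 : O.card = 8 := by
      rw [hO, Finset.card_image_of_injective _ σ.injective, Finset.card_union_of_disjoint hd, X.tet_card, X.tet_card]
    have heq : O = Y.tet 0 ∪ Y.tet (Y.idx (σ p)) := by
      refine InC_octad_unique hOC (Y.InC_pair (Ne.symm hne)) hO8
        (by rw [Finset.card_union_of_disjoint hd', Y.tet_card, Y.tet_card]) ?_
      have hsub : insert (σ p) (Y.tet 0) ⊆ O ∩ (Y.tet 0 ∪ Y.tet (Y.idx (σ p))) := by
        refine Finset.subset_inter (Finset.insert_subset ?_ ?_) (Finset.insert_subset ?_ Finset.subset_union_left)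
        · exact Finset.mem_image_of_mem σ (Finset.mem_union_right _ (X.mem_tet.2 rfl))
        · rw [← h0, hO, Finset.image_union]; exact Finset.subset_union_left
        · exact Finset.mem_union_right _ (Y.mem_tet.2 rfl)
      have := Finset.card_le_card hsub
      rw [Finset.card_insert_of_notMem (fun h => hne (Y.mem_tet.1 h)), Y.tet_card] at this
      exact this
    rw [hO, Finset.image_union, h0] at heq
    have hd2 : Disjoint (Y.tet 0) ((X.tet (X.idx p)).image σ) := by
      rw [← h0, Finset.disjoint_image σ.injective]; exact hd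
    have := congrArg (fun U => U \ Y.tet 0) heq
    rwa [Finset.union_sdiff_left, Finset.union_sdiff_left, Finset.sdiff_eq_self_of_disjoint hd2.symm,
      Finset.sdiff_eq_self_of_disjoint hd'.symm] at this

theorem xi_perm_eq (X Y : Sx) {σ : Equiv.Perm GolayPt} (hσ : σ ∈ M24) (h0 : (X.tet 0).image σ = Y.tet 0) :
    permCo σ hσ * X.xiCo = Y.xiCo * permCo σ hσ := ext_ap fun x hx => funext fun i => by
  rw [ap_mul _ _ hx, ap_permCo hσ (ap_mem _ hx), X.ap_xiCo hx, ap_mul _ _ hx, Y.ap_xiCo (ap_mem _ hx)]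
  have hiff : X.idx (σ.symm i) = 0 ↔ Y.idx i = 0 := by
    rw [← X.mem_tet, ← Y.mem_tet, ← h0]
    conv_rhs => rw [← σ.apply_symm_apply i, σ.injective.mem_finset_image]
  have hsum : Y.tsum (ap (permCo σ hσ) x) (Y.idx i) = X.tsum x (X.idx (σ.symm i)) := by
    have := tet_image X Y hσ h0 (σ.symm i)
    rw [σ.apply_symm_apply] at this
    unfold Sx.tsum
    rw [← this, Finset.sum_image σ.injective.injOn]
    exact Finset.sum_congr rfl fun j _ => by rw [ap_permCo hσ hx, σ.symm_apply_apply]
  simp only [Sx.xi, hsum, ap_permCo hσ hx]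
  by_cases h : Y.idx i = 0
  · rw [if_pos h, if_pos (hiff.2 h)]
  · rw [if_neg h, if_neg (fun h' => h (hiff.1 h'))]

theorem xi_all (hK : frame ≤ K) {X : Sx} (hX : X.xiCo ∈ K) (Y : Sx) : Y.xiCo ∈ K := by
  let e : Fin 4 ≃ X.tet 0 := ((X.tet 0).equivFinOfCardEq (X.tet_card 0)).symm
  let f : Fin 4 ≃ Y.tet 0 := ((Y.tet 0).equivFinOfCardEq (Y.tet_card 0)).symm
  obtain ⟨σ, hσ, hs⟩ := M24_four_transitive (fun k => (e k : GolayPt)) (fun k => (f k : GolayPt))
    (fun a b h => e.injective (Subtype.ext h)) (fun a b h => f.injective (Subtype.ext h))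
  have h0 : (X.tet 0).image σ = Y.tet 0 := by
    refine Finset.eq_of_subset_of_card_le (fun i hi => ?_) ?_
    · obtain ⟨j, hj, rfl⟩ := Finset.mem_image.1 hi
      have h := hs (e.symm ⟨j, hj⟩)
      simp only [Equiv.apply_symm_apply] at h
      rw [h]; exact (f _).2
    · rw [Finset.card_image_of_injective _ σ.injective, X.tet_card, Y.tet_card]
  have hp := hK (permCo_mem_frame hσ)
  rw [show Y.xiCo = permCo σ hσ * X.xiCo * (permCo σ hσ)⁻¹ by rw [xi_perm_eq X Y hσ h0]; group]
  exact mul_mem (mul_mem hp hX) (inv_mem hp)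

/-- a criterion for the sextet map to keep the class of an even vector -/
theorem xi_cong (X : Sx) {z : Vec} (hz : LatM 0 z) (hT : ∀ j, (8 : ℤ) ∣ X.tsum z j) {c : ℤ}
    (hc : ∀ i ∈ X.tet 0, (4 : ℤ) ∣ z i - 2 * c) (hs : (2 : ℤ) ∣ (∑ j, X.tsum z j / 8) + c) :
    Cong (X.xi z) z := by
  let w : Vec := fun i => if X.idx i = 0 then X.tsum z (X.idx i) / 4 - z i else -(X.tsum z (X.idx i) / 4)
  have hval : ∀ i, X.xi z i - z i = 2 * w i := fun i => by
    have := hT (X.idx i)
    have := hz.1 i
    simp only [Sx.xi, w]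
    split <;> omega
  refine ⟨w, (mem_leech_iff w).2 ⟨0, fun i => ?_, ?_, ?_⟩, funext fun i => by
    rw [Pi.sub_apply, hval, Pi.smul_apply, nsmul_eq_mul]; rfl⟩
  · have := hT (X.idx i)
    have := hz.1 i
    simp only [w]; split <;> omega
  · rw [X.sum_fiber w, mul_zero, sub_zero]
    have e : ∀ j, ∑ i ∈ X.tet j, w i = if j = 0 then 0 else -X.tsum z j := fun j => by
      have hj : ∀ i ∈ X.tet j, w i = if j = 0 then X.tsum z j / 4 - z i else -(X.tsum z j / 4) := fun i hi => by
        rw [X.mem_tet] at hi; simp only [w, hi]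
      rw [Finset.sum_congr rfl hj]
      have := hT j
      have et : ∑ i ∈ X.tet j, z i = X.tsum z j := rfl
      by_cases h : j = 0
      · simp only [if_pos h, Finset.sum_sub_distrib, Finset.sum_const, X.tet_card, nsmul_eq_mul, et]
        push_cast; omega
      · simp only [if_neg h, Finset.sum_const, X.tet_card, nsmul_eq_mul]
        push_cast; omega
    rw [Finset.sum_congr rfl fun j _ => e j]
    refine Finset.dvd_sum fun j _ => ?_
    have := hT j
    split <;> omega
  · let f : Fin 6 → ℤ := fun j => X.tsum z j / 8 + if j = 0 then c else 0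
    have hp : pat 0 w = X.unionT (Finset.univ.filter fun j => ¬ (2 : ℤ) ∣ f j) := by
      ext i
      have := hT (X.idx i)
      rw [mem_pat, X.mem_unionT, Finset.mem_filter]
      simp only [Finset.mem_univ, true_and, f, w]
      by_cases h : X.idx i = 0
      · have := hc i (X.mem_tet.2 h)
        simp only [if_pos h]; omega
      · simp only [if_neg h]; omega
    rw [hp]
    refine X.InC_unionT ((Sx.even_card_iff_sum f).2 ?_)
    have : ∑ j, f j = (∑ j, X.tsum z j / 8) + c := by
      simp only [f, Finset.sum_add_distrib, Finset.sum_ite_eq', Finset.mem_univ, if_true]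
    rw [this]; exact hs

/-- codewords cut out every even subset of an octad or a dodecad -/
theorem exists_InC_even {P A : Finset GolayPt} (hP : InC P) (hc : P.card = 8 ∨ P.card = 12) (hA : A ⊆ P)
    (hev : Even A.card) : ∃ S, InC S ∧ S ∩ P = A := by
  refine exists_InC_inter hA fun S hS hSP => ?_
  have w := InC_weights (InC_symmDiff hS hP)
  rw [symmDiff_of_le hSP, Finset.card_sdiff_of_subset hSP] at w
  have hle := Finset.card_le_card hSP
  rcases InC_weights hS with e | e | e | e | e
  · rw [Finset.card_eq_zero.1 e]; simp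
  all_goals
    have : S = P := Finset.eq_of_subset_of_card_le hSP (by omega)
    rw [this, Finset.inter_eq_right.2 hA]; exact hev

/-- a sextet and signs under which the class of an even short vector is fixed -/
theorem exists_fix {x : Vec} (h : LatM 0 x) (hn : sqNorm x = 64) (hP : (pat 0 x).card = 8 ∨ (pat 0 x).card = 12) :
    ∃ (S : Finset GolayPt) (hS : InC S) (X : Sx), Cong (X.xi (ap (signCo S hS) x)) (ap (signCo S hS) x) := by
  classical
  have hx : x ∈ leechLattice := (mem_leech_iff x).2 ⟨0, h⟩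
  obtain ⟨Y, h0, hz⟩ := exists_step_sx h (by omega) (by omega) (fun e => by simp [e] at hP)
  set a := half 0 x with ha
  set P := pat 0 x with hPdef
  have hxa : ∀ i, x i = 2 * a i := fun i => by have := h.eq_half i; rw [← ha] at this; omega
  have hevP : ∀ j, Even (P ∩ Y.tet j).card := fun j => by
    have := Y.parity h.2.2 j 0
    rw [← hPdef, Finset.inter_eq_right.2 h0, Y.tet_card, Nat.even_add] at this
    exact this.2 (by decide)
  set t : Fin 6 → ℤ := fun j => ∑ i ∈ Y.tet j, a i with ht
  have ht2 : ∀ j, (2 : ℤ) ∣ t j := fun j => by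
    have h1 := Y.half_parity h j
    obtain ⟨r, hr⟩ := hevP j
    simp only [ht]
    rw [← ha, ← hPdef, hr] at h1
    omega
  set J := Finset.univ.filter (fun j => ¬ (2 : ℤ) ∣ t j / 2) with hJ
  have hJev : Even J.card := by
    rw [hJ, Sx.even_card_iff_sum]
    have e : ∑ j, t j = 2 * ∑ j, t j / 2 := by
      rw [Finset.mul_sum]; exact Finset.sum_congr rfl fun j _ => by have := ht2 j; omega
    have := h.sum_half
    rw [← ha, Y.sum_fiber a] at this
    simp only [ht] at e ⊢
    omega
  have hJne : ∀ j ∈ J, (P ∩ Y.tet j).Nonempty := fun j hj => by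
    by_contra hc
    rw [Finset.not_nonempty_iff_eq_empty] at hc
    have hd : Disjoint P (Y.tet j) := Finset.disjoint_iff_inter_eq_empty.2 hc
    obtain ⟨r, hr⟩ := hz j hd
    have h4 := sum_emod_eq (Y.tet j) a (fun i => if i ∈ twos x then (2 : ℤ) else 0) 4 (fun i hi => by
      have hna : (2 : ℤ) ∣ a i := by
        by_contra hc'
        exact Finset.disjoint_left.1 hd ((h.mem_pat_iff i).2 hc') hi
      by_cases h2 : i ∈ twos x
      · rw [if_pos h2]; rw [mem_twos, ← ha] at h2; omega
      · rw [if_neg h2]; rw [mem_twos, ← ha] at h2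
        have : (4 : ℤ) ∣ a i := by by_contra hc'; exact h2 ⟨hna, hc'⟩
        omega)
    rw [← Finset.sum_filter, Finset.filter_mem_eq_inter, Finset.inter_comm] at h4
    simp only [Finset.sum_const, nsmul_eq_mul] at h4
    rw [hJ, Finset.mem_filter] at hj
    simp only [ht] at hj
    omega
  choose p hp using hJne
  have hpj : ∀ j (hj : j ∈ J), Y.idx (p j hj) = j := fun j hj => Y.mem_tet.1 (Finset.mem_inter.1 (hp j hj)).2
  set A := J.attach.image (fun j => p j.1 j.2) with hA
  have hAP : A ⊆ P := fun i hi => by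
    obtain ⟨j, -, rfl⟩ := Finset.mem_image.1 hi
    exact (Finset.mem_inter.1 (hp _ j.2)).1
  have hAc : A.card = J.card := by
    rw [hA, Finset.card_image_of_injective _ (fun j k e => Subtype.ext (by rw [← hpj _ j.2, ← hpj _ k.2, e])),
      Finset.card_attach]
  obtain ⟨S, hS, hSP⟩ := exists_InC_even h.2.2 hP hAP (hAc ▸ hJev)
  set z := ap (signCo S hS) x with hzdef
  have hzi : ∀ i, z i = 2 * (if i ∈ S then -a i else a i) := fun i => by
    rw [hzdef, ap_signCo hS hx i, hxa i]; split <;> omega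
  have hz0 : LatM 0 z := latM_of_mem (ap_mem _ hx) (i := none) (by rw [← hzdef, hzi]; omega)
  have hT : ∀ j, (8 : ℤ) ∣ Y.tsum z j := fun j => by
    have e : Y.tsum z j = 2 * ∑ i ∈ Y.tet j, (if i ∈ S then -a i else a i) := by
      rw [Finset.mul_sum]; exact Finset.sum_congr rfl fun i _ => hzi i
    have e2 : (∑ i ∈ Y.tet j, (if i ∈ S then -a i else a i)) = t j - 2 * ∑ i ∈ Y.tet j, if i ∈ S then a i else 0 := by
      rw [ht, Finset.mul_sum, ← Finset.sum_sub_distrib]
      exact Finset.sum_congr rfl fun i _ => by split <;> ring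
    have h2 := sum_emod_eq (Y.tet j) (fun i => if i ∈ S then a i else 0) (fun i => if i ∈ A then 1 else 0) 2
      (fun i _ => by
        have hiP := h.mem_pat_iff i
        rw [← hPdef, ← ha] at hiP
        have hmem : i ∈ A ↔ i ∈ S ∧ i ∈ P := by rw [← hSP, Finset.mem_inter]
        by_cases h1 : i ∈ S <;> by_cases h2 : i ∈ P <;> simp [h1, h2, hmem] <;>
          simp only [h2, true_iff, false_iff, not_not] at hiP <;> omega)
    have hcount : (∑ i ∈ Y.tet j, if i ∈ A then (1 : ℤ) else 0) = if j ∈ J then 1 else 0 := by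
      by_cases hj : j ∈ J
      · rw [if_pos hj, Finset.sum_eq_single (p j hj)]
        · rw [if_pos (Finset.mem_image.2 ⟨⟨j, hj⟩, Finset.mem_attach _ _, rfl⟩)]
        · intro i hi hne
          rw [if_neg]
          intro hiA
          obtain ⟨⟨k, hk⟩, -, rfl⟩ := Finset.mem_image.1 hiA
          rw [Y.mem_tet, hpj k hk] at hi
          subst hi; exact hne rfl
        · intro hne; exact absurd (Finset.mem_inter.1 (hp j hj)).2 hne
      · rw [if_neg hj]
        refine Finset.sum_eq_zero fun i hi => if_neg fun hiA => hj ?_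
        obtain ⟨⟨k, hk⟩, -, rfl⟩ := Finset.mem_image.1 hiA
        rw [Y.mem_tet, hpj k hk] at hi
        exact hi ▸ hk
    rw [hcount] at h2
    have h3 : j ∈ J ↔ ¬ (2 : ℤ) ∣ t j / 2 := by simp [hJ]
    have := ht2 j
    rw [e, e2]
    by_cases hj : j ∈ J
    · rw [if_pos hj] at h2; have := h3.1 hj; omega
    · rw [if_neg hj] at h2; have : (2 : ℤ) ∣ t j / 2 := by by_contra hc; exact hj (h3.2 hc)
      omega
  by_cases hev : (2 : ℤ) ∣ ∑ j, Y.tsum z j / 8
  · -- relabel a tetrad missing the pattern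
    obtain ⟨j₁, hj₁⟩ : ∃ j, (P ∩ Y.tet j).card = 0 := by
      by_contra hc
      push Not at hc
      have hb : ∀ j ∈ (Finset.univ : Finset (Fin 6)), (if j = 0 then 4 else 2) ≤ (P ∩ Y.tet j).card := fun j _ => by
        by_cases hj : j = 0
        · subst hj; rw [if_pos rfl, Finset.inter_eq_right.2 h0, Y.tet_card]
        · obtain ⟨r, hr⟩ := hevP j
          have := hc j
          rw [if_neg hj]; omega
      have hsum := Finset.sum_le_sum hb
      have e : ∑ j, (P ∩ Y.tet j).card = P.card := by
        rw [Finset.card_eq_sum_card_fiberwise (s := P) (t := (Finset.univ : Finset (Fin 6))) (f := Y.idx)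
          (fun i _ => Finset.mem_univ _)]
        exact Finset.sum_congr rfl fun j _ => congrArg Finset.card (by ext i; simp [Sx.tet])
      rw [e] at hsum
      simp [Fin.sum_univ_succ] at hsum
      omega
    obtain ⟨X, hX⟩ := exists_sx_swap Y j₁
    have hts : ∀ j, X.tsum z j = Y.tsum z (Equiv.swap 0 j₁ j) := fun j => by unfold Sx.tsum; rw [hX]
    refine ⟨S, hS, X, hzdef ▸ xi_cong X hz0 (fun j => by rw [hts]; exact hT _) (c := 0) (fun i hi => ?_) ?_⟩
    · rw [hX, Equiv.swap_apply_left] at hi
      have hiP : i ∉ pat 0 x := fun hh => by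
        have : i ∈ P ∩ Y.tet j₁ := Finset.mem_inter.2 ⟨hh, hi⟩
        rw [Finset.card_eq_zero.1 hj₁] at this; simp at this
      rw [h.mem_pat_iff, not_not, ← ha] at hiP
      rw [hzi]; split <;> omega
    · rw [add_zero, Finset.sum_congr rfl fun j _ => by rw [hts j],
        Equiv.sum_comp (Equiv.swap 0 j₁) (fun j => Y.tsum z j / 8)]
      exact hev
  · refine ⟨S, hS, Y, hzdef ▸ xi_cong Y hz0 hT (c := 1) (fun i hi => ?_) (by rw [← hzdef] at *; omega)⟩
    have hiP := (h.mem_pat_iff i).1 (h0 hi)
    rw [← ha] at hiP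
    rw [hzi]; split <;> omega

/-- a subgroup above the frame stabiliser contains a sextet map -/
theorem exists_xi (hK : frame ≤ K) {g : ↥Co0} (hg : g ∈ K) (hgf : g ∉ frame) : ∃ X : Sx, X.xiCo ∈ K := by
  classical
  -- an element giving an even vector
  obtain ⟨g, hg, hgf, hev⟩ : ∃ g ∈ K, g ∉ frame ∧ LatM 0 (ap g (e8 none)) := by
    have hx := ap_mem g (e8_mem none)
    rcases exists_witness hx with h | h
    · exact ⟨g, hg, hgf, h⟩
    obtain ⟨T, hT⟩ : ∃ T : Finset GolayPt, T.card = 5 :=
      ⟨_, (Finset.exists_subset_card_eq (s := (Finset.univ : Finset GolayPt)) (n := 5)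
        (by rw [Finset.card_univ, card_pt]; norm_num)).choose_spec.2⟩
    obtain ⟨O, hO, hO8, -⟩ := InC_five hT
    set x := ap g (e8 none) with hxdef
    set s := signCo O hO with hs
    have hk : ap (g⁻¹ * (s * g)) (e8 none) = ap g⁻¹ (ap s x) := by
      rw [ap_mul _ _ (e8_mem none), ap_mul _ _ (e8_mem none)]
    refine ⟨g⁻¹ * (s * g), mul_mem (inv_mem hg) (mul_mem (hK (signCo_mem_frame hO)) hg), fun hf => ?_, ?_⟩
    · have hc := ap_cong g (ap_mem _ (e8_mem none)) (e8_mem none) (mem_frame.1 hf)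
      rw [← hxdef, ← ap_mul _ _ (e8_mem none), mul_inv_cancel_left, ap_mul _ _ (e8_mem none), ← hxdef] at hc
      obtain ⟨z, hz, hze⟩ := hc
      have hzv : ∀ i, z i = if i ∈ O then -x i else 0 := fun i => by
        have := congrFun hze i
        rw [Pi.sub_apply, hs, ap_signCo hO hx, Pi.smul_apply, nsmul_eq_mul] at this
        by_cases hi : i ∈ O <;> simp only [hi, if_true, if_false] at this ⊢ <;> push_cast at this <;> omega
      obtain ⟨i, hi⟩ : O.Nonempty := Finset.card_pos.1 (by omega)
      obtain ⟨j, hj⟩ : (Finset.univ \ O).Nonempty := Finset.card_pos.1 (by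
        rw [Finset.card_sdiff_of_subset (Finset.subset_univ _), Finset.card_univ, card_pt, hO8]; norm_num)
      obtain ⟨n, hn⟩ := (mem_leech_iff z).1 hz
      have h1 := hzv i; have h2 := hzv j
      rw [if_pos hi] at h1; rw [if_neg (Finset.mem_sdiff.1 hj).2] at h2
      have := hn.1 i; have := hn.1 j; have := h.1 i
      omega
    · rw [hk]
      refine latM_of_mem (ap_mem _ (ap_mem _ hx)) (i := none) ?_
      have e : 8 * ap g⁻¹ (ap s x) none = dotInt (ap s x) x := by
        have := ap_dot g (ap_mem g⁻¹ (ap_mem s hx)) (e8_mem none)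
        rw [dot_e8, ← hxdef, ← ap_mul _ _ (ap_mem s hx), mul_inv_cancel, ap_one] at this
        exact this.symm
      have e2 : dotInt (ap s x) x = 64 - 2 * ∑ i ∈ O, x i ^ 2 := by
        have hn : ∑ i, x i ^ 2 = 64 := by
          rw [show ∑ i, x i ^ 2 = sqNorm x from rfl, hxdef, ap_norm g (e8_mem none), e8_norm]
        rw [dotInt, ← hn, show (∑ i ∈ O, x i ^ 2) = ∑ i, if i ∈ O then x i ^ 2 else 0 by simp,
          Finset.mul_sum, ← Finset.sum_sub_distrib]
        refine Finset.sum_congr rfl fun i _ => ?_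
        rw [hs, ap_signCo hO hx]; split <;> ring
      have e3 := sum_emod_eq O (fun i => x i ^ 2) (fun _ => (1 : ℤ)) 8 (fun i _ => by
        obtain ⟨r, hr⟩ := Int.even_mul_succ_self (half 1 x i)
        exact ⟨r, by rw [h.eq_half i]; linear_combination 4 * hr⟩)
      rw [Finset.sum_const, hO8] at e3
      norm_num at e3
      omega
  -- an element whose pattern is small
  obtain ⟨g, hg, hgf, hev, hsmall⟩ : ∃ g ∈ K, g ∉ frame ∧ LatM 0 (ap g (e8 none)) ∧
      ((pat 0 (ap g (e8 none))).card = 0 ∨ (pat 0 (ap g (e8 none))).card = 8 ∨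
        (pat 0 (ap g (e8 none))).card = 12) := by
    set x := ap g (e8 none) with hxdef
    have hx := ap_mem g (e8_mem none)
    have hn : sqNorm x = 64 := by rw [hxdef, ap_norm g (e8_mem none), e8_norm]
    have hb := (pat_twos_bounds hev).1
    rw [sum_half_sq hev] at hn
    rcases InC_weights hev.2.2 with e | e | e | e | e
    · exact ⟨g, hg, hgf, hev, Or.inl e⟩
    · exact ⟨g, hg, hgf, hev, Or.inr (Or.inl e)⟩
    · exact ⟨g, hg, hgf, hev, Or.inr (Or.inr e)⟩
    · set P := pat 0 x with hPdef
      obtain ⟨i, hi⟩ : (Finset.univ \ P).Nonempty := Finset.card_pos.1 (by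
        rw [Finset.card_sdiff_of_subset (Finset.subset_univ _), Finset.card_univ, card_pt, e]; norm_num)
      have hiP : i ∉ P := (Finset.mem_sdiff.1 hi).2
      obtain ⟨j, hj⟩ : ∃ j, ap g (e8 j) i ≠ 0 := by
        by_contra hc
        push Not at hc
        have h0 : ap g⁻¹ (e8 i) = 0 := funext fun j => by
          have := ap_dot g (ap_mem g⁻¹ (e8_mem i)) (e8_mem j)
          rw [dot_e8, ← ap_mul _ _ (e8_mem i), mul_inv_cancel, ap_one, dot_comm, dot_e8, hc j] at this
          show _ = (0 : ℤ)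
          omega
        have := ap_norm g⁻¹ (e8_mem i)
        rw [h0, e8_norm] at this
        simp [sqNorm] at this
      obtain ⟨σ, hσ, hs⟩ := exists_M24_pair (p := (none : GolayPt)) (q := some 0) (p' := j)
        (q' := if j = none then some 0 else none) (by simp) (by split <;> simp_all)
      set y := ap g (e8 j) with hydef
      have hyL : y ∈ leechLattice := ap_mem g (e8_mem j)
      have hk : ap (g * permCo σ hσ) (e8 none) = y := by
        rw [ap_mul _ _ (e8_mem none), perm_e8 hσ, hs.1]
      have hc : Cong x y := ap_cong g (e8_mem none) (e8_mem j) (cong_e8 none j)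
      obtain ⟨z, hz, hze⟩ := hc
      have hzi : ∀ l, x l - y l = 2 * z l := fun l => by
        have := congrFun hze l
        rw [Pi.sub_apply, Pi.smul_apply, nsmul_eq_mul] at this; exact this
      have hy0 : LatM 0 y := latM_of_mem hyL (i := none) (by have := hev.1 none; have := hzi none; omega)
      have hyn : sqNorm y = 64 := by rw [hydef, ap_norm g (e8_mem j), e8_norm]
      refine ⟨g * permCo σ hσ, mul_mem hg (hK (permCo_mem_frame hσ)),
        fun hf => hgf (by simpa using mul_mem hf (inv_mem (permCo_mem_frame hσ))), hk.symm ▸ hy0, ?_⟩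
      rw [hk]
      have hyb := (pat_twos_bounds hy0).1
      rw [sum_half_sq hy0] at hyn
      rcases InC_weights hy0.2.2 with e' | e' | e' | e' | e'
      · exact Or.inl e'
      · exact Or.inr (Or.inl e')
      · exact Or.inr (Or.inr e')
      · exfalso
        have hd := InC_weights (InC_symmDiff hev.2.2 hy0.2.2)
        rw [← hPdef] at hd
        obtain ⟨n, hn'⟩ := (mem_leech_iff z).1 hz
        have hP' : pat 0 y = P ∨ pat 0 y = Finset.univ \ P := by
          by_cases hpar : (2 : ℤ) ∣ z none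
          · left; ext l
            have := hzi l; have := hn'.1 l; have := hn'.1 none; have := hev.1 l
            rw [hPdef, mem_pat, mem_pat]; omega
          · right; ext l
            have := hzi l; have := hn'.1 l; have := hn'.1 none; have := hev.1 l
            rw [Finset.mem_sdiff, hPdef, mem_pat, mem_pat]
            simp only [Finset.mem_univ, true_and]; omega
        rcases hP' with hP' | hP'
        · -- all the norm sits on the pattern
          have hzero : half 0 y i = 0 := by
            have hle : ∀ l ∈ Finset.univ, (if l ∈ P then (1 : ℤ) else 0) + (if l = i then half 0 y i ^ 2 else 0) ≤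
                half 0 y l ^ 2 := fun l _ => by
              by_cases hl : l = i
              · subst hl; simp [hiP]
              · rw [if_neg hl, add_zero]
                by_cases hlP : l ∈ P
                · rw [if_pos hlP]
                  have := (hy0.mem_pat_iff l).1 (hP' ▸ hlP)
                  have : half 0 y l ≠ 0 := fun h0 => this (by rw [h0]; exact dvd_zero 2)
                  nlinarith [Int.one_le_abs this, sq_abs (half 0 y l)]
                · rw [if_neg hlP]; positivity
            have := Finset.sum_le_sum hle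
            rw [Finset.sum_add_distrib, sum_indicator, Finset.sum_ite_eq' Finset.univ i, if_pos (Finset.mem_univ _), e] at this
            have : half 0 y i ^ 2 ≤ 0 := by push_cast at this; omega
            exact pow_eq_zero_iff two_ne_zero |>.1 (le_antisymm this (sq_nonneg _))
          apply hj
          have := hy0.eq_half i
          omega
        · rw [hP', Finset.card_sdiff_of_subset (Finset.subset_univ _), Finset.card_univ, card_pt, e] at e'
          omega
      · exfalso; omega
    · exfalso; omega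
  set x := ap g (e8 none) with hxdef
  have hx := ap_mem g (e8_mem none)
  have hn : sqNorm x = 64 := by rw [hxdef, ap_norm g (e8_mem none), e8_norm]
  rcases hsmall with h0 | h8
  · rcases four_shape64 hev (Finset.card_eq_zero.1 h0) hn with ⟨q, h⟩ | ⟨S, hS, X, q, h⟩
    · exact absurd (mem_frame_of_eq h) hgf
    · refine ⟨X, ?_⟩
      have hf : X.xiCo * (signCo S hS * g) ∈ frame := by
        refine mem_frame_of_eq (q := q) (Or.inl ?_)
        rw [ap_mul _ _ (e8_mem none), ap_mul _ _ (e8_mem none), ← hxdef, X.ap_xiCo (ap_mem _ hx), h]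
      simpa [mul_assoc] using mul_mem (hK hf) (inv_mem (mul_mem (hK (signCo_mem_frame hS)) hg))
  · obtain ⟨S, hS, X, hfix⟩ := exists_fix hev hn h8
    refine ⟨X, ?_⟩
    set s := signCo S hS with hsdef
    have hss : ap s (ap s x) = x := funext fun i => by
      rw [hsdef, ap_signCo hS (ap_mem _ hx), ap_signCo hS hx]; by_cases hi : i ∈ S <;> simp [hi, hxdef]
    have hf : g⁻¹ * (s * (X.xiCo * (s * g))) ∈ frame := by
      rw [mem_frame, ap_mul _ _ (e8_mem none), ap_mul _ _ (e8_mem none), ap_mul _ _ (e8_mem none),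
        ap_mul _ _ (e8_mem none), ← hxdef, X.ap_xiCo (ap_mem s hx)]
      have h1 := ap_cong s (X.xi_mem (ap_mem s hx)) (ap_mem s hx) hfix
      rw [hss] at h1
      have h2 := ap_cong g⁻¹ (ap_mem s (X.xi_mem (ap_mem s hx))) hx h1
      rwa [ap_inv_ap g (e8_mem none)] at h2
    have hs : s ∈ K := hK (signCo_mem_frame hS)
    have := mul_mem (mul_mem (inv_mem hs) (mul_mem hg (hK hf))) (inv_mem (mul_mem hs hg))
    simpa [mul_assoc] using this

/-- the frame stabiliser is maximal -/
theorem isCoatom_frame : IsCoatom frame := by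
  refine ⟨fun h => ?_, fun K hlt => ?_⟩
  · -- a sextet map moves the standard frame
    obtain ⟨T, hnT, hT⟩ := Finset.exists_subsuperset_card_eq (s := ({none} : Finset GolayPt)) (t := Finset.univ)
      (n := 4) (Finset.subset_univ _) (by simp) (by rw [Finset.card_univ, card_pt]; norm_num)
    obtain ⟨X, hX⟩ := exists_sx T hT.2
    have hf : X.xiCo ∈ frame := h ▸ Subgroup.mem_top _
    rw [mem_frame, X.ap_xiCo (e8_mem none)] at hf
    obtain ⟨q, hq⟩ := cross_std (X.xi_mem (e8_mem none)) (by rw [X.xi_norm (e8_mem none), e8_norm]) hf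
    have hn0 : X.idx none = 0 := X.mem_tet.1 (hX ▸ hnT (by simp))
    have e : X.xi (e8 none) none = -4 := by
      have : X.tsum (e8 none) 0 = 8 := by
        show ∑ i ∈ X.tet 0, e8 none i = 8
        simp [e8, X.mem_tet, hn0]
      simp only [Sx.xi, hn0, if_true, this]
      simp [e8]
    rcases hq with hq | hq <;> rw [hq] at e <;> simp only [e8, Pi.neg_apply] at e <;> split at e <;> omega
  · obtain ⟨g, hg, hgf⟩ := SetLike.exists_of_lt hlt
    obtain ⟨X, hX⟩ := exists_xi hlt.le hg hgf
    exact top_of_xi hlt.le (xi_all hlt.le hX)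

end Cfsg.Agent.Leech
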