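import Cfsg.Agent.Lib.Leech.Gen
import Cfsg.Agent.Lib.Leech.Frame

/-!
The lattice modulo 13: automorphisms act linearly and faithfully on the space of 24 coordinates
over the field of 13 elements.
-/

set_option autoImplicit false

namespace Cfsg.Agent.Leech

open Cfsg

noncomputable section

/-- The coordinate space modulo 13. -/
abbrev V13 : Type := GolayPt → ZMod 13

/-- Reduction of coordinates modulo 13. -/
def red13 : Vec →+ V13 where
  toFun x i := (x i : ZMod 13)
  map_zero' := by funext i; simp
  map_add' x y := by funext i; simp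

theorem red13_apply (x : Vec) (i : GolayPt) : red13 x i = (x i : ZMod 13) := rfl

theorem eight_mul_mem (y : Vec) : (8 : ℤ) • y ∈ leechLattice := by
  have e : (8 : ℤ) • y = ∑ i, y i • e8 i := by
    funext j
    simp only [Pi.smul_apply, smul_eq_mul, Finset.sum_apply, e8, mul_ite, mul_zero,
      Finset.sum_ite_eq, Finset.mem_univ, if_true]
    ring
  rw [e]
  exact sum_mem fun i _ => zsmul_mem (e8_mem i) _

/-- A lattice preimage of a word modulo 13. -/
def lift13 (v : V13) : Vec := (8 : ℤ) • fun i => ((5 * v i).val : ℤ)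

theorem lift13_mem (v : V13) : lift13 v ∈ leechLattice := eight_mul_mem _

theorem red13_lift13 (v : V13) : red13 (lift13 v) = v := by
  funext i
  have h : (8 : ZMod 13) * 5 = 1 := by decide
  simp only [red13_apply, lift13, Pi.smul_apply, smul_eq_mul, Int.cast_mul, Int.cast_ofNat,
    Int.cast_natCast, ZMod.natCast_zmod_val]
  rw [← mul_assoc, h, one_mul]

/-- Lattice vectors vanishing modulo 13 are 13 times lattice vectors. -/
theorem exists_thirteen {x : Vec} (hx : x ∈ leechLattice) (h : red13 x = 0) :
    ∃ z ∈ leechLattice, x = (13 : ℤ) • z := by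
  choose y hy using fun i =>
    (ZMod.intCast_zmod_eq_zero_iff_dvd (x i) 13).1 (congrFun h i)
  have hxy : x = (13 : ℤ) • y := funext fun i => by simpa [smul_eq_mul] using hy i
  refine ⟨y, ?_, hxy⟩
  have hy' : y = (5 : ℤ) • ((8 : ℤ) • y) - (3 : ℤ) • x := by
    rw [hxy]
    funext i
    simp only [Pi.sub_apply, Pi.smul_apply, smul_eq_mul]
    ring
  rw [hy']
  exact sub_mem (zsmul_mem (eight_mul_mem y) _) (zsmul_mem hx _)

theorem ap_zsmul (g : ↥Co0) (n : ℤ) {x : Vec} (hx : x ∈ leechLattice) :
    ap g (n • x) = n • ap g x := by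
  have h := map_zsmul (coHom g) n (⟨x, hx⟩ : ↥leechLattice)
  have e : (n • x : Vec) = ((n • (⟨x, hx⟩ : ↥leechLattice) : ↥leechLattice) : Vec) := rfl
  rw [e, ap_coe, ← coHom_apply, h, coHom_apply, AddSubgroup.coe_zsmul, ← ap_coe]

theorem red13_ap_congr (g : ↥Co0) {x y : Vec} (hx : x ∈ leechLattice) (hy : y ∈ leechLattice)
    (h : red13 x = red13 y) : red13 (ap g x) = red13 (ap g y) := by
  obtain ⟨z, hz, he⟩ := exists_thirteen (sub_mem hx hy) (by rw [map_sub, h, sub_self])
  rw [← sub_eq_zero, ← map_sub, ← ap_sub g hx hy, he, ap_zsmul g _ hz]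
  funext i
  simp only [red13_apply, Pi.smul_apply, smul_eq_mul, Int.cast_mul, Pi.zero_apply]
  rw [show ((13 : ℤ) : ZMod 13) = 0 by decide, zero_mul]

/-- The action on words modulo 13. -/
def act13 (g : ↥Co0) (v : V13) : V13 := red13 (ap g (lift13 v))

theorem act13_red (g : ↥Co0) {x : Vec} (hx : x ∈ leechLattice) :
    act13 g (red13 x) = red13 (ap g x) :=
  red13_ap_congr g (lift13_mem _) hx (red13_lift13 _)

theorem act13_add (g : ↥Co0) (v w : V13) : act13 g (v + w) = act13 g v + act13 g w := by
  conv_lhs => rw [← red13_lift13 v, ← red13_lift13 w, ← map_add]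
  rw [act13_red g (add_mem (lift13_mem v) (lift13_mem w)), ap_add g (lift13_mem v) (lift13_mem w),
    map_add]
  rfl

theorem act13_one (v : V13) : act13 1 v = v := by rw [act13, ap_one, red13_lift13]

theorem act13_mul (g h : ↥Co0) (v : V13) : act13 (g * h) v = act13 g (act13 h v) := by
  show red13 (ap (g * h) (lift13 v)) = act13 g (red13 (ap h (lift13 v)))
  rw [act13_red g (ap_mem h (lift13_mem v)), ap_mul g h (lift13_mem v)]

/-- The action as a linear map. -/
def actLin13 (g : ↥Co0) : V13 →ₗ[ZMod 13] V13 :=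
  (AddMonoidHom.mk' (act13 g) (act13_add g)).toZModLinearMap 13

theorem actLin13_apply (g : ↥Co0) (v : V13) : actLin13 g v = act13 g v := rfl

/-- The representation on 24 coordinates modulo 13. -/
def rep13 : ↥Co0 →* Module.End (ZMod 13) V13 where
  toFun := actLin13
  map_one' := LinearMap.ext act13_one
  map_mul' g h := LinearMap.ext (act13_mul g h)

theorem red13_dot (x y : Vec) : (dotInt x y : ZMod 13) = ∑ i, red13 x i * red13 y i := by
  simp [dotInt, red13_apply]

theorem rep13_dot (g : ↥Co0) (v w : V13) :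
    ∑ i, rep13 g v i * rep13 g w i = ∑ i, v i * w i := by
  show ∑ i, act13 g v i * act13 g w i = _
  rw [act13, act13, ← red13_dot, ap_dot g (lift13_mem v) (lift13_mem w), red13_dot,
    red13_lift13, red13_lift13]

theorem sqNorm_eq_dot (x : Vec) : sqNorm x = dotInt x x := by
  simp [sqNorm, dotInt, sq]

/-- The representation modulo 13 is faithful. -/
theorem rep13_injective : Function.Injective rep13 := by
  rw [injective_iff_map_eq_one]
  intro g hg
  let M : AddSubgroup Vec :=
    { carrier := {x | x ∈ leechLattice ∧ ap g x = x}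
      zero_mem' := ⟨zero_mem _, ap_zero g⟩
      add_mem' := fun {a b} ha hb => ⟨add_mem ha.1 hb.1, by rw [ap_add g ha.1 hb.1, ha.2, hb.2]⟩
      neg_mem' := fun {a} ha => ⟨neg_mem ha.1, by rw [ap_neg g ha.1, ha.2]⟩ }
  have hM : leechLattice ≤ M := le_of_min fun x hx hn => by
    refine ⟨hx, ?_⟩
    have h1 : red13 (ap g x) = red13 x := by
      rw [← act13_red g hx]
      exact LinearMap.congr_fun hg (red13 x)
    obtain ⟨z, hz, he⟩ := exists_thirteen (sub_mem (ap_mem g hx) hx)
      (by rw [map_sub, h1, sub_self])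
    have hd : sqNorm (ap g x - x) + sqNorm (ap g x + x) = 128 := by
      rw [sqNorm_add, sqNorm_sub, ap_norm g hx, hn]; ring
    have hpos := sqNorm_nonneg (ap g x + x)
    have hz0 : z = 0 := by
      by_contra h0
      have := sqNorm_min hz h0
      rw [he, sqNorm_smul] at hd
      nlinarith
    rw [hz0, smul_zero, sub_eq_zero] at he
    exact he
  refine ext_ap fun x hx => ?_
  rw [(hM hx).2, ap_one]

end

end Cfsg.Agent.Leech
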