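import Cfsg.Agent.Lib.Leech.Stab
import Cfsg.Agent.Lib.Golay.Conj

/-!
Transitivity on pairs of short vectors of the rank-24 lattice: an orthogonal pair of minimal
vectors is a coordinate frame, and every other pair is read off in a suitable frame.
-/

set_option autoImplicit false

namespace Cfsg.Agent.Leech
open Cfsg
open scoped symmDiff

/-- The first distinguished point. -/
abbrev fP : GolayPt := none
/-- The second distinguished point. -/
abbrev fQ : GolayPt := some 0

theorem fP_ne_fQ : fP ≠ fQ := by simp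

/-- Two ordered pairs in one orbit. -/
def CoPair (v w v' w' : Vec) : Prop := ∃ g : ↥Co0, ap g v = v' ∧ ap g w = w'

theorem CoPair.symm {v w v' w' : Vec} (hv : v ∈ leechLattice) (hw : w ∈ leechLattice)
    (h : CoPair v w v' w') : CoPair v' w' v w := by
  obtain ⟨g, rfl, rfl⟩ := h
  exact ⟨g⁻¹, ap_inv_ap g hv, ap_inv_ap g hw⟩

theorem CoPair.trans {v w v' w' v'' w'' : Vec} (hv : v ∈ leechLattice) (hw : w ∈ leechLattice)
    (h : CoPair v w v' w') (h' : CoPair v' w' v'' w'') : CoPair v w v'' w'' := by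
  obtain ⟨g, rfl, rfl⟩ := h
  obtain ⟨k, rfl, rfl⟩ := h'
  exact ⟨k * g, ap_mul k g hv, ap_mul k g hw⟩

theorem dotAny_e44 (x : Vec) {p q : GolayPt} (h : p ≠ q) : dotInt x (e44 p q) = 4 * (x p + x q) := by
  have e : ∀ j, x j * e44 p q j = (if j = p then 4 * x p else 0) + (if j = q then 4 * x q else 0) := fun j => by
    simp only [e44]
    by_cases h1 : j = p
    · subst h1; simp [h, mul_comm]
    · by_cases h2 : j = q
      · subst h2; simp [h1, mul_comm]
      · simp [h1, h2]
  simp [dotInt, e, Finset.sum_add_distrib, mul_add]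

theorem dotAny_d44 (x : Vec) {p q : GolayPt} (h : p ≠ q) : dotInt x (d44 p q) = 4 * (x p - x q) := by
  have e : ∀ j, x j * d44 p q j = (if j = p then 4 * x p else 0) + (if j = q then -(4 * x q) else 0) := fun j => by
    simp only [d44]
    by_cases h1 : j = p
    · subst h1; simp [h, mul_comm]
    · by_cases h2 : j = q
      · subst h2; simp [h1, mul_comm]
      · simp [h1, h2]
  simp [dotInt, e, Finset.sum_add_distrib, sub_eq_add_neg, mul_add]

/-- An orthogonal pair of minimal vectors is a frame. -/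
theorem exists_frame {v t : Vec} (hv : v ∈ leechLattice) (hvn : sqNorm v = 32) (ht : t ∈ leechLattice)
    (htn : sqNorm t = 32) (hd : dotInt v t = 0) : CoPair v t (e44 fP fQ) (d44 fP fQ) := by
  have ha : v + t ∈ leechLattice := add_mem hv ht
  have hb : v - t ∈ leechLattice := sub_mem hv ht
  have han : sqNorm (v + t) = 64 := by rw [sqNorm_add, hvn, htn, hd]; norm_num
  have hbn : sqNorm (v - t) = 64 := by rw [sqNorm_sub, hvn, htn, hd]; norm_num
  have hab : dotInt (v + t) (v - t) = 0 := by
    have e1 := sqNorm_add (v + t) (v - t)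
    rw [show v + t + (v - t) = (2 : ℤ) • v by rw [two_smul]; abel, sqNorm_smul, hvn, han, hbn] at e1
    omega
  have hc : Cong (v - t) (v + t) := ⟨-t, neg_mem ht, by rw [two_nsmul]; abel⟩
  obtain ⟨g, hg⟩ := coEq_cross ha han
  have hc' := ap_cong g hb ha hc
  rw [hg] at hc'
  obtain ⟨i, hi⟩ := cross_std (ap_mem g hb) (by rw [ap_norm g hb, hbn]) hc'
  have hdot : dotInt (ap g (v - t)) (e8 none) = 0 := by
    rw [← hg, ap_dot g hb ha, dot_comm, hab]
  have hine : i ≠ none := by
    rintro rfl
    rcases hi with h | h <;> rw [h, dot_e8] at hdot <;> simp [e8] at hdot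
  have hS : ∃ S, InC S ∧ none ∉ S ∧ (i ∈ S ↔ ap g (v - t) = -e8 i) := by
    by_cases hneg : ap g (v - t) = -e8 i
    · obtain ⟨c, hc, he⟩ := exists_InC_inter_small (A := {i}) (T := {none, i}) (by simp)
        ((Finset.card_insert_le _ _).trans (by simp))
      refine ⟨c, hc, fun hn => ?_, iff_of_true ?_ hneg⟩
      · have : none ∈ c ∩ {none, i} := Finset.mem_inter.2 ⟨hn, by simp⟩
        rw [he, Finset.mem_singleton] at this
        exact hine this.symm
      · have : i ∈ c ∩ {none, i} := by rw [he]; simp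
        exact (Finset.mem_inter.1 this).1
    · exact ⟨∅, InC_empty, by simp, iff_of_false (by simp) hneg⟩
  obtain ⟨S, hS, hn, hiS⟩ := hS
  obtain ⟨σ, hσ, hσ1, hσ2⟩ := exists_M24_pair (Ne.symm hine) fP_ne_fQ
  set k := permCo σ hσ * signCo S hS with hk
  have hka : ap k (e8 none) = e8 fP := by
    rw [ap_mul _ _ (e8_mem _), show ap (signCo S hS) (e8 none) = e8 none from funext fun j => by
      rw [ap_signCo hS (e8_mem _)]
      by_cases hj : j = none
      · subst hj; simp [hn]
      · simp [e8, hj], perm_e8, hσ1]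
  have hkb : ap k (ap g (v - t)) = e8 fQ := by
    rw [ap_mul _ _ (ap_mem g hb), show ap (signCo S hS) (ap g (v - t)) = e8 i from funext fun j => by
      rw [ap_signCo hS (ap_mem g hb)]
      by_cases hj : j = i
      · subst hj
        rcases hi with h | h
        · have hns : j ∉ S := fun hs => by
            have h2 := congrFun (h.symm.trans (hiS.1 hs)) j
            simp [e8] at h2
          simp [hns, h]
        · simp [hiS.2 h, h]
      · rcases hi with h | h <;> simp [h, e8, hj], perm_e8, hσ2]
  refine ⟨k * g, ?_, ?_⟩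
  · have e : (2 : ℤ) • ap (k * g) v = e8 fP + e8 fQ := by
      have h1 : ap (k * g) (v + t) = e8 fP := by rw [ap_mul _ _ ha, hg, hka]
      have h2 : ap (k * g) (v - t) = e8 fQ := by rw [ap_mul _ _ hb, hkb]
      rw [ap_add _ hv ht] at h1
      rw [ap_sub _ hv ht] at h2
      rw [← h1, ← h2, two_smul]; abel
    funext j
    have ej := congrFun e j
    simp only [Pi.smul_apply, smul_eq_mul, Pi.add_apply, e8] at ej
    simp only [e44]
    by_cases h1 : j = fP
    · subst h1; simp at ej ⊢; omega
    · by_cases h2 : j = fQ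
      · subst h2; simp at ej ⊢; omega
      · simp [h1, h2] at ej ⊢; omega
  · have e : (2 : ℤ) • ap (k * g) t = e8 fP - e8 fQ := by
      have h1 : ap (k * g) (v + t) = e8 fP := by rw [ap_mul _ _ ha, hg, hka]
      have h2 : ap (k * g) (v - t) = e8 fQ := by rw [ap_mul _ _ hb, hkb]
      rw [ap_add _ hv ht] at h1
      rw [ap_sub _ hv ht] at h2
      rw [← h1, ← h2, two_smul]; abel
    funext j
    have ej := congrFun e j
    simp only [Pi.smul_apply, smul_eq_mul, Pi.sub_apply, e8] at ej
    simp only [d44]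
    by_cases h1 : j = fP
    · subst h1; simp at ej ⊢; omega
    · by_cases h2 : j = fQ
      · subst h2; simp at ej ⊢; omega
      · simp [h1, h2] at ej ⊢; omega

theorem coPair_zero {v w v' w' : Vec} (hv : v ∈ leechLattice) (hvn : sqNorm v = 32) (hw : w ∈ leechLattice)
    (hwn : sqNorm w = 32) (hd : dotInt v w = 0) (hv' : v' ∈ leechLattice) (hvn' : sqNorm v' = 32)
    (hw' : w' ∈ leechLattice) (hwn' : sqNorm w' = 32) (hd' : dotInt v' w' = 0) : CoPair v w v' w' :=
  (exists_frame hv hvn hw hwn hd).trans hv hw ((exists_frame hv' hvn' hw' hwn' hd').symm hv' hw')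

theorem coPair_subtype {v w v' w' : ↥leechLattice} (h : CoPair (v : Vec) w v' w') :
    ∃ g : ↥Co0, g • v = v' ∧ g • w = w' := by
  obtain ⟨g, h1, h2⟩ := h
  rw [ap_coe] at h1 h2
  exact ⟨g, Subtype.ext h1, Subtype.ext h2⟩

end Cfsg.Agent.Leech
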