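import Cfsg.Agent.Lib.Leech.Pairs
import Cfsg.Agent.Lib.Leech.Gen

/-!
The orbits of the automorphism group of the rank-24 lattice on pairs (v, w) with v minimal and
(sqNorm w, dot v w) one of (32, -16), (32, -8), (48, -16).
-/

set_option autoImplicit false

namespace Cfsg.Agent.Leech
open Cfsg
open scoped symmDiff

theorem sq_le_norm (x : Vec) (S : Finset GolayPt) : ∑ i ∈ S, x i ^ 2 ≤ sqNorm x :=
  Finset.sum_le_sum_of_subset_of_nonneg (Finset.subset_univ S) fun i _ _ => sq_nonneg _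

theorem sqNorm_split {p q : GolayPt} (h : p ≠ q) (x : Vec) :
    sqNorm x = x p ^ 2 + x q ^ 2 + ∑ i ∈ (Finset.univ.erase p).erase q, x i ^ 2 := by
  rw [sqNorm, ← Finset.add_sum_erase _ _ (Finset.mem_univ p),
    ← Finset.add_sum_erase _ _ (Finset.mem_erase.2 ⟨Ne.symm h, Finset.mem_univ q⟩), add_assoc]

theorem card_others {p q : GolayPt} (h : p ≠ q) : ((Finset.univ.erase p).erase q).card = 22 := by
  rw [Finset.card_erase_of_mem (Finset.mem_erase.2 ⟨Ne.symm h, Finset.mem_univ q⟩),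
    Finset.card_erase_of_mem (Finset.mem_univ p), Finset.card_univ, card_pt]

theorem pat_abs_two {x : Vec} (h : LatM 0 x) (hn : sqNorm x ≤ 48) :
    (pat 0 x = ∅ ∨ 8 ≤ (pat 0 x).card) ∧ ∀ i ∈ pat 0 x, |x i| = 2 := by
  have hcard : pat 0 x = ∅ ∨ 8 ≤ (pat 0 x).card := by
    by_cases he : pat 0 x = ∅
    · exact Or.inl he
    · refine Or.inr ?_
      by_contra hc
      exact he (InC_card_ge h.2.2 (by omega))
  refine ⟨hcard, fun i hi => ?_⟩
  have h8 : 8 ≤ (pat 0 x).card := hcard.resolve_left fun e => by simp [e] at hi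
  have hall : ∀ j ∈ pat 0 x, (4 : ℤ) ≤ x j ^ 2 := fun j hj => by
    have h1 := h.1 j
    have h2 := mem_pat.1 hj
    have h3 : x j ≠ 0 := fun e => by rw [e] at h2; simp at h2
    have : 2 ≤ |x j| := by
      rcases abs_cases (x j) with ⟨e, _⟩ | ⟨e, _⟩ <;> omega
    nlinarith [sq_abs (x j)]
  have hs := sq_le_norm x (pat 0 x)
  rw [← Finset.add_sum_erase _ _ hi] at hs
  have hrest := Finset.card_nsmul_le_sum ((pat 0 x).erase i) (fun j => x j ^ 2) 4
    fun j hj => hall j (Finset.mem_of_mem_erase hj)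
  rw [Finset.card_erase_of_mem hi, nsmul_eq_mul] at hrest
  have h1 := h.1 i
  have h2 := mem_pat.1 hi
  have hb : x i ^ 2 ≤ 20 := by
    have : (7 : ℤ) ≤ ((pat 0 x).card - 1 : ℕ) := by exact_mod_cast (by omega : 7 ≤ (pat 0 x).card - 1)
    linarith
  have h4 : -4 ≤ x i ∧ x i ≤ 4 := ⟨by nlinarith, by nlinarith⟩
  rcases abs_cases (x i) with ⟨e, _⟩ | ⟨e, _⟩ <;> omega

theorem four_shape {x : Vec} (h : LatM 0 x) (hp : pat 0 x = ∅) :
    ∃ b : Vec, (∀ i, x i = 4 * b i) ∧ (2 : ℤ) ∣ ∑ i, b i ^ 2 := by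
  choose b hb using four_of_pat_empty h hp
  refine ⟨b, hb, ?_⟩
  have hsum : ∑ i, x i = 4 * ∑ i, b i := by rw [Finset.mul_sum]; exact Finset.sum_congr rfl fun i _ => hb i
  have h8 := h.2.1
  rw [hsum] at h8
  have h2 := sum_emod_eq Finset.univ (fun i => b i ^ 2) b 2 fun i _ => by
    rcases Int.even_mul_succ_self (b i - 1) with ⟨k, hk⟩
    exact ⟨k, by linear_combination hk⟩
  omega

theorem dot_eq_sum_support {t x : Vec} {O : Finset GolayPt} (h : ∀ i ∉ O, t i = 0) :
    dotInt t x = ∑ i ∈ O, t i * x i :=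
  (Finset.sum_subset (Finset.subset_univ O) fun i _ hi => by rw [h i hi, zero_mul]).symm

theorem exists_two_point {r s : GolayPt} (hrs : r ≠ s) (x : Vec) :
    ∃ t ∈ leechLattice, sqNorm t = 32 ∧ (∀ i, i ≠ r → i ≠ s → t i = 0) ∧
      dotInt t x = 4 * (|x r| + |x s|) := by
  rcases le_or_gt 0 (x r) with hr | hr <;> rcases le_or_gt 0 (x s) with hs | hs
  · refine ⟨e44 r s, e44_mem hrs, e44_norm hrs, fun i h1 h2 => by simp [e44, h1, h2], ?_⟩
    rw [dot_comm, dotAny_e44 x hrs, abs_of_nonneg hr, abs_of_nonneg hs]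
  · refine ⟨d44 r s, d44_mem hrs, d44_norm hrs, fun i h1 h2 => by simp [d44, h1, h2], ?_⟩
    rw [dot_comm, dotAny_d44 x hrs, abs_of_nonneg hr, abs_of_neg hs, sub_eq_add_neg]
  · refine ⟨d44 s r, d44_mem hrs.symm, d44_norm hrs.symm, fun i h1 h2 => by simp [d44, h1, h2], ?_⟩
    rw [dot_comm, dotAny_d44 x hrs.symm, abs_of_nonneg hs, abs_of_neg hr]
    ring
  · refine ⟨-e44 r s, neg_mem (e44_mem hrs), by rw [sqNorm_neg, e44_norm hrs],
      fun i h1 h2 => by simp [e44, h1, h2], ?_⟩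
    rw [dot_neg_left, dot_comm, dotAny_e44 x hrs, abs_of_neg hr, abs_of_neg hs]
    ring

theorem exists_signed_octad {O T : Finset GolayPt} (hO : InC O) (h8 : O.card = 8) (hT : T ⊆ O)
    (h7 : T.card ≤ 7) (x : Vec) :
    ∃ t ∈ leechLattice, sqNorm t = 32 ∧ (∀ i ∉ O, t i = 0) ∧
      2 * ((∑ i ∈ T, |x i|) - ∑ i ∈ O \ T, |x i|) ≤ dotInt t x := by
  obtain ⟨c, hc, he⟩ := exists_InC_inter_small (A := T.filter fun i => x i < 0) (Finset.filter_subset _ _) h7
  have hb : twoVec O ∈ leechLattice := (mem_leech_iff _).2 ⟨0, (twoVec_latM hO).1⟩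
  have hval : ∀ i, ap (signCo c hc) (twoVec O) i = if i ∈ O then (if i ∈ c then -2 else 2) else 0 := fun i => by
    rw [ap_signCo hc hb]
    simp only [twoVec]
    split_ifs <;> rfl
  refine ⟨_, ap_mem (signCo c hc) hb, ?_, fun i hi => by rw [hval, if_neg hi], ?_⟩
  · rw [ap_norm _ hb]
    have e : ∀ i, twoVec O i ^ 2 = if i ∈ O then 4 else 0 := fun i => by
      simp only [twoVec]; split_ifs <;> norm_num
    simp [sqNorm, e, h8]
  · rw [dot_eq_sum_support (O := O) fun i hi => by rw [hval, if_neg hi], ← Finset.sum_sdiff hT]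
    have h1 : ∑ i ∈ T, ap (signCo c hc) (twoVec O) i * x i = 2 * ∑ i ∈ T, |x i| := by
      rw [Finset.mul_sum]
      refine Finset.sum_congr rfl fun i hi => ?_
      rw [hval, if_pos (hT hi)]
      have hic : i ∈ c ↔ x i < 0 := by
        have := Finset.ext_iff.1 he i
        simp [hi] at this
        exact this
      by_cases hneg : x i < 0
      · rw [if_pos (hic.2 hneg), abs_of_neg hneg]; ring
      · rw [if_neg fun h => hneg (hic.1 h), abs_of_nonneg (not_lt.1 hneg)]
    have h2 : -(2 * ∑ i ∈ O \ T, |x i|) ≤ ∑ i ∈ O \ T, ap (signCo c hc) (twoVec O) i * x i := by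
      rw [Finset.mul_sum, ← Finset.sum_neg_distrib]
      refine Finset.sum_le_sum fun i hi => ?_
      rw [hval, if_pos (Finset.mem_sdiff.1 hi).1]
      have := abs_nonneg (x i)
      have := neg_abs_le (x i)
      have := le_abs_self (x i)
      split_ifs <;> linarith
    linarith

theorem exists_octad_avoid {p q : GolayPt} (h : p ≠ q) :
    ∃ O, InC O ∧ O.card = 8 ∧ p ∉ O ∧ q ∉ O := by
  obtain ⟨S, -, hS⟩ := Finset.exists_subset_card_eq (n := 5) (s := (Finset.univ : Finset GolayPt))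
    (by rw [Finset.card_univ, card_pt]; norm_num)
  obtain ⟨O, hO, h8, -⟩ := InC_five hS
  obtain ⟨a, ha, b, hb, hab⟩ : ∃ a ∉ O, ∃ b ∉ O, a ≠ b := by
    have hc : 1 < Oᶜ.card := by rw [Finset.card_compl, card_pt, h8]; norm_num
    obtain ⟨a, ha, b, hb, hab⟩ := Finset.one_lt_card.1 hc
    exact ⟨a, Finset.mem_compl.1 ha, b, Finset.mem_compl.1 hb, hab⟩
  obtain ⟨σ, hσ, h1, h2⟩ := exists_M24_pair hab h
  exact ⟨O.image σ, (M24_map hσ O).2 hO, by rw [Finset.card_image_of_injective _ σ.injective, h8],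
    by rw [← h1]; simpa using ha, by rw [← h2]; simpa using hb⟩

/-- six points of a twelve-point word in one octad, avoiding two points of the word -/
theorem exists_hexad_avoid {D : Finset GolayPt} (hD : InC D) (h12 : D.card = 12) {p q : GolayPt}
    (hp : p ∈ D) (hq : q ∈ D) :
    ∃ O, InC O ∧ O.card = 8 ∧ (O ∩ D).card = 6 ∧ p ∉ O ∧ q ∉ O := by
  have h10 : 10 ≤ ((D.erase p).erase q).card := by
    have := Finset.pred_card_le_card_erase (s := D.erase p) (a := q)
    rw [Finset.card_erase_of_mem hp] at this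
    omega
  obtain ⟨A, hA, hA4⟩ := Finset.exists_subset_card_eq (n := 4) (le_trans (by norm_num) h10)
  have hR : 6 ≤ (((D.erase p).erase q) \ A).card := by rw [Finset.card_sdiff_of_subset hA]; omega
  have hget : ∀ a ∈ ((D.erase p).erase q) \ A, ∃ O, InC O ∧ O.card = 8 ∧ insert a A ⊆ O ∧ (O ∩ D).card = 6 := by
    intro a ha
    obtain ⟨haD, haA⟩ := Finset.mem_sdiff.1 ha
    obtain ⟨O, hO, h8, hs⟩ := InC_five (S := insert a A) (by rw [Finset.card_insert_of_notMem haA, hA4])
    refine ⟨O, hO, h8, hs, ?_⟩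
    have h5 : 5 ≤ (O ∩ D).card := by
      have : insert a A ⊆ O ∩ D := Finset.subset_inter hs fun i hi => by
        rcases Finset.mem_insert.1 hi with rfl | hi
        · exact Finset.mem_of_mem_erase (Finset.mem_of_mem_erase haD)
        · exact Finset.mem_of_mem_erase (Finset.mem_of_mem_erase (hA hi))
      have := Finset.card_le_card this
      rwa [Finset.card_insert_of_notMem haA, hA4] at this
    obtain ⟨m, hm⟩ := InC_inter_even hO hD
    have h4 := card_symmDiff_add O D
    rw [h8, h12] at h4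
    rcases InC_weights (InC_symmDiff hO hD) with e | e | e | e | e <;>
      have hle : (O ∩ D).card ≤ 8 := h8 ▸ Finset.card_le_card Finset.inter_subset_left <;> omega
  choose! O hOC hO8 hOs hOi using hget
  by_contra hne
  push Not at hne
  have hbad : ∀ a ∈ ((D.erase p).erase q) \ A, p ∈ O a ∨ q ∈ O a := fun a ha => by
    by_contra hb
    push Not at hb
    exact hb.2 (hne _ (hOC a ha) (hO8 a ha) (hOi a ha) hb.1)
  have hle : ∀ z ∈ D, z ∉ A → ((((D.erase p).erase q) \ A).filter fun a => z ∈ O a ∧ a ≠ z).card ≤ 1 := by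
    intro z hz hzA
    rw [Finset.card_le_one]
    intro a ha b hb
    by_contra hab
    obtain ⟨ha', hza, hazn⟩ := Finset.mem_filter.1 ha
    obtain ⟨hb', hzb, -⟩ := Finset.mem_filter.1 hb
    have hU : insert z A ⊆ O a ∩ O b := Finset.insert_subset (Finset.mem_inter.2 ⟨hza, hzb⟩)
      (Finset.subset_inter ((Finset.subset_insert a A).trans (hOs a ha'))
        ((Finset.subset_insert b A).trans (hOs b hb')))
    have h5 := Finset.card_le_card hU
    rw [Finset.card_insert_of_notMem hzA, hA4] at h5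
    have h4 := card_symmDiff_add (O a) (O b)
    rw [hO8 a ha', hO8 b hb'] at h4
    have he : O a = O b := by
      rcases InC_weights (InC_symmDiff (hOC a ha') (hOC b hb')) with e | e | e | e | e
      · exact symmDiff_eq_bot.1 (Finset.card_eq_zero.1 e)
      all_goals omega
    have h7 : insert b (insert a (insert z A)) ⊆ O a ∩ D := by
      intro i hi
      simp only [Finset.mem_insert] at hi
      rcases hi with rfl | rfl | rfl | hi
      · exact Finset.mem_inter.2 ⟨he ▸ hOs i hb' (Finset.mem_insert_self _ _),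
          Finset.mem_of_mem_erase (Finset.mem_of_mem_erase (Finset.mem_sdiff.1 hb').1)⟩
      · exact Finset.mem_inter.2 ⟨hOs i ha' (Finset.mem_insert_self _ _),
          Finset.mem_of_mem_erase (Finset.mem_of_mem_erase (Finset.mem_sdiff.1 ha').1)⟩
      · exact Finset.mem_inter.2 ⟨hza, hz⟩
      · exact Finset.mem_inter.2 ⟨hOs a ha' (Finset.mem_insert_of_mem hi),
          Finset.mem_of_mem_erase (Finset.mem_of_mem_erase (hA hi))⟩
    have := Finset.card_le_card h7
    rw [hOi a ha', Finset.card_insert_of_notMem (by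
      simp only [Finset.mem_insert, not_or]
      exact ⟨Ne.symm hab, (Finset.mem_filter.1 hb).2.2, (Finset.mem_sdiff.1 hb').2⟩),
      Finset.card_insert_of_notMem (by
      simp only [Finset.mem_insert, not_or]
      exact ⟨hazn, (Finset.mem_sdiff.1 ha').2⟩), Finset.card_insert_of_notMem hzA, hA4] at this
    omega
  have hpA : p ∉ A := fun h => Finset.notMem_erase p D (Finset.mem_of_mem_erase (hA h))
  have hqA : q ∉ A := fun h => Finset.notMem_erase q (D.erase p) (hA h)
  have hcov : ((D.erase p).erase q) \ A ⊆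
      ((((D.erase p).erase q) \ A).filter fun a => p ∈ O a ∧ a ≠ p) ∪
        ((((D.erase p).erase q) \ A).filter fun a => q ∈ O a ∧ a ≠ q) := by
    intro a ha
    have hap : a ≠ p := Finset.ne_of_mem_erase (Finset.mem_of_mem_erase (Finset.mem_sdiff.1 ha).1)
    have haq : a ≠ q := Finset.ne_of_mem_erase (Finset.mem_sdiff.1 ha).1
    rcases hbad a ha with h | h
    · exact Finset.mem_union_left _ (Finset.mem_filter.2 ⟨ha, h, hap⟩)
    · exact Finset.mem_union_right _ (Finset.mem_filter.2 ⟨ha, h, haq⟩)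
  have := (Finset.card_le_card hcov).trans (Finset.card_union_le _ _)
  have := hle p hp hpA
  have := hle q hq hqA
  omega

theorem others_ne {p q r : GolayPt} (h : r ∈ (Finset.univ.erase p).erase q) : r ≠ p ∧ r ≠ q := by
  simp at h; exact ⟨h.2, h.1⟩

theorem two_point_cand {p q r s : GolayPt} (hr : r ∈ (Finset.univ.erase p).erase q)
    (hs : s ∈ (Finset.univ.erase p).erase q) (hrs : r ≠ s) {x : Vec} {c : ℤ} (hc : c ≤ 4 * (|x r| + |x s|)) :
    ∃ t ∈ leechLattice, sqNorm t = 32 ∧ t p + t q = 0 ∧ c ≤ dotInt t x := by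
  obtain ⟨t, ht, hn, h0, hd⟩ := exists_two_point hrs x
  obtain ⟨hrp, hrq⟩ := others_ne hr
  obtain ⟨hsp, hsq⟩ := others_ne hs
  exact ⟨t, ht, hn, by rw [h0 p hrp.symm hsp.symm, h0 q hrq.symm hsq.symm, add_zero], hd ▸ hc⟩

theorem octad_cand {p q : GolayPt} {O T : Finset GolayPt} (hO : InC O) (h8 : O.card = 8) (hp : p ∉ O)
    (hq : q ∉ O) (hT : T ⊆ O) (h7 : T.card ≤ 7) {x : Vec} {c : ℤ}
    (hc : c ≤ 2 * ((∑ i ∈ T, |x i|) - ∑ i ∈ O \ T, |x i|)) :
    ∃ t ∈ leechLattice, sqNorm t = 32 ∧ t p + t q = 0 ∧ c ≤ dotInt t x := by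
  obtain ⟨t, ht, hn, h0, hd⟩ := exists_signed_octad hO h8 hT h7 x
  exact ⟨t, ht, hn, by rw [h0 p hp, h0 q hq, add_zero], hc.trans hd⟩

theorem min_cand {p q : GolayPt} (hpq : p ≠ q) {w : Vec} (hw : w ∈ leechLattice) (hn : sqNorm w = 32)
    (hs : w p + w q = -4 ∨ w p + w q = -2) :
    ∃ t ∈ leechLattice, sqNorm t = 32 ∧ t p + t q = 0 ∧ 10 ≤ dotInt t w := by
  set R := (Finset.univ.erase p).erase q with hR
  have hR22 : R.card = 22 := card_others hpq
  rcases exists_witness hw with h | h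
  · obtain ⟨hc, h2⟩ := pat_abs_two h (by omega)
    rcases hc with he | h8
    · obtain ⟨r, hr, hr0⟩ : ∃ r ∈ R, w r ≠ 0 := by
        by_contra hne
        push Not at hne
        have e := sqNorm_split hpq w
        rw [Finset.sum_eq_zero fun i hi => by rw [hne i hi]; rfl, hn] at e
        obtain ⟨a, ha⟩ := four_of_pat_empty h he p
        obtain ⟨b, hb⟩ := four_of_pat_empty h he q
        have hb' : b = -1 - a := by omega
        rw [ha, hb, hb'] at e
        have : a < -1 ∨ a = -1 ∨ a = 0 ∨ 0 < a := by omega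
        rcases this with h1 | rfl | rfl | h1 <;> nlinarith
      obtain ⟨s, hs', hsr⟩ := Finset.exists_mem_ne (by omega : 1 < R.card) r
      obtain ⟨a, ha⟩ := four_of_pat_empty h he r
      refine two_point_cand hr hs' hsr.symm ?_
      have : 1 ≤ |a| := Int.one_le_abs fun e => hr0 (by rw [ha, e, mul_zero])
      have : |w r| = 4 * |a| := by rw [ha, abs_mul]; norm_num
      have := abs_nonneg (w s)
      omega
    · obtain ⟨r, hr, s, hs', hrs⟩ := Finset.one_lt_card.1 (show 1 < (pat 0 w ∩ R).card by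
        have : pat 0 w ⊆ (pat 0 w ∩ R) ∪ {p, q} := fun i hi => by simp [hR, hi]; tauto
        have := (Finset.card_le_card this).trans (Finset.card_union_le _ _)
        have : ({p, q} : Finset GolayPt).card ≤ 2 := Finset.card_insert_le _ _
        omega)
      rw [Finset.mem_inter] at hr hs'
      refine two_point_cand hr.2 hs'.2 hrs ?_
      rw [h2 r hr.1, h2 s hs'.1]; norm_num
  · have hodd : ∀ i, 1 ≤ |w i| := fun i => Int.one_le_abs (by have := h.1 i; omega)
    by_cases h3 : ∃ r ∈ R, 3 ≤ |w r|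
    · obtain ⟨r, hr, hr3⟩ := h3
      obtain ⟨s, hs', hsr⟩ := Finset.exists_mem_ne (by omega : 1 < R.card) r
      exact two_point_cand hr hs' hsr.symm (by have := hodd s; omega)
    · push Not at h3
      have h1 : ∀ r ∈ R, |w r| = 1 := fun r hr => by
        have := h3 r hr; have := hodd r; have := h.1 r
        rcases abs_cases (w r) with ⟨e, _⟩ | ⟨e, _⟩ <;> omega
      obtain ⟨O, hO, hO8, hp, hq⟩ := exists_octad_avoid hpq
      obtain ⟨T, hT, hT7⟩ := Finset.exists_subset_card_eq (n := 7) (s := O) (by omega)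
      refine octad_cand hO hO8 hp hq hT hT7.le ?_
      have hOR : ∀ i ∈ O, i ∈ R := fun i hi => by
        simp [hR]; exact ⟨fun e => hq (e ▸ hi), fun e => hp (e ▸ hi)⟩
      rw [Finset.sum_congr rfl fun i hi => h1 i (hOR i (hT hi)),
        Finset.sum_congr rfl fun i hi => h1 i (hOR i (Finset.mem_sdiff.1 hi).1)]
      simp [hT7, Finset.card_sdiff_of_subset hT, hO8]

theorem six_cand {p q : GolayPt} (hpq : p ≠ q) {u : Vec} (hu : u ∈ leechLattice) (hn : sqNorm u = 48)
    (hs : u p + u q = -4) :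
    ∃ t ∈ leechLattice, sqNorm t = 32 ∧ t p + t q = 0 ∧ 18 ≤ dotInt t u := by
  set R := (Finset.univ.erase p).erase q with hR
  have hR22 : R.card = 22 := card_others hpq
  have hsplit := sqNorm_split hpq u
  rw [← hR, hn] at hsplit
  rcases exists_witness hu with h | h
  · obtain ⟨hc, h2⟩ := pat_abs_two h (by omega)
    rcases hc with he | h8
    · obtain ⟨b, hb, h2b⟩ := four_shape h he
      have e : sqNorm u = 16 * ∑ i, b i ^ 2 := by
        rw [sqNorm, Finset.mul_sum]
        exact Finset.sum_congr rfl fun i _ => by rw [hb i]; ring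
      omega
    · have hPR : 6 ≤ (pat 0 u ∩ R).card := by
        have : pat 0 u ⊆ (pat 0 u ∩ R) ∪ {p, q} := fun i hi => by simp [hR, hi]; tauto
        have := (Finset.card_le_card this).trans (Finset.card_union_le _ _)
        have : ({p, q} : Finset GolayPt).card ≤ 2 := Finset.card_insert_le _ _
        omega
      by_cases h4 : ∃ r ∈ R, r ∉ pat 0 u ∧ u r ≠ 0
      · obtain ⟨r, hr, hrp, hr0⟩ := h4
        obtain ⟨s, hs'⟩ := Finset.card_pos.1 (show 0 < (pat 0 u ∩ R).card by omega)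
        rw [Finset.mem_inter] at hs'
        refine two_point_cand hr hs'.2 (fun e => hrp (e ▸ hs'.1)) ?_
        have : (4 : ℤ) ∣ u r := by simpa [mem_pat] using hrp
        rw [h2 s hs'.1]
        rcases abs_cases (u r) with ⟨e, _⟩ | ⟨e, _⟩ <;> omega
      · push Not at h4
        have hsum : ∑ i ∈ R, u i ^ 2 = 4 * ((pat 0 u ∩ R).card : ℤ) := by
          rw [← Finset.sum_subset (Finset.inter_subset_right : pat 0 u ∩ R ⊆ R) fun i hi hni => by
              rw [h4 i hi fun hP => hni (Finset.mem_inter.2 ⟨hP, hi⟩)]; rfl,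
            Finset.sum_congr rfl fun i hi => by rw [← sq_abs, h2 i (Finset.mem_inter.1 hi).1]]
          simp [mul_comm]
        rw [hsum] at hsplit
        by_cases hp : p ∈ pat 0 u
        · have hq : q ∈ pat 0 u := by
            rw [mem_pat]; have := mem_pat.1 hp; have := h.1 p; omega
          have hpv := h2 p hp
          have hqv := h2 q hq
          rw [← sq_abs, hpv, ← sq_abs (u q), hqv] at hsplit
          have h12 : (pat 0 u).card = 12 := by
            have : (pat 0 u ∩ R) = ((pat 0 u).erase p).erase q := by ext i; simp [hR]; tauto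
            rw [this, Finset.card_erase_of_mem (Finset.mem_erase.2 ⟨Ne.symm hpq, hq⟩),
              Finset.card_erase_of_mem hp] at hsplit
            omega
          obtain ⟨O, hO, hO8, h6, hpO, hqO⟩ := exists_hexad_avoid h.2.2 h12 hp hq
          refine octad_cand hO hO8 hpO hqO (T := O ∩ pat 0 u) Finset.inter_subset_left (by omega) ?_
          have hz : ∑ i ∈ O \ (O ∩ pat 0 u), |u i| = 0 := Finset.sum_eq_zero fun i hi => by
            obtain ⟨hiO, hiP⟩ := Finset.mem_sdiff.1 hi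
            have hiR : i ∈ R := by
              simp [hR]; exact ⟨fun e => hqO (e ▸ hiO), fun e => hpO (e ▸ hiO)⟩
            rw [h4 i hiR fun hP => hiP (Finset.mem_inter.2 ⟨hiO, hP⟩)]; rfl
          rw [hz, Finset.sum_congr rfl fun i hi => h2 i (Finset.mem_inter.1 hi).2, Finset.sum_const, h6]
          norm_num
        · have hq : q ∉ pat 0 u := by
            rw [mem_pat, not_not]; rw [mem_pat, not_not] at hp; omega
          have hPeq : pat 0 u ∩ R = pat 0 u := Finset.inter_eq_left.2 fun i hi => by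
            simp [hR]; exact ⟨fun e => hq (e ▸ hi), fun e => hp (e ▸ hi)⟩
          rw [hPeq] at hsplit
          have h8' : (pat 0 u).card = 8 := by
            rcases InC_weights h.2.2 with e | e | e | e | e <;> try omega
            all_goals (rw [e] at hsplit; push_cast at hsplit; nlinarith [sq_nonneg (u p - u q)])
          obtain ⟨T, hT, hT7⟩ := Finset.exists_subset_card_eq (n := 7) (s := pat 0 u) (by omega)
          refine octad_cand h.2.2 h8' hp hq hT hT7.le ?_
          rw [Finset.sum_congr rfl fun i hi => h2 i (hT hi),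
            Finset.sum_congr rfl fun i hi => h2 i (Finset.mem_sdiff.1 hi).1]
          simp [hT7, Finset.card_sdiff_of_subset hT, h8']
  · have hodd : ∀ i, 1 ≤ |u i| := fun i => Int.one_le_abs (by have := h.1 i; omega)
    by_cases h5 : ∃ r ∈ R, 5 ≤ |u r|
    · obtain ⟨r, hr, hr5⟩ := h5
      obtain ⟨s, hs', hsr⟩ := Finset.exists_mem_ne (by omega : 1 < R.card) r
      exact two_point_cand hr hs' hsr.symm (by have := hodd s; omega)
    push Not at h5
    by_cases h33 : 1 < (R.filter fun i => |u i| = 3).card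
    · obtain ⟨r, hr, s, hs', hrs⟩ := Finset.one_lt_card.1 h33
      rw [Finset.mem_filter] at hr hs'
      exact two_point_cand hr.1 hs'.1 hrs (by rw [hr.2, hs'.2]; norm_num)
    · have hsum : ∑ i ∈ R, u i ^ 2 = (R.card : ℤ) + 8 * ((R.filter fun i => |u i| = 3).card : ℤ) := by
        rw [Finset.sum_congr rfl fun i hi => show u i ^ 2 = 1 + if |u i| = 3 then 8 else 0 by
          rw [← sq_abs]
          have := h5 i hi; have := hodd i; have := h.1 i
          have h13 : |u i| = 1 ∨ |u i| = 3 := by rcases abs_cases (u i) with ⟨e, _⟩ | ⟨e, _⟩ <;> omega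
          rcases h13 with e | e <;> simp [e], Finset.sum_add_distrib, ← Finset.sum_filter]
        simp [mul_comm]
      rw [hsum, hR22] at hsplit
      have hq' : u q = -4 - u p := by omega
      rw [hq'] at hsplit
      have h18 : 18 ≤ u p ^ 2 + (-4 - u p) ^ 2 := by omega
      have : u p ≤ -5 ∨ 1 ≤ u p := by
        by_contra hc
        push Not at hc
        have h1 : -4 ≤ u p ∧ u p ≤ 0 := ⟨by omega, by omega⟩
        nlinarith
      rcases this with hlo | hhi
      · exact ⟨d44 q p, d44_mem hpq.symm, d44_norm hpq.symm, by simp [d44, hpq, hpq.symm],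
          by rw [dot_comm, dotAny_d44 u hpq.symm]; omega⟩
      · exact ⟨d44 p q, d44_mem hpq, d44_norm hpq, by simp [d44, hpq, hpq.symm],
          by rw [dot_comm, dotAny_d44 u hpq]; omega⟩

/-- A frame in which `v` is the first distinguished vector and `w` is read off. -/
theorem exists_reading {v w : Vec} (hv : v ∈ leechLattice) (hvn : sqNorm v = 32) (hw : w ∈ leechLattice)
    (s d : ℤ) (hs : dotInt v w = 4 * s) (h48 : sqNorm w = 48 ∧ s = -4 ∧ d = 6 ∨
      sqNorm w = 32 ∧ (s = -4 ∨ s = -2) ∧ d = 4) :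
    ∃ g : ↥Co0, ap g v = e44 fP fQ ∧ 2 * ap g w fP = s + d ∧ 2 * ap g w fQ = s - d := by
  obtain ⟨k, hk⟩ := coEq_of_norm32 hv (e44_mem fP_ne_fQ) hvn (e44_norm fP_ne_fQ)
  have hw' : ap k w ∈ leechLattice := ap_mem k hw
  have hsum : ap k w fP + ap k w fQ = s := by
    have := dotAny_e44 (ap k w) fP_ne_fQ
    rw [← hk, ap_dot k hw hv, dot_comm, hs] at this
    omega
  obtain ⟨t, ht, htn, ht0, htd⟩ : ∃ t ∈ leechLattice, sqNorm t = 32 ∧ t fP + t fQ = 0 ∧
      dotInt t (ap k w) = 4 * d := by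
    rcases h48 with ⟨hwn, rfl, rfl⟩ | ⟨hwn, hs', rfl⟩
    · obtain ⟨t, ht, htn, ht0, htd⟩ := six_cand fP_ne_fQ hw' (by rw [ap_norm k hw, hwn]) hsum
      refine ⟨t, ht, htn, ht0, ?_⟩
      have h8 := dot_eight ht hw'
      have hne : t - ap k w ≠ 0 := fun e => by
        rw [sub_eq_zero] at e; rw [e, ap_norm k hw, hwn] at htn; omega
      have := sqNorm_min (sub_mem ht hw') hne
      rw [sqNorm_sub, htn, ap_norm k hw, hwn] at this
      omega
    · obtain ⟨t, ht, htn, ht0, htd⟩ := min_cand fP_ne_fQ hw' (by rw [ap_norm k hw, hwn]) (by omega)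
      refine ⟨t, ht, htn, ht0, ?_⟩
      have h8 := dot_eight ht hw'
      have hne : t - ap k w ≠ 0 := fun e => by
        rw [sub_eq_zero] at e; rw [e] at ht0; omega
      have := sqNorm_min (sub_mem ht hw') hne
      rw [sqNorm_sub, htn, ap_norm k hw, hwn] at this
      omega
  obtain ⟨g, hg1, hg2⟩ := exists_frame (e44_mem fP_ne_fQ) (e44_norm fP_ne_fQ) ht htn
    (by rw [dot_comm, dotAny_e44 t fP_ne_fQ, ht0]; norm_num)
  refine ⟨g * k, by rw [ap_mul g k hv, hk, hg1], ?_⟩
  have h1 := dotAny_e44 (ap g (ap k w)) fP_ne_fQ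
  rw [← hg1, ap_dot g hw' (e44_mem fP_ne_fQ), dotAny_e44 (ap k w) fP_ne_fQ] at h1
  have h2 := dotAny_d44 (ap g (ap k w)) fP_ne_fQ
  rw [← hg2, ap_dot g hw' ht, dot_comm, htd] at h2
  rw [ap_mul g k hw]
  omega

theorem signs_odd {x y : Vec} (hx : x ∈ leechLattice) (hy : y ∈ leechLattice)
    (habs : ∀ i, x i = y i ∨ (x i = -y i ∧ ¬ (2 : ℤ) ∣ x i)) :
    ∃ (S : Finset GolayPt) (hS : InC S), ap (signCo S hS) x = y ∧ ∀ i ∈ S, x i ≠ y i := by
  have hd : LatM 0 (x - y) := (exists_witness (sub_mem hx hy)).resolve_right fun h => by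
    have h1 := h.1 none
    rcases habs none with e | ⟨e, he⟩ <;> simp only [Pi.sub_apply] at h1 <;> omega
  have hmem : ∀ i, i ∈ pat 0 (x - y) ↔ x i ≠ y i := fun i => by
    rw [mem_pat]
    simp only [Pi.sub_apply, sub_zero]
    rcases habs i with e | ⟨e, he⟩ <;> omega
  refine ⟨_, hd.2.2, funext fun i => ?_, fun i hi => (hmem i).1 hi⟩
  rw [ap_signCo _ hx]
  by_cases hi : i ∈ pat 0 (x - y)
  · rw [if_pos hi]
    rcases habs i with e | ⟨e, -⟩
    · exact absurd e ((hmem i).1 hi)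
    · omega
  · rw [if_neg hi]
    by_contra hne
    exact hi ((hmem i).2 hne)

theorem abs_one_others {x : Vec} (h : LatM 1 x) {p q : GolayPt} (hpq : p ≠ q)
    (hn : sqNorm x = x p ^ 2 + x q ^ 2 + 22) : ∀ i, i ≠ p → i ≠ q → x i = 1 ∨ x i = -1 := by
  intro i hp hq
  have hR : i ∈ (Finset.univ.erase p).erase q := by simp [hp, hq]
  have hge : ∀ j, (1 : ℤ) ≤ x j ^ 2 := fun j => by
    have : x j ≠ 0 := by have := h.1 j; omega
    nlinarith [Int.one_le_abs this, sq_abs (x j)]
  have e := sqNorm_split hpq x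
  rw [hn, ← Finset.add_sum_erase _ _ hR] at e
  have hrest := Finset.card_nsmul_le_sum (((Finset.univ.erase p).erase q).erase i) (fun j => x j ^ 2) 1
    fun j _ => hge j
  rw [Finset.card_erase_of_mem hR, card_others hpq, nsmul_eq_mul] at hrest
  norm_num at hrest
  have := hge i
  have h1 : x i ^ 2 = 1 := by linarith
  exact sq_eq_one_iff.1 h1

/-- two readings with the same odd entries at the frame points are equivalent -/
theorem odd_reading {x y : Vec} (hx : x ∈ leechLattice) (hy : y ∈ leechLattice) (hp : x fP = y fP)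
    (hq : x fQ = y fQ) (hodd : ¬ (2 : ℤ) ∣ x fP) (hxn : sqNorm x = x fP ^ 2 + x fQ ^ 2 + 22)
    (hyn : sqNorm y = y fP ^ 2 + y fQ ^ 2 + 22) :
    ∃ g : ↥Co0, ap g (e44 fP fQ) = e44 fP fQ ∧ ap g (d44 fP fQ) = d44 fP fQ ∧ ap g x = y := by
  have hx1 : LatM 1 x := latM_of_mem hx (i := fP) (by omega)
  have hy1 : LatM 1 y := latM_of_mem hy (i := fP) (by omega)
  obtain ⟨S, hS, he, hne⟩ := signs_odd hx hy fun i => by
    by_cases h1 : i = fP
    · exact Or.inl (h1 ▸ hp)
    by_cases h2 : i = fQ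
    · exact Or.inl (h2 ▸ hq)
    rcases abs_one_others hx1 fP_ne_fQ hxn i h1 h2 with e | e <;>
      rcases abs_one_others hy1 fP_ne_fQ hyn i h1 h2 with e' | e' <;> simp [e, e']
  refine ⟨signCo S hS, funext fun i => ?_, funext fun i => ?_, he⟩
  · rw [ap_signCo hS (e44_mem fP_ne_fQ)]
    by_cases hi : i ∈ S
    · have : i ≠ fP ∧ i ≠ fQ := ⟨fun e => hne i hi (e ▸ hp), fun e => hne i hi (e ▸ hq)⟩
      simp [e44, this.1, this.2]
    · rw [if_neg hi]
  · rw [ap_signCo hS (d44_mem fP_ne_fQ)]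
    by_cases hi : i ∈ S
    · have : i ≠ fP ∧ i ≠ fQ := ⟨fun e => hne i hi (e ▸ hp), fun e => hne i hi (e ▸ hq)⟩
      simp [d44, this.1, this.2]
    · rw [if_neg hi]

theorem coPair_of_readings {v w v' w' : Vec} (hv : v ∈ leechLattice) (hw : w ∈ leechLattice)
    (hv' : v' ∈ leechLattice) (hw' : w' ∈ leechLattice) {g g' : ↥Co0} (hg : ap g v = e44 fP fQ)
    (hg' : ap g' v' = e44 fP fQ) (h : ∃ k : ↥Co0, ap k (e44 fP fQ) = e44 fP fQ ∧ ap k (ap g w) = ap g' w') :
    CoPair v w v' w' := by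
  obtain ⟨k, hk1, hk2⟩ := h
  refine CoPair.trans hv hw ⟨k * g, ?_, ?_⟩ (CoPair.symm hv' hw' ⟨g', hg', rfl⟩)
  · rw [ap_mul k g hv, hg, hk1]
  · rw [ap_mul k g hw, hk2]

theorem coPair_eight {v w v' w' : Vec} (hv : v ∈ leechLattice) (hvn : sqNorm v = 32) (hw : w ∈ leechLattice)
    (hwn : sqNorm w = 32) (hd : dotInt v w = -8) (hv' : v' ∈ leechLattice) (hvn' : sqNorm v' = 32)
    (hw' : w' ∈ leechLattice) (hwn' : sqNorm w' = 32) (hd' : dotInt v' w' = -8) : CoPair v w v' w' := by
  obtain ⟨g, hg, h1, h2⟩ := exists_reading hv hvn hw (-2) 4 (hd.trans (by norm_num)) (Or.inr ⟨hwn, Or.inr rfl, rfl⟩)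
  obtain ⟨g', hg', h1', h2'⟩ := exists_reading hv' hvn' hw' (-2) 4 (hd'.trans (by norm_num)) (Or.inr ⟨hwn', Or.inr rfl, rfl⟩)
  have ha : ap g w fP = 1 := by omega
  have hb : ap g w fQ = -3 := by omega
  have ha' : ap g' w' fP = 1 := by omega
  have hb' : ap g' w' fQ = -3 := by omega
  obtain ⟨k, hk1, -, hk2⟩ := odd_reading (ap_mem g hw) (ap_mem g' hw') (by rw [ha, ha'])
    (by rw [hb, hb']) (by rw [ha]; decide) (by rw [ap_norm g hw, hwn, ha, hb]; norm_num)
    (by rw [ap_norm g' hw', hwn', ha', hb']; norm_num)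
  exact coPair_of_readings hv hw hv' hw' hg hg' ⟨k, hk1, hk2⟩

theorem coPair_six {v w v' w' : Vec} (hv : v ∈ leechLattice) (hvn : sqNorm v = 32) (hw : w ∈ leechLattice)
    (hwn : sqNorm w = 48) (hd : dotInt v w = -16) (hv' : v' ∈ leechLattice) (hvn' : sqNorm v' = 32)
    (hw' : w' ∈ leechLattice) (hwn' : sqNorm w' = 48) (hd' : dotInt v' w' = -16) : CoPair v w v' w' := by
  obtain ⟨g, hg, h1, h2⟩ := exists_reading hv hvn hw (-4) 6 (hd.trans (by norm_num)) (Or.inl ⟨hwn, rfl, rfl⟩)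
  obtain ⟨g', hg', h1', h2'⟩ := exists_reading hv' hvn' hw' (-4) 6 (hd'.trans (by norm_num)) (Or.inl ⟨hwn', rfl, rfl⟩)
  have ha : ap g w fP = 1 := by omega
  have hb : ap g w fQ = -5 := by omega
  have ha' : ap g' w' fP = 1 := by omega
  have hb' : ap g' w' fQ = -5 := by omega
  obtain ⟨k, hk1, -, hk2⟩ := odd_reading (ap_mem g hw) (ap_mem g' hw') (by rw [ha, ha'])
    (by rw [hb, hb']) (by rw [ha]; decide) (by rw [ap_norm g hw, hwn, ha, hb]; norm_num)
    (by rw [ap_norm g' hw', hwn', ha', hb']; norm_num)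
  exact coPair_of_readings hv hw hv' hw' hg hg' ⟨k, hk1, hk2⟩

/-- the even reading: entries (0, -4) at the frame points and one more entry of absolute value four -/
theorem sixteen_shape {x : Vec} (hx : x ∈ leechLattice) (hn : sqNorm x = 32) (hp : x fP = 0) (hq : x fQ = -4) :
    ∃ r, r ≠ fP ∧ r ≠ fQ ∧ (x r = 4 ∨ x r = -4) ∧ ∀ i, i ≠ fP → i ≠ fQ → i ≠ r → x i = 0 := by
  have h : LatM 0 x := (exists_witness hx).resolve_right fun h => by have := h.1 fP; omega
  have he : pat 0 x = ∅ := by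
    by_contra hne
    obtain ⟨hc, h2⟩ := pat_abs_two h (by omega)
    have h8 := hc.resolve_left hne
    have hs := sq_le_norm x (insert fQ (pat 0 x))
    rw [Finset.sum_insert (by rw [mem_pat]; simp [hq]), hq, hn,
      Finset.sum_congr rfl fun i hi => by rw [← sq_abs, h2 i hi]] at hs
    simp at hs
    omega
  obtain ⟨b, hb, -⟩ := four_shape h he
  have hsum := sqNorm_split fP_ne_fQ x
  rw [hn, hp, hq] at hsum
  obtain ⟨r, hr, hr0⟩ : ∃ r ∈ (Finset.univ.erase fP).erase fQ, x r ≠ 0 := by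
    by_contra hne
    push Not at hne
    rw [Finset.sum_eq_zero fun i hi => by rw [hne i hi]; rfl] at hsum
    norm_num at hsum
  obtain ⟨hrP, hrQ⟩ := others_ne hr
  have h16 : ∀ i, x i ≠ 0 → 16 ≤ x i ^ 2 := fun i hi => by
    have hbi : b i ≠ 0 := fun e => hi (by rw [hb, e, mul_zero])
    have := Int.one_le_abs hbi
    rw [hb]; nlinarith [sq_abs (b i)]
  rw [← Finset.add_sum_erase _ _ hr] at hsum
  have hnn : (0 : ℤ) ≤ ∑ i ∈ ((Finset.univ.erase fP).erase fQ).erase r, x i ^ 2 :=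
    Finset.sum_nonneg fun i _ => sq_nonneg _
  have := h16 r hr0
  have hz : ∑ i ∈ ((Finset.univ.erase fP).erase fQ).erase r, x i ^ 2 = 0 := by linarith
  have hrv : x r ^ 2 = 4 ^ 2 := by linarith
  refine ⟨r, hrP, hrQ, sq_eq_sq_iff_eq_or_eq_neg.1 hrv, fun i h1 h2 h3 => ?_⟩
  have := (Finset.sum_eq_zero_iff_of_nonneg fun i _ => sq_nonneg (x i)).1 hz i (by simp [h1, h2, h3])
  exact pow_eq_zero_iff two_ne_zero |>.1 this

theorem coPair_sixteen {v w v' w' : Vec} (hv : v ∈ leechLattice) (hvn : sqNorm v = 32) (hw : w ∈ leechLattice)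
    (hwn : sqNorm w = 32) (hd : dotInt v w = -16) (hv' : v' ∈ leechLattice) (hvn' : sqNorm v' = 32)
    (hw' : w' ∈ leechLattice) (hwn' : sqNorm w' = 32) (hd' : dotInt v' w' = -16) : CoPair v w v' w' := by
  obtain ⟨g, hg, h1, h2⟩ := exists_reading hv hvn hw (-4) 4 (hd.trans (by norm_num)) (Or.inr ⟨hwn, Or.inl rfl, rfl⟩)
  obtain ⟨g', hg', h1', h2'⟩ := exists_reading hv' hvn' hw' (-4) 4 (hd'.trans (by norm_num)) (Or.inr ⟨hwn', Or.inl rfl, rfl⟩)
  have hx := ap_mem g hw
  have hy := ap_mem g' hw'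
  obtain ⟨r, hrP, hrQ, hr, hr0⟩ := sixteen_shape hx (by rw [ap_norm g hw, hwn]) (by omega) (by omega)
  obtain ⟨r', hr'P, hr'Q, hr', hr'0⟩ := sixteen_shape hy (by rw [ap_norm g' hw', hwn']) (by omega) (by omega)
  obtain ⟨σ, hσ, hs⟩ := Golay24.exists_map_le_five (by norm_num : (3 : ℕ) ≤ 5)
    ⟨![fP, fQ, r], by intro a b; fin_cases a <;> fin_cases b <;> simp_all [eq_comm]⟩
    ⟨![fP, fQ, r'], by intro a b; fin_cases a <;> fin_cases b <;> simp_all [eq_comm]⟩
  have hsP : σ fP = fP := hs 0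
  have hsQ : σ fQ = fQ := hs 1
  have hsr : σ r = r' := hs 2
  obtain ⟨S, hS, hSi⟩ := exists_InC_inter_small (T := {fP, fQ, r'})
    (A := if ap g w r = ap g' w' r' then ∅ else {r'}) (by split <;> simp) (Finset.card_le_three.trans (by norm_num))
  have hSP : fP ∉ S := fun hi => by
    have := (Finset.ext_iff.1 hSi fP).1 (Finset.mem_inter.2 ⟨hi, by simp⟩)
    split_ifs at this <;> simp [hr'P.symm] at this
  have hSQ : fQ ∉ S := fun hi => by
    have := (Finset.ext_iff.1 hSi fQ).1 (Finset.mem_inter.2 ⟨hi, by simp⟩)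
    split_ifs at this <;> simp [hr'Q.symm] at this
  refine coPair_of_readings hv hw hv' hw' hg hg' ⟨signCo S hS * permCo σ hσ, ?_, funext fun i => ?_⟩
  · rw [ap_mul _ _ (e44_mem fP_ne_fQ), perm_e44 hσ fP_ne_fQ, hsP, hsQ]
    funext i
    rw [ap_signCo hS (e44_mem fP_ne_fQ)]
    by_cases hi : i ∈ S
    · have hni : i ≠ fP ∧ i ≠ fQ := ⟨fun e => hSP (e ▸ hi), fun e => hSQ (e ▸ hi)⟩
      simp [e44, hni.1, hni.2]
    · rw [if_neg hi]
  · rw [ap_mul _ _ hx, ap_signCo hS (ap_mem _ hx), ap_permCo hσ hx]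
    have hS' := Finset.ext_iff.1 hSi i
    by_cases e1 : i = fP
    · subst e1
      rw [if_neg hSP, σ.symm_apply_eq.2 hsP.symm]; omega
    by_cases e2 : i = fQ
    · subst e2
      rw [if_neg hSQ, σ.symm_apply_eq.2 hsQ.symm]; omega
    by_cases e3 : i = r'
    · subst e3
      rw [σ.symm_apply_eq.2 hsr.symm]
      split_ifs at hS' with heq
      · have : i ∉ S := fun hi => by simp [hi] at hS'
        rw [if_neg this, heq]
      · have : i ∈ S := by simpa using hS'
        rw [if_pos this]; omega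
    · have h0 : ap g w (σ.symm i) = 0 := hr0 _ (fun e => e1 (by rw [← σ.apply_symm_apply i, e, hsP]))
        (fun e => e2 (by rw [← σ.apply_symm_apply i, e, hsQ])) (fun e => e3 (by rw [← σ.apply_symm_apply i, e, hsr]))
      rw [h0, hr'0 i e1 e2 e3]
      simp

end Cfsg.Agent.Leech
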