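import Cfsg.Agent.Lib.Leech.Gen

set_option autoImplicit false

namespace Cfsg.Agent.Leech
open Cfsg
open scoped symmDiff

theorem sum_e44 (p q : GolayPt) (h : p ≠ q) (x : Vec) : dotInt (e44 p q) x = 4 * x p + 4 * x q := by
  have : ∀ i, e44 p q i * x i = (if i = p then 4 * x i else 0) + if i = q then 4 * x i else 0 := fun i => by
    simp only [e44]
    by_cases h1 : i = p
    · subst h1; simp [h]
    · by_cases h2 : i = q
      · subst h2; simp [h1]
      · simp [h1, h2]
  simp [dotInt, this, Finset.sum_add_distrib]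

theorem twoVec_norm {O : Finset GolayPt} (h8 : O.card = 8) : sqNorm (twoVec O) = 32 := by
  simp only [sqNorm, twoVec, ite_pow, zero_pow two_ne_zero]
  rw [sum_indicator, h8]; norm_num

section Quadratic

variable {Q : ↥leechLattice → ZMod 2}

/-- polar form of a function -/
def pol (Q : ↥leechLattice → ZMod 2) (u v : ↥leechLattice) : ZMod 2 := Q (u + v) + Q u + Q v

/-- hypotheses on an invariant quadratic function on the lattice modulo two -/
structure QHyp (Q : ↥leechLattice → ZMod 2) : Prop where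
  coset : ∀ v w, Q (v + (w + w)) = Q v
  quad : ∀ u v w, Q (u + v + w) + Q u + Q v + Q w = Q (u + v) + Q (u + w) + Q (v + w)
  inv : ∀ (g : ↥Co0) (v : ↥leechLattice), Q (g • v) = Q v

theorem QHyp.zero (H : QHyp Q) : Q 0 = 0 := by
  have := H.quad 0 0 0
  simp only [add_zero] at this
  revert this; generalize Q 0 = a; revert a; decide

theorem pol_comm (u v : ↥leechLattice) : pol Q u v = pol Q v u := by
  rw [pol, pol, add_comm u v]; ring

theorem QHyp.pol_add (H : QHyp Q) (u v w : ↥leechLattice) : pol Q u (v + w) = pol Q u v + pol Q u w := by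
  have h := H.quad u v w
  simp only [pol, ← add_assoc]
  revert h
  generalize Q (u + v + w) = a, Q u = b, Q v = c, Q w = d, Q (u + v) = e, Q (u + w) = f, Q (v + w) = g
  revert a b c d e f g
  decide

theorem QHyp.pol_self (H : QHyp Q) (u : ↥leechLattice) : pol Q u u = 0 := by
  have := H.coset 0 u
  rw [zero_add, H.zero] at this
  rw [pol, this, zero_add, CharTwo.add_self_eq_zero]

theorem QHyp.pol_double (H : QHyp Q) (u v : ↥leechLattice) : pol Q u (v + v) = 0 := by
  rw [H.pol_add, CharTwo.add_self_eq_zero]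

theorem QHyp.pol_neg (H : QHyp Q) (u v : ↥leechLattice) : pol Q u (-v) = pol Q u v := by
  have := H.pol_add u v (-v)
  rw [add_neg_cancel] at this
  have h0 : pol Q u 0 = 0 := by rw [pol, add_zero, H.zero, add_zero, CharTwo.add_self_eq_zero]
  rw [h0] at this
  revert this; generalize pol Q u v = a, pol Q u (-v) = b; revert a b; decide

theorem QHyp.pol_smul (H : QHyp Q) (g : ↥Co0) (u v : ↥leechLattice) : pol Q (g • u) (g • v) = pol Q u v := by
  rw [pol, pol, ← co0_smul_add, H.inv, H.inv, H.inv]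

theorem QHyp.of_coEq (H : QHyp Q) {u v : ↥leechLattice} (h : CoEq (u : Vec) (v : Vec)) : Q u = Q v := by
  obtain ⟨g, hg⟩ := h
  rw [ap_coe] at hg
  rw [← Subtype.ext hg, H.inv]

theorem QHyp.of_norm32 (H : QHyp Q) {u v : ↥leechLattice} (hu : sqNorm (u : Vec) = 32) (hv : sqNorm (v : Vec) = 32) :
    Q u = Q v := H.of_coEq (coEq_of_norm32 u.2 v.2 hu hv)

theorem QHyp.of_norm64 (H : QHyp Q) {u v : ↥leechLattice} (hu : sqNorm (u : Vec) = 64) (hv : sqNorm (v : Vec) = 64) :
    Q u = Q v := H.of_coEq (coEq_of_norm64 u.2 v.2 hu hv)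

/-- the pair vector as a lattice element -/
def pairL (p q : GolayPt) (h : p ≠ q) : ↥leechLattice := ⟨e44 p q, e44_mem h⟩

theorem pairL_add_norm {a b c d : GolayPt} (hab : a ≠ b) (hcd : c ≠ d) (hac : a ≠ c) (had : a ≠ d) (hbc : b ≠ c)
    (hbd : b ≠ d) : sqNorm ((pairL a b hab + pairL c d hcd : ↥leechLattice) : Vec) = 64 := by
  show sqNorm (e44 a b + e44 c d) = 64
  rw [sqNorm_add, e44_norm hab, e44_norm hcd, sum_e44 a b hab]
  simp [e44, hac, had, hbc, hbd]

/-- the values on short vectors -/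
theorem QHyp.short_zero (H : QHyp Q) :
    (∀ v : ↥leechLattice, sqNorm (v : Vec) = 32 → Q v = 0) ∧
    (∀ v : ↥leechLattice, sqNorm (v : Vec) = 64 → Q v = 0) := by
  obtain ⟨S, -, hS⟩ := Finset.exists_subset_card_eq (s := (Finset.univ : Finset GolayPt)) (n := 5)
    (by rw [Finset.card_univ, card_pt]; norm_num)
  obtain ⟨O, hO, hO8, -⟩ := InC_five hS
  obtain ⟨e⟩ : Nonempty (Fin 8 ≃ ↥O) := ⟨(O.equivFinOfCardEq hO8).symm⟩
  set f : Fin 8 → GolayPt := fun i => (e i : GolayPt) with hf
  have finj : ∀ {i j : Fin 8}, i ≠ j → f i ≠ f j := fun h he => h (e.injective (Subtype.ext he))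
  obtain ⟨q, hq⟩ : (Finset.univ \ O).Nonempty := Finset.card_pos.1 (by
    rw [Finset.card_sdiff_of_subset (Finset.subset_univ _), Finset.card_univ, card_pt, hO8]; norm_num)
  have hqf : ∀ i, q ≠ f i := fun i h => (Finset.mem_sdiff.1 hq).2 (h ▸ (e i).2)
  let T : ↥leechLattice := ⟨twoVec O, (mem_leech_iff _).2 ⟨0, (twoVec_latM hO).1⟩⟩
  set P01 := pairL (f 0) (f 1) (finj (by decide))
  set P23 := pairL (f 2) (f 3) (finj (by decide))
  set P45 := pairL (f 4) (f 5) (finj (by decide))
  set P67 := pairL (f 6) (f 7) (finj (by decide))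
  have hTT : P01 + P23 + P45 + P67 = T + T := Subtype.ext (funext fun k => by
    show e44 (f 0) (f 1) k + e44 (f 2) (f 3) k + e44 (f 4) (f 5) k + e44 (f 6) (f 7) k = twoVec O k + twoVec O k
    simp only [e44, twoVec]
    by_cases hk : k ∈ O
    · obtain ⟨i, hi⟩ := e.surjective ⟨k, hk⟩
      have hki : k = f i := by rw [hf]; simp [hi]
      subst hki
      rw [if_pos hk]
      have hiff : ∀ j, f i = f j ↔ i = j := fun j => ⟨fun h => by_contra fun hne => finj hne h, congrArg f⟩
      simp only [hiff]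
      fin_cases i <;> simp
    · have : ∀ j, k ≠ f j := fun j h => hk (h ▸ (e j).2)
      simp [hk, this])
  set a := Q P67 with ha
  set b := Q (⟨e8 none, e8_mem none⟩ : ↥leechLattice) with hb
  have hm : ∀ v : ↥leechLattice, sqNorm (v : Vec) = 32 → Q v = a := fun v hv =>
    H.of_norm32 hv (e44_norm (finj (by decide)))
  have h64 : ∀ v : ↥leechLattice, sqNorm (v : Vec) = 64 → Q v = b := fun v hv => H.of_norm64 hv (e8_norm none)
  have hdis : ∀ (c d c' d' : GolayPt) (h : c ≠ d) (h' : c' ≠ d'), c ≠ c' → c ≠ d' → d ≠ c' → d ≠ d' →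
      pol Q (pairL c d h) (pairL c' d' h') = b := fun c d c' d' h h' x1 x2 x3 x4 => by
    rw [pol, h64 _ (pairL_add_norm h h' x1 x2 x3 x4), hm _ (e44_norm h), hm _ (e44_norm h'), add_assoc,
      CharTwo.add_self_eq_zero, add_zero]
  -- three pairs in an octad
  have hb0 : b = 0 := by
    have h1 : Q (P01 + P23 + P45) = a := by
      have : P01 + P23 + P45 = -P67 + (T + T) := by rw [← hTT]; abel
      rw [this, H.coset]
      exact hm _ (by show sqNorm (-(e44 (f 6) (f 7))) = 32; rw [sqNorm_neg, e44_norm (finj (by decide))])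
    have h2 := H.quad P01 P23 P45
    rw [h1, hm P01 (e44_norm (finj (by decide))), hm P23 (e44_norm (finj (by decide))),
      hm P45 (e44_norm (finj (by decide))),
      h64 _ (pairL_add_norm (finj (by decide)) (finj (by decide)) (finj (by decide)) (finj (by decide)) (finj (by decide)) (finj (by decide))),
      h64 _ (pairL_add_norm (finj (by decide)) (finj (by decide)) (finj (by decide)) (finj (by decide)) (finj (by decide)) (finj (by decide))),
      h64 _ (pairL_add_norm (finj (by decide)) (finj (by decide)) (finj (by decide)) (finj (by decide)) (finj (by decide)) (finj (by decide)))] at h2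
    revert h2; generalize a = x, b = y; revert x y; decide
  -- a pair leaving the octad
  have ha0 : a = 0 := by
    set X := pairL (f 0) q (hqf 0).symm
    have h0 := H.pol_double X T
    rw [← hTT, H.pol_add, H.pol_add, H.pol_add] at h0
    have h01 : pol Q X P01 = a := by
      have hsub : sqNorm ((X + -P01 : ↥leechLattice) : Vec) = 32 := by
        have e : e44 (f 0) q + -e44 (f 0) (f 1) = d44 q (f 1) := funext fun k => by
          simp only [Pi.add_apply, Pi.neg_apply, e44, d44]
          by_cases h0 : k = f 0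
          · subst h0; simp [Ne.symm (hqf 0), finj (show (0 : Fin 8) ≠ 1 by decide)]
          · by_cases hk : k = q <;> by_cases h1 : k = f 1 <;> simp [h0, hk, h1, hqf 1] <;>
              simp_all [Ne.symm (hqf 0), Ne.symm (hqf 1)]
        show sqNorm (e44 (f 0) q + -e44 (f 0) (f 1)) = 32
        rw [e, d44_norm (hqf 1)]
      rw [← H.pol_neg, pol, hm _ hsub, hm X (e44_norm _),
        hm (-P01) (by show sqNorm (-(e44 (f 0) (f 1))) = 32; rw [sqNorm_neg, e44_norm (finj (by decide))]),
        CharTwo.add_self_eq_zero, zero_add]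
      exact (hqf 0).symm
    rw [h01, hdis _ _ _ _ _ _ (finj (by decide)) (finj (by decide)) (hqf _) (hqf _),
      hdis _ _ _ _ _ _ (finj (by decide)) (finj (by decide)) (hqf _) (hqf _),
      hdis _ _ _ _ _ _ (finj (by decide)) (finj (by decide)) (hqf _) (hqf _), hb0] at h0
    simpa using h0
  exact ⟨fun v hv => by rw [hm v hv, ha0], fun v hv => by rw [h64 v hv, hb0]⟩

theorem QHyp.pol_min (H : QHyp Q) {u v : ↥leechLattice} (hu : sqNorm (u : Vec) = 32) (hv : sqNorm (v : Vec) = 32)
    (hd : (16 : ℤ) ∣ dotInt (u : Vec) (v : Vec)) : pol Q u v = 0 := by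
  obtain ⟨h32, h64⟩ := H.short_zero
  have key : ∀ w : ↥leechLattice, sqNorm (w : Vec) = 32 → (16 : ℤ) ∣ dotInt (u : Vec) (w : Vec) →
      dotInt (u : Vec) (w : Vec) ≤ 0 → pol Q u w = 0 := fun w hw hd hle => by
    have he : sqNorm ((u + w : ↥leechLattice) : Vec) = 64 + 2 * dotInt (u : Vec) (w : Vec) := by
      rw [AddSubgroup.coe_add, sqNorm_add, hu, hw]; ring
    have hnn := sqNorm_nonneg ((u + w : ↥leechLattice) : Vec)
    have hq : Q (u + w) = 0 := by
      by_cases h0 : ((u + w : ↥leechLattice) : Vec) = 0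
      · rw [show u + w = 0 from Subtype.ext h0, H.zero]
      · have := sqNorm_min (u + w).2 h0
        rcases (show sqNorm ((u + w : ↥leechLattice) : Vec) = 32 ∨ sqNorm ((u + w : ↥leechLattice) : Vec) = 64 by omega)
          with h | h
        · exact h32 _ h
        · exact h64 _ h
    rw [pol, hq, h32 u hu, h32 w hw, add_zero, add_zero]
  by_cases hle : dotInt (u : Vec) (v : Vec) ≤ 0
  · exact key v hv hd hle
  · have hneg : dotInt (u : Vec) ((-v : ↥leechLattice) : Vec) = -dotInt (u : Vec) (v : Vec) := by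
      rw [AddSubgroup.coe_neg, dot_comm, dot_neg_left, dot_comm]
    rw [← H.pol_neg]
    exact key (-v) (by rw [AddSubgroup.coe_neg, sqNorm_neg, hv]) (by rw [hneg]; exact dvd_neg.2 hd) (by rw [hneg]; omega)

theorem dotLdiv_add (u v w : ↥leechLattice) :
    dotInt (u : Vec) ((v + w : ↥leechLattice) : Vec) / 8 = dotInt (u : Vec) (v : Vec) / 8 + dotInt (u : Vec) (w : Vec) / 8 := by
  rw [← Int.add_ediv_of_dvd_left (dot_eight u.2 v.2)]
  congr 1
  simp [dotInt, mul_add, Finset.sum_add_distrib]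

set_option maxHeartbeats 1600000 in
theorem QHyp.pol_eq (H : QHyp Q) : ∃ c : ZMod 2, ∀ u v : ↥leechLattice, sqNorm (u : Vec) = 32 →
    pol Q u v = c * ((dotInt (u : Vec) (v : Vec) / 8 : ℤ) : ZMod 2) := by
  obtain ⟨S, -, hS⟩ := Finset.exists_subset_card_eq (s := (Finset.univ : Finset GolayPt)) (n := 5)
    (by rw [Finset.card_univ, card_pt]; norm_num)
  obtain ⟨O₀, hO₀, hO₀8, -⟩ := InC_five hS
  obtain ⟨p, hp⟩ : O₀.Nonempty := Finset.card_pos.1 (by omega)
  obtain ⟨q, hq'⟩ : (Finset.univ \ O₀).Nonempty := Finset.card_pos.1 (by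
    rw [Finset.card_sdiff_of_subset (Finset.subset_univ _), Finset.card_univ, card_pt, hO₀8]; norm_num)
  have hq : q ∉ O₀ := (Finset.mem_sdiff.1 hq').2
  have hpq : p ≠ q := fun h => hq (h ▸ hp)
  set U := pairL p q hpq with hU
  let oct : ∀ O, InC O → ↥leechLattice := fun O hO => ⟨twoVec O, (mem_leech_iff _).2 ⟨0, (twoVec_latM hO).1⟩⟩
  have hdotO : ∀ O hO, dotInt (U : Vec) (oct O hO : Vec) = (if p ∈ O then 8 else 0) + if q ∈ O then 8 else 0 :=
    fun O hO => by
      show dotInt (e44 p q) (twoVec O) = _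
      rw [sum_e44 p q hpq]; simp only [twoVec]; split_ifs <;> norm_num
  have hperm : ∀ (σ : Equiv.Perm GolayPt) (hσ : σ ∈ M24) O (hO : InC O),
      permCo σ hσ • oct O hO = oct (O.image σ) ((M24_map hσ O).2 hO) := fun σ hσ O hO => Subtype.ext (funext fun k => by
    rw [← ap_coe]
    show ap (permCo σ hσ) (twoVec O) k = twoVec (O.image σ) k
    rw [ap_permCo hσ ((mem_leech_iff _).2 ⟨0, (twoVec_latM hO).1⟩)]
    simp only [twoVec]
    refine if_congr ⟨fun h => Finset.mem_image.2 ⟨_, h, σ.apply_symm_apply k⟩, fun h => ?_⟩ rfl rfl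
    obtain ⟨j, hj, rfl⟩ := Finset.mem_image.1 h
    simpa using hj)
  have hfix : ∀ (σ : Equiv.Perm GolayPt) (hσ : σ ∈ M24), (σ p = p ∧ σ q = q ∨ σ p = q ∧ σ q = p) →
      permCo σ hσ • U = U := fun σ hσ h => Subtype.ext (by
    rw [← ap_coe]
    show ap (permCo σ hσ) (e44 p q) = e44 p q
    rw [perm_e44 hσ hpq]
    rcases h with ⟨h1, h2⟩ | ⟨h1, h2⟩ <;> rw [h1, h2]
    funext k; simp only [e44]; exact if_congr or_comm rfl rfl)
  set c := pol Q U (oct O₀ hO₀) with hc
  have hone : ∀ O hO, O.card = 8 → p ∈ O → q ∉ O → pol Q U (oct O hO) = c := by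
    intro O hO hO8 hpO hqO
    obtain ⟨A, hA, hA3⟩ := Finset.exists_subset_card_eq (s := O₀.erase p) (n := 3) (by
      rw [Finset.card_erase_of_mem hp]; omega)
    obtain ⟨B, hB, hB3⟩ := Finset.exists_subset_card_eq (s := O.erase p) (n := 3) (by
      rw [Finset.card_erase_of_mem hpO]; omega)
    obtain ⟨a, b, d, hab, had, hbd, rfl⟩ := Finset.card_eq_three.1 hA3
    obtain ⟨a', b', d', hab', had', hbd', rfl⟩ := Finset.card_eq_three.1 hB3
    simp only [Finset.insert_subset_iff, Finset.singleton_subset_iff, Finset.mem_erase] at hA hB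
    obtain ⟨⟨hap, haO⟩, ⟨hbp, hbO⟩, hdp, hdO⟩ := hA
    obtain ⟨⟨hap', haO'⟩, ⟨hbp', hbO'⟩, hdp', hdO'⟩ := hB
    have hne : ∀ {O' : Finset GolayPt} {x : GolayPt}, x ∈ O' → q ∉ O' → x ≠ q := fun h h' e => h' (e ▸ h)
    obtain ⟨σ, hσ, hs⟩ := Golay24.exists_map_le_five (le_refl 5)
      ⟨![p, q, a, b, d], by
        intro i j; fin_cases i <;> fin_cases j <;> simp [hpq, hpq.symm, hab, hab.symm, had, had.symm, hbd, hbd.symm, hap, Ne.symm hap, hbp, Ne.symm hbp, hdp, Ne.symm hdp, hne haO hq, Ne.symm (hne haO hq), hne hbO hq, Ne.symm (hne hbO hq), hne hdO hq, Ne.symm (hne hdO hq)]⟩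
      ⟨![p, q, a', b', d'], by
        intro i j; fin_cases i <;> fin_cases j <;> simp [hpq, hpq.symm, hab', hab'.symm, had', had'.symm, hbd', hbd'.symm, hap', Ne.symm hap', hbp', Ne.symm hbp', hdp', Ne.symm hdp', hne haO' hqO, Ne.symm (hne haO' hqO), hne hbO' hqO, Ne.symm (hne hbO' hqO), hne hdO' hqO, Ne.symm (hne hdO' hqO)]⟩
    have s0 : σ p = p := hs 0
    have s1 : σ q = q := hs 1
    have s2 : σ a = a' := hs 2
    have s3 : σ b = b' := hs 3
    have s4 : σ d = d' := hs 4
    set O₂ := O₀.image σ with hO₂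
    have hO₂C : InC O₂ := (M24_map hσ O₀).2 hO₀
    have hc2 : pol Q U (oct O₂ hO₂C) = c := by
      rw [hc, ← H.pol_smul (permCo σ hσ) U (oct O₀ hO₀), hperm σ hσ O₀ hO₀, hfix σ hσ (Or.inl ⟨s0, s1⟩)]
    have hO₂8 : O₂.card = 8 := by rw [hO₂, Finset.card_image_of_injective _ σ.injective, hO₀8]
    have hmem : ∀ x y : GolayPt, σ x = y → x ∈ O₀ → y ∈ O₂ := fun x y h hx => h ▸ Finset.mem_image_of_mem σ hx
    by_cases heq : O₂ = O
    · subst heq; exact hc2
    have hsd := InC_symmDiff hO₂C hO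
    have hne0 : O₂ ∆ O ≠ ∅ := fun h => heq (symmDiff_eq_bot.1 h)
    have hsub : ({p, a', b', d'} : Finset GolayPt) ⊆ O₂ ∩ O := by
      simp only [Finset.insert_subset_iff, Finset.singleton_subset_iff, Finset.mem_inter]
      exact ⟨⟨hmem p p s0 hp, hpO⟩, ⟨hmem a a' s2 haO, haO'⟩, ⟨hmem b b' s3 hbO, hbO'⟩, hmem d d' s4 hdO, hdO'⟩
    have h4c : ({p, a', b', d'} : Finset GolayPt).card = 4 := by
      simp [Finset.card_insert_of_notMem, Ne.symm hap', Ne.symm hbp', Ne.symm hdp', hab', had', hbd']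
    have hcard := card_symmDiff_add O₂ O
    have hge := Finset.card_le_card hsub
    have hsd8 : (O₂ ∆ O).card = 8 := by
      have := Finset.card_pos.2 (Finset.nonempty_iff_ne_empty.2 hne0)
      rcases InC_weights hsd with h | h | h | h | h <;> omega
    have hinter : O₂ ∩ O = {p, a', b', d'} := (Finset.eq_of_subset_of_card_le hsub (by omega)).symm
    have hpa : p ≠ a' := Ne.symm hap'
    have hsum : oct O₂ hO₂C + oct O hO = oct (O₂ ∆ O) hsd + (pairL p a' hpa + pairL b' d' hbd') :=
      Subtype.ext (funext fun k => by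
        show twoVec O₂ k + twoVec O k = twoVec (O₂ ∆ O) k + (e44 p a' k + e44 b' d' k)
        have hk : k ∈ O₂ ∩ O ↔ k = p ∨ k = a' ∨ k = b' ∨ k = d' := by rw [hinter]; simp
        simp only [twoVec, e44, Finset.mem_symmDiff]
        rw [Finset.mem_inter] at hk
        by_cases h1 : k = p
        · subst h1
          simp [(hk.2 (Or.inl rfl)).1, (hk.2 (Or.inl rfl)).2, hpa, Ne.symm hbp', Ne.symm hdp']
        by_cases h2 : k = a'
        · subst h2
          simp [(hk.2 (Or.inr (Or.inl rfl))).1, (hk.2 (Or.inr (Or.inl rfl))).2, h1, hab', had']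
        by_cases h3 : k = b'
        · subst h3
          simp [(hk.2 (Or.inr (Or.inr (Or.inl rfl)))).1, (hk.2 (Or.inr (Or.inr (Or.inl rfl)))).2, h1, h2]
        by_cases h4 : k = d'
        · subst h4
          simp [(hk.2 (Or.inr (Or.inr (Or.inr rfl)))).1, (hk.2 (Or.inr (Or.inr (Or.inr rfl)))).2, h1, h2]
        have hk' : ¬ (k ∈ O₂ ∧ k ∈ O) := fun h => by
          rcases hk.1 h with h' | h' | h' | h'
          exacts [h1 h', h2 h', h3 h', h4 h']
        by_cases h5 : k ∈ O₂
        · have h6 : k ∉ O := fun h => hk' ⟨h5, h⟩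
          simp [h1, h2, h3, h4, h5, h6]
        · simp [h1, h2, h3, h4, h5])
    have hpn : p ∉ O₂ ∆ O := by simp [Finset.mem_symmDiff, hmem p p s0 hp, hpO]
    have hqn : q ∉ O₂ ∆ O := by
      have : q ∉ O₂ := fun h => by
        obtain ⟨x, hx, hxq⟩ := Finset.mem_image.1 h
        exact hq (σ.injective (hxq.trans s1.symm) ▸ hx)
      simp [Finset.mem_symmDiff, this, hqO]
    have h0 := congrArg (pol Q U) hsum
    rw [H.pol_add, H.pol_add, H.pol_add, hc2,
      H.pol_min (u := U) (v := oct (O₂ ∆ O) hsd) (e44_norm hpq) (twoVec_norm hsd8) (by rw [hdotO _ hsd, if_neg hpn, if_neg hqn]; norm_num),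
      H.pol_min (u := U) (v := pairL p a' hpa) (e44_norm hpq) (e44_norm hpa) (by
        show (16 : ℤ) ∣ dotInt (e44 p q) (e44 p a'); rw [sum_e44 p q hpq]; simp only [e44]; split_ifs <;> norm_num),
      H.pol_min (u := U) (v := pairL b' d' hbd') (e44_norm hpq) (e44_norm hbd') (by
        show (16 : ℤ) ∣ dotInt (e44 p q) (e44 b' d'); rw [sum_e44 p q hpq]; simp only [e44]; split_ifs <;> norm_num),
      add_zero, add_zero] at h0
    revert h0; generalize pol Q U (oct O hO) = x, c = y; revert x y; decide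
  have hall : ∀ v : ↥leechLattice, pol Q U v = c * ((dotInt (U : Vec) (v : Vec) / 8 : ℤ) : ZMod 2) := by
    let F : ↥leechLattice →+ ZMod 2 := AddMonoidHom.mk' (fun v => pol Q U v + c * ((dotInt (U : Vec) (v : Vec) / 8 : ℤ) : ZMod 2))
      (fun v w => by rw [H.pol_add, dotLdiv_add, Int.cast_add]; ring)
    have hker : ∀ v : ↥leechLattice, sqNorm (v : Vec) = 32 → (16 : ℤ) ∣ dotInt (U : Vec) (v : Vec) →
        (v : Vec) ∈ F.ker.map leechLattice.subtype := fun v hv hd => ⟨v, by
      show pol Q U v + c * _ = 0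
      rw [H.pol_min (e44_norm hpq) hv hd, (show ((dotInt (U : Vec) (v : Vec) / 8 : ℤ) : ZMod 2) = 0 from
        (ZMod.intCast_zmod_eq_zero_iff_dvd _ 2).2 (by omega)), mul_zero, add_zero], rfl⟩
    obtain ⟨r, hr, hrM⟩ : ∃ r, LatM 1 r ∧ r ∈ F.ker.map leechLattice.subtype := by
      obtain ⟨h1, -, h2⟩ := oddMin_latM
      have hL : oddMin ∈ leechLattice := (mem_leech_iff _).2 ⟨1, h1⟩
      by_cases h4 : (4 : ℤ) ∣ oddMin p + oddMin q
      · refine ⟨oddMin, h1, hker ⟨oddMin, hL⟩ h2 ?_⟩
        show (16 : ℤ) ∣ dotInt (e44 p q) oddMin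
        rw [sum_e44 p q hpq]; omega
      · obtain ⟨s, hs, he⟩ := exists_InC_inter_small (A := {p}) (T := {p, q}) (by simp) (Finset.card_le_two.trans (by norm_num))
        have hps : p ∈ s := (Finset.mem_inter.1 (show p ∈ s ∩ {p, q} by rw [he]; simp)).1
        have hqs : q ∉ s := fun h => hpq (Finset.mem_singleton.1 (he ▸ Finset.mem_inter.2 ⟨h, by simp⟩ : q ∈ ({p} : Finset GolayPt))).symm
        have hm := ap_mem (signCo s hs) hL
        have e1 := ap_signCo hs hL p
        have e2 := ap_signCo hs hL q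
        rw [if_pos hps] at e1
        rw [if_neg hqs] at e2
        have := h1.1 p; have := h1.1 q
        refine ⟨_, latM_of_mem hm (i := p) (by omega), hker ⟨_, hm⟩ (by
          show sqNorm (ap _ oddMin) = 32
          rw [ap_norm _ hL, h2]) ?_⟩
        show (16 : ℤ) ∣ dotInt (e44 p q) (ap (signCo s hs) oddMin)
        rw [sum_e44 p q hpq]; omega
    have hM : leechLattice ≤ F.ker.map leechLattice.subtype := by
      refine le_of_gens (fun a b hab => ⟨hker (pairL a b hab) (e44_norm hab) ?_, hker ⟨d44 a b, d44_mem hab⟩ (d44_norm hab) ?_⟩)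
        (fun O hO hO8 => ?_) hr hrM
      · show (16 : ℤ) ∣ dotInt (e44 p q) (e44 a b)
        rw [sum_e44 p q hpq]; simp only [e44]; split_ifs <;> norm_num
      · show (16 : ℤ) ∣ dotInt (e44 p q) (d44 a b)
        rw [sum_e44 p q hpq]; simp only [d44]; split_ifs <;> norm_num
      · by_cases hpO : p ∈ O <;> by_cases hqO : q ∈ O
        rotate_left
        · refine ⟨oct O hO, ?_, rfl⟩
          show pol Q U _ + c * _ = 0
          rw [hone O hO hO8 hpO hqO, hdotO O hO, if_pos hpO, if_neg hqO]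
          norm_num [CharTwo.add_self_eq_zero]
        · refine ⟨oct O hO, ?_, rfl⟩
          show pol Q U _ + c * _ = 0
          obtain ⟨σ, hσ, hs⟩ := Golay24.exists_map_le_five (show 2 ≤ 5 by norm_num)
            ⟨![p, q], by intro i j; fin_cases i <;> fin_cases j <;> simp [hpq, hpq.symm]⟩
            ⟨![q, p], by intro i j; fin_cases i <;> fin_cases j <;> simp [hpq, hpq.symm]⟩
          have s0 : σ p = q := hs 0
          have s1 : σ q = p := hs 1
          have := H.pol_smul (permCo σ hσ) U (oct O hO)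
          rw [hperm σ hσ O hO, hfix σ hσ (Or.inr ⟨s0, s1⟩), hone _ ((M24_map hσ O).2 hO) (by rw [Finset.card_image_of_injective _ σ.injective, hO8])
            (Finset.mem_image.2 ⟨q, hqO, s1⟩) (fun h => by
              obtain ⟨x, hx, hxq⟩ := Finset.mem_image.1 h
              exact hpO (σ.injective (hxq.trans s0.symm) ▸ hx))] at this
          rw [← this, hdotO O hO, if_neg hpO, if_pos hqO]
          norm_num [CharTwo.add_self_eq_zero]
        all_goals
          refine hker (oct O hO) (twoVec_norm hO8) ?_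
          rw [hdotO O hO]; simp [hpO, hqO]
    intro v
    obtain ⟨w, hw, hwv⟩ := hM v.2
    have : w = v := Subtype.ext hwv
    subst this
    have hw' : pol Q U w + c * _ = 0 := hw
    exact CharTwo.add_eq_zero.1 hw'
  refine ⟨c, fun u v hu => ?_⟩
  obtain ⟨g, hg⟩ := coEq_of_norm32 u.2 U.2 hu (e44_norm hpq)
  rw [ap_coe] at hg
  rw [← H.pol_smul g u v, Subtype.ext hg, hall, ← co0_smul_dot g u v, Subtype.ext hg]

theorem QHyp.unique (H : QHyp Q) (hne : ∃ v, Q v ≠ 0) (v : ↥leechLattice) :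
    Q v = ((sqNorm (v : Vec) / 16 : ℤ) : ZMod 2) := by
  obtain ⟨c, hc⟩ := H.pol_eq
  obtain ⟨h32, -⟩ := H.short_zero
  have hall : ∀ v : ↥leechLattice, Q v = c * ((sqNorm (v : Vec) / 16 : ℤ) : ZMod 2) := by
    have hpol : ∀ v u : ↥leechLattice, pol Q v u = c * ((dotInt (v : Vec) (u : Vec) / 8 : ℤ) : ZMod 2) := fun v u => by
      have hmem : leechLattice ≤ ((AddMonoidHom.mk' (fun w => pol Q u w + c * ((dotInt (u : Vec) (w : Vec) / 8 : ℤ) : ZMod 2))
          (fun a b => by rw [H.pol_add, dotLdiv_add, Int.cast_add]; ring)).ker.map leechLattice.subtype) := by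
        refine le_of_min fun x hx hxn => ⟨⟨x, hx⟩, ?_, rfl⟩
        show pol Q u _ + c * _ = 0
        rw [pol_comm, hc ⟨x, hx⟩ u hxn, dot_comm, CharTwo.add_self_eq_zero]
      obtain ⟨w, hw, hwv⟩ := hmem v.2
      have : w = v := Subtype.ext hwv
      subst this
      have hw' : pol Q u w + c * _ = 0 := hw
      rw [pol_comm, dot_comm]
      exact CharTwo.add_eq_zero.1 hw'
    let G : ↥leechLattice →+ ZMod 2 := AddMonoidHom.mk' (fun w => Q w + c * ((sqNorm (w : Vec) / 16 : ℤ) : ZMod 2))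
      (fun a b => by
        have hp := hpol a b
        rw [pol] at hp
        have hs : sqNorm ((a + b : ↥leechLattice) : Vec) / 16 =
            sqNorm (a : Vec) / 16 + dotInt (a : Vec) (b : Vec) / 8 + sqNorm (b : Vec) / 16 := by
          have := sqNorm_sixteen a.2; have := sqNorm_sixteen b.2; have := dot_eight a.2 b.2
          rw [AddSubgroup.coe_add, sqNorm_add]; omega
        rw [hs, Int.cast_add, Int.cast_add]
        revert hp
        generalize Q (a + b) = x1, Q a = x2, Q b = x3, ((sqNorm (a : Vec) / 16 : ℤ) : ZMod 2) = x4,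
          ((sqNorm (b : Vec) / 16 : ℤ) : ZMod 2) = x5, ((dotInt (a : Vec) (b : Vec) / 8 : ℤ) : ZMod 2) = x6
        revert x1 x2 x3 x4 x5 x6
        generalize c = y
        revert y
        decide)
    intro v
    obtain ⟨w, hw, hwv⟩ := (le_of_min (M := G.ker.map leechLattice.subtype) fun x hx hxn => ⟨⟨x, hx⟩, by
      show Q _ + c * _ = 0
      rw [h32 _ hxn, hxn]; norm_num
      exact Or.inr rfl, rfl⟩) v.2
    have : w = v := Subtype.ext hwv
    subst this
    have hw' : Q w + c * _ = 0 := hw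
    exact CharTwo.add_eq_zero.1 hw'
  have hc1 : c = 1 := by
    obtain ⟨w, hw⟩ := hne
    rcases (show ∀ a : ZMod 2, a = 0 ∨ a = 1 by decide) c with h | h
    · exact absurd (by rw [hall w, h, zero_mul]) hw
    · exact h
  rw [hall v, hc1, one_mul]

end Quadratic

end Cfsg.Agent.Leech
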