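import Cfsg.Agent.Lib.Leech.Action

set_option autoImplicit false

namespace Cfsg.Agent.Leech
open Cfsg
open scoped symmDiff

theorem InC_octad_unique {O O' : Finset GolayPt} (h : InC O) (h' : InC O') (hc : O.card = 8) (hc' : O'.card = 8)
    (h5 : 5 ≤ (O ∩ O').card) : O = O' := by
  have hw := InC_weights (InC_symmDiff h h')
  have e : (O ∆ O').card + 2 * (O ∩ O').card = 16 := by
    rw [symmDiff_def, Finset.sup_eq_union, Finset.card_union_of_disjoint disjoint_sdiff_sdiff]
    have a1 := Finset.card_sdiff_add_card_inter O O'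
    have a2 := Finset.card_sdiff_add_card_inter O' O
    rw [Finset.inter_comm O' O] at a2
    omega
  have h0 : (O ∆ O').card = 0 := by
    obtain ⟨r, hr⟩ := InC_inter_even h h'
    omega
  exact symmDiff_eq_bot.1 (Finset.card_eq_zero.1 h0)

/-- a sextet, as a labelling of the 24 points by six tetrads -/
structure Sx where
  idx : GolayPt → Fin 6
  card_fib : ∀ j, (Finset.univ.filter fun i => idx i = j).card = 4
  pair : ∀ j k, j ≠ k → InC (Finset.univ.filter fun i => idx i = j ∨ idx i = k)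

namespace Sx

/-- tetrad `j` -/
def tet (X : Sx) (j : Fin 6) : Finset GolayPt := Finset.univ.filter fun i => X.idx i = j

theorem mem_tet (X : Sx) {i : GolayPt} {j : Fin 6} : i ∈ X.tet j ↔ X.idx i = j := by simp [tet]

theorem tet_card (X : Sx) (j : Fin 6) : (X.tet j).card = 4 := X.card_fib j

theorem tet_disjoint (X : Sx) {j k : Fin 6} (h : j ≠ k) : Disjoint (X.tet j) (X.tet k) := by
  rw [Finset.disjoint_left]
  intro i hi hi'
  rw [mem_tet] at hi hi'
  exact h (hi.symm.trans hi')

theorem InC_pair (X : Sx) {j k : Fin 6} (h : j ≠ k) : InC (X.tet j ∪ X.tet k) := by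
  have : X.tet j ∪ X.tet k = Finset.univ.filter fun i => X.idx i = j ∨ X.idx i = k := by
    ext i; simp [tet]
  rw [this]; exact X.pair j k h

theorem parity (X : Sx) {S : Finset GolayPt} (hS : InC S) (j k : Fin 6) :
    Even ((S ∩ X.tet j).card + (S ∩ X.tet k).card) := by
  by_cases h : j = k
  · subst h; exact ⟨_, rfl⟩
  · have := InC_inter_even hS (X.InC_pair h)
    rwa [Finset.inter_union_distrib_left, Finset.card_union_of_disjoint] at this
    exact (X.tet_disjoint h).mono Finset.inter_subset_right Finset.inter_subset_right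

/-- union of a set of tetrads -/
def unionT (X : Sx) (J : Finset (Fin 6)) : Finset GolayPt := Finset.univ.filter fun i => X.idx i ∈ J

theorem mem_unionT (X : Sx) {J : Finset (Fin 6)} {i : GolayPt} : i ∈ X.unionT J ↔ X.idx i ∈ J := by
  simp [unionT]

theorem InC_unionT_aux (X : Sx) (J : Finset (Fin 6)) :
    (Even J.card → InC (X.unionT J)) ∧ (¬ Even J.card → InC (X.unionT J ∆ X.tet 0)) := by
  induction J using Finset.induction_on with
  | empty =>
    refine ⟨fun _ => ?_, fun h => absurd (by simp) h⟩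
    have : X.unionT ∅ = ∅ := by ext i; simp [unionT]
    rw [this]; exact InC_empty
  | insert j J hj ih =>
    have e : X.unionT (insert j J) = X.unionT J ∆ X.tet j := by
      ext i
      simp only [mem_unionT, Finset.mem_insert, Finset.mem_symmDiff, mem_tet]
      by_cases h : X.idx i = j <;> simp [h, hj]
    have hpair : InC (X.tet j ∆ X.tet 0) := by
      by_cases h : j = 0
      · rw [h, symmDiff_self]; exact InC_empty
      · rw [Disjoint.symmDiff_eq_sup (X.tet_disjoint h)]; exact X.InC_pair h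
    rw [Finset.card_insert_of_notMem hj, e, Nat.even_add_one]
    constructor
    · intro h
      have h2 := InC_symmDiff (ih.2 h) hpair
      have e2 : X.unionT J ∆ X.tet 0 ∆ (X.tet j ∆ X.tet 0) = X.unionT J ∆ X.tet j := by
        rw [symmDiff_comm (X.tet j), symmDiff_assoc, ← symmDiff_assoc (X.tet 0), symmDiff_self, bot_symmDiff]
      rwa [e2] at h2
    · intro h
      rw [symmDiff_assoc]
      exact InC_symmDiff (ih.1 (not_not.1 h)) hpair

theorem InC_unionT (X : Sx) {J : Finset (Fin 6)} (h : Even J.card) : InC (X.unionT J) :=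
  (X.InC_unionT_aux J).1 h

theorem sum_fiber (X : Sx) (f : GolayPt → ℤ) : ∑ i, f i = ∑ j, ∑ i ∈ X.tet j, f i :=
  (Finset.sum_fiberwise Finset.univ X.idx f).symm

end Sx

/-- every 4-set is a tetrad of a sextet -/
theorem exists_sx (T : Finset GolayPt) (hT : T.card = 4) : ∃ X : Sx, X.tet 0 = T := by
  classical
  have hex : ∀ p, p ∉ T → ∃ O, InC O ∧ O.card = 8 ∧ insert p T ⊆ O := fun p hp =>
    InC_five (by rw [Finset.card_insert_of_notMem hp, hT])
  choose O hO1 hO2 hO3 using hex
  -- the class of a point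
  obtain ⟨cl, hclT, hclO⟩ : ∃ cl : GolayPt → Finset GolayPt, (∀ p, p ∈ T → cl p = T) ∧
      ∀ p (hp : p ∉ T), cl p = O p hp \ T :=
    ⟨fun p => if hp : p ∈ T then T else O p hp \ T, fun p hp => dif_pos hp, fun p hp => dif_neg hp⟩
  have hcl_mem : ∀ p, p ∈ cl p := fun p => by
    by_cases hp : p ∈ T
    · rw [hclT p hp]; exact hp
    · rw [hclO p hp]; exact Finset.mem_sdiff.2 ⟨hO3 p hp (Finset.mem_insert_self p T), hp⟩
  have hsub : ∀ p (hp : p ∉ T), T ⊆ O p hp := fun p hp =>
    (Finset.subset_insert p T).trans (hO3 p hp)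
  have hcl_card : ∀ p, (cl p).card = 4 := fun p => by
    by_cases hp : p ∈ T
    · rw [hclT p hp, hT]
    · rw [hclO p hp, Finset.card_sdiff_of_subset (hsub p hp), hO2, hT]
  have hcl_eq : ∀ p q, q ∈ cl p → cl q = cl p := fun p q hq => by
    by_cases hp : p ∈ T
    · rw [hclT p hp] at hq
      rw [hclT p hp, hclT q hq]
    · have hq' : q ∈ O p hp ∧ q ∉ T := by rw [hclO p hp] at hq; exact Finset.mem_sdiff.1 hq
      have : O q hq'.2 = O p hp := by
        refine InC_octad_unique (hO1 _ _) (hO1 _ _) (hO2 _ _) (hO2 _ _) ?_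
        have : insert q T ⊆ O q hq'.2 ∩ O p hp :=
          Finset.subset_inter (hO3 _ _) (Finset.insert_subset hq'.1 (hsub p hp))
        calc 5 = (insert q T).card := by rw [Finset.card_insert_of_notMem hq'.2, hT]
          _ ≤ _ := Finset.card_le_card this
      rw [hclO p hp, hclO q hq'.2, this]
  obtain ⟨K, hKdef⟩ : ∃ K, K = Finset.univ.image cl := ⟨_, rfl⟩
  have hKmem : ∀ p, cl p ∈ K := fun p => hKdef ▸ Finset.mem_image_of_mem _ (Finset.mem_univ _)
  have hKex : ∀ b ∈ K, ∃ p, cl p = b := fun b hb => by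
    rw [hKdef] at hb
    obtain ⟨p, -, hp⟩ := Finset.mem_image.1 hb
    exact ⟨p, hp⟩
  have hfib : ∀ p, (Finset.univ.filter fun q => cl q = cl p) = cl p := fun p => by
    ext q
    simp only [Finset.mem_filter, Finset.mem_univ, true_and]
    exact ⟨fun h => h ▸ hcl_mem q, hcl_eq p q⟩
  have hK : K.card = 6 := by
    have h : (Finset.univ : Finset GolayPt).card = ∑ b ∈ K, (Finset.univ.filter fun q => cl q = b).card := by
      rw [hKdef]; exact Finset.card_eq_sum_card_image cl _
    have h4 : ∀ b ∈ K, (Finset.univ.filter fun q => cl q = b).card = 4 := fun b hb => by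
      obtain ⟨p, rfl⟩ := hKex b hb
      rw [hfib, hcl_card]
    rw [Finset.sum_congr rfl h4, Finset.sum_const, Finset.card_univ, card_pt, smul_eq_mul] at h
    omega
  obtain ⟨t, ht⟩ : T.Nonempty := Finset.card_pos.1 (by omega)
  obtain ⟨e, he⟩ : ∃ e : {b // b ∈ K} ≃ Fin 6, e ⟨cl t, hKmem t⟩ = 0 :=
    ⟨(K.equivFin.trans (finCongr hK)).trans (Equiv.swap ((K.equivFin.trans (finCongr hK)) ⟨cl t, hKmem t⟩) 0),
      by rw [Equiv.trans_apply, Equiv.swap_apply_left]⟩
  obtain ⟨idx, hidef⟩ : ∃ idx : GolayPt → Fin 6, ∀ p, idx p = e ⟨cl p, hKmem p⟩ :=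
    ⟨fun p => e ⟨cl p, hKmem p⟩, fun p => rfl⟩
  have hidx : ∀ p q, idx p = idx q ↔ cl p = cl q := fun p q => by
    rw [hidef, hidef, e.apply_eq_iff_eq, Subtype.mk.injEq]
  have hsurj : ∀ j, ∃ p, idx p = j := fun j => by
    obtain ⟨p, hp⟩ := hKex _ (e.symm j).2
    refine ⟨p, ?_⟩
    rw [hidef, show (⟨cl p, hKmem p⟩ : {b // b ∈ K}) = e.symm j from Subtype.ext hp, Equiv.apply_symm_apply]
  have hfib' : ∀ p, (Finset.univ.filter fun q => idx q = idx p) = cl p := fun p => by
    simp only [hidx]; exact hfib p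
  have hpairT : ∀ p, p ∉ T → InC (cl t ∪ cl p) ∧ cl p ≠ cl t := fun p hp => by
    have h1 : cl t = T := hclT t ht
    have h2 : cl p = O p hp \ T := hclO p hp
    refine ⟨?_, fun h => hp ?_⟩
    · rw [h1, h2, Finset.union_sdiff_of_subset (hsub p hp)]; exact hO1 p hp
    · rw [← h1, ← h]; exact hcl_mem p
  refine ⟨⟨idx, fun j => ?_, fun j k hjk => ?_⟩, ?_⟩
  · obtain ⟨p, rfl⟩ := hsurj j
    rw [hfib', hcl_card]
  · obtain ⟨p, rfl⟩ := hsurj j
    obtain ⟨q, rfl⟩ := hsurj k
    have hne : cl p ≠ cl q := fun h => hjk ((hidx p q).2 h)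
    have hu : (Finset.univ.filter fun i => idx i = idx p ∨ idx i = idx q) = cl p ∪ cl q := by
      rw [Finset.filter_or, hfib', hfib']
    rw [hu]
    have hdisj : Disjoint (cl p) (cl q) := Finset.disjoint_left.2 fun a ha hb =>
      hne ((hcl_eq p a ha).symm.trans (hcl_eq q a hb))
    by_cases hp : p ∈ T
    · have : cl p = cl t := (hclT p hp).trans (hclT t ht).symm
      have hq : q ∉ T := fun hq => hne ((hclT p hp).trans (hclT q hq).symm)
      rw [this]; exact (hpairT q hq).1
    by_cases hq : q ∈ T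
    · have : cl q = cl t := (hclT q hq).trans (hclT t ht).symm
      rw [this, Finset.union_comm]; exact (hpairT p hp).1
    have h1 := InC_symmDiff (hpairT p hp).1 (hpairT q hq).1
    have e : (cl t ∪ cl p) ∆ (cl t ∪ cl q) = cl p ∪ cl q := by
      ext a
      have d1 : a ∈ cl p → a ∉ cl t := fun ha hb =>
        (hpairT p hp).2 ((hcl_eq p a ha).symm.trans (hcl_eq t a hb))
      have d2 : a ∈ cl q → a ∉ cl t := fun ha hb =>
        (hpairT q hq).2 ((hcl_eq q a ha).symm.trans (hcl_eq t a hb))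
      have d3 : a ∈ cl p → a ∉ cl q := fun ha hb => Finset.disjoint_left.1 hdisj ha hb
      simp only [Finset.mem_symmDiff, Finset.mem_union]
      tauto
    rwa [e] at h1
  · have : idx t = 0 := (hidef t).trans he
    show (Finset.univ.filter fun i => idx i = 0) = T
    rw [← this, hfib']
    exact hclT t ht

/-! ### the sextet automorphism -/

namespace Sx

/-- sum of the coordinates over the tetrad of a point -/
def tsum (X : Sx) (x : Vec) (j : Fin 6) : ℤ := ∑ i ∈ X.tet j, x i

/-- subtract half the tetrad sum, then negate the tetrad 0 -/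
def xi (X : Sx) (x : Vec) : Vec := fun i =>
  if X.idx i = 0 then X.tsum x (X.idx i) / 2 - x i else x i - X.tsum x (X.idx i) / 2

theorem tsum_eq (X : Sx) {m : ℤ} {x : Vec} (h : LatM m x) (j : Fin 6) :
    X.tsum x j = 2 * (2 * m + ∑ i ∈ X.tet j, half m x i) := by
  have : X.tsum x j = ∑ i ∈ X.tet j, (m + 2 * half m x i) := Finset.sum_congr rfl fun i _ => h.eq_half i
  rw [this, Finset.sum_add_distrib, ← Finset.mul_sum, Finset.sum_const, X.tet_card, nsmul_eq_mul]
  push_cast; ring

theorem two_dvd_tsum (X : Sx) {x : Vec} (hx : x ∈ leechLattice) (j : Fin 6) : (2 : ℤ) ∣ X.tsum x j := by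
  obtain ⟨m, hm⟩ := (mem_leech_iff x).1 hx
  exact ⟨_, X.tsum_eq hm j⟩

theorem xi_add (X : Sx) {x y : Vec} (hx : x ∈ leechLattice) (hy : y ∈ leechLattice) :
    X.xi (x + y) = X.xi x + X.xi y := by
  funext i
  have e : X.tsum (x + y) (X.idx i) = X.tsum x (X.idx i) + X.tsum y (X.idx i) := Finset.sum_add_distrib
  have := X.two_dvd_tsum hx (X.idx i)
  have := X.two_dvd_tsum hy (X.idx i)
  simp only [xi, e, Pi.add_apply]
  split <;> omega

theorem tsum_xi (X : Sx) {x : Vec} (hx : x ∈ leechLattice) (j : Fin 6) :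
    X.tsum (X.xi x) j = if j = 0 then X.tsum x j else -X.tsum x j := by
  have h2 := X.two_dvd_tsum hx j
  have : X.tsum (X.xi x) j = ∑ i ∈ X.tet j, if j = 0 then X.tsum x j / 2 - x i else x i - X.tsum x j / 2 :=
    Finset.sum_congr rfl fun i hi => by rw [mem_tet] at hi; simp only [xi, hi]
  rw [this]
  by_cases hj : j = 0
  · simp only [if_pos hj, Finset.sum_sub_distrib, Finset.sum_const, X.tet_card, nsmul_eq_mul]
    show _ - X.tsum x j = _
    push_cast; omega
  · simp only [if_neg hj, Finset.sum_sub_distrib, Finset.sum_const, X.tet_card, nsmul_eq_mul]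
    show X.tsum x j - _ = _
    push_cast; omega

theorem xi_xi (X : Sx) {x : Vec} (hx : x ∈ leechLattice) : X.xi (X.xi x) = x := by
  funext i
  have := X.two_dvd_tsum hx (X.idx i)
  rw [show X.xi (X.xi x) i = if X.idx i = 0 then X.tsum (X.xi x) (X.idx i) / 2 - X.xi x i
    else X.xi x i - X.tsum (X.xi x) (X.idx i) / 2 from rfl, X.tsum_xi hx]
  simp only [xi]
  split <;> omega

theorem xi_norm (X : Sx) {x : Vec} (hx : x ∈ leechLattice) : sqNorm (X.xi x) = sqNorm x := by
  rw [sqNorm, sqNorm, X.sum_fiber, X.sum_fiber (fun i => x i ^ 2)]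
  refine Finset.sum_congr rfl fun j _ => ?_
  obtain ⟨c, hc⟩ := X.two_dvd_tsum hx j
  have e : ∀ i ∈ X.tet j, X.xi x i ^ 2 = x i ^ 2 - 2 * c * x i + c ^ 2 := fun i hi => by
    rw [mem_tet] at hi
    simp only [xi, hi, hc, show 2 * c / 2 = c by omega]
    split <;> ring
  rw [Finset.sum_congr rfl e, Finset.sum_add_distrib, Finset.sum_sub_distrib, ← Finset.mul_sum,
    Finset.sum_const, X.tet_card, nsmul_eq_mul]
  show _ - 2 * c * X.tsum x j + _ = _
  rw [hc]; push_cast; ring

/-- the parity shift of tetrad `j` under the sextet map -/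
def flip (X : Sx) (m : ℤ) (x : Vec) (j : Fin 6) : ℤ :=
  if j = 0 then m + ∑ i ∈ X.tet 0, half m x i
  else ((∑ i ∈ X.tet j, half m x i) - ∑ i ∈ X.tet 0, half m x i) / 2

theorem half_parity (X : Sx) {m : ℤ} {x : Vec} (h : LatM m x) (j : Fin 6) :
    (2 : ℤ) ∣ (∑ i ∈ X.tet j, half m x i) - ((pat m x ∩ X.tet j).card : ℤ) := by
  have := sum_emod_eq (X.tet j) (half m x) (fun i => if i ∈ pat m x then (1 : ℤ) else 0) 2 (fun i _ => by
    by_cases hi : i ∈ pat m x
    · rw [if_pos hi]; have := (h.mem_pat_iff i).1 hi; omega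
    · rw [if_neg hi]
      have : (2 : ℤ) ∣ half m x i := by
        by_contra hc; exact hi ((h.mem_pat_iff i).2 hc)
      omega)
  rw [← Finset.sum_filter, Finset.filter_mem_eq_inter, Finset.inter_comm] at this
  simpa using this

theorem half_sums_parity (X : Sx) {m : ℤ} {x : Vec} (h : LatM m x) (j k : Fin 6) :
    (2 : ℤ) ∣ (∑ i ∈ X.tet j, half m x i) - ∑ i ∈ X.tet k, half m x i := by
  have := X.half_parity h j
  have := X.half_parity h k
  obtain ⟨r, hr⟩ := X.parity h.2.2 j k
  omega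

theorem even_card_iff_sum {ι : Type*} [Fintype ι] (f : ι → ℤ) :
    Even (Finset.univ.filter fun j => ¬ (2 : ℤ) ∣ f j).card ↔ (2 : ℤ) ∣ ∑ j, f j := by
  have := sum_emod_eq Finset.univ f (fun j => if ¬ (2 : ℤ) ∣ f j then (1 : ℤ) else 0) 2 (fun j _ => by
    split <;> omega)
  rw [← Finset.sum_filter, Finset.sum_const, nsmul_eq_mul, mul_one] at this
  rw [Nat.even_iff]
  omega

/-- witness and pattern of the image under the sextet map -/
theorem xi_latM (X : Sx) {m : ℤ} {x : Vec} (h : LatM m x) :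
    LatM (-(m + ∑ i ∈ X.tet 0, half m x i)) (X.xi x) ∧
    pat (-(m + ∑ i ∈ X.tet 0, half m x i)) (X.xi x) =
      pat m x ∆ X.unionT (Finset.univ.filter fun j => ¬ (2 : ℤ) ∣ X.flip m x j) := by
  set t := fun j => ∑ i ∈ X.tet j, half m x i with ht
  have hpar := fun j => X.half_sums_parity h j 0
  have hs : ∀ j, X.tsum x j / 2 = 2 * m + t j := fun j => by simp only [ht]; rw [X.tsum_eq h j]; omega
  have hpt : ∀ i, (2 : ℤ) ∣ X.xi x i - -(m + t 0) ∧
      ((¬ (4 : ℤ) ∣ X.xi x i - -(m + t 0)) ↔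
        ¬ ((¬ (4 : ℤ) ∣ x i - m) ↔ (¬ (2 : ℤ) ∣ X.flip m x (X.idx i)))) := fun i => by
    have := h.eq_half i
    have := hs (X.idx i)
    have := hpar (X.idx i)
    have e0 : t 0 = ∑ i ∈ X.tet 0, half m x i := rfl
    have ej : t (X.idx i) = ∑ k ∈ X.tet (X.idx i), half m x k := rfl
    by_cases hi : X.idx i = 0
    · have : t (X.idx i) = t 0 := by rw [hi]
      simp only [flip, xi, if_pos hi]
      omega
    · simp only [flip, xi, if_neg hi]
      omega
  have hpat : pat (-(m + t 0)) (X.xi x) =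
      pat m x ∆ X.unionT (Finset.univ.filter fun j => ¬ (2 : ℤ) ∣ X.flip m x j) := by
    ext i
    simp only [mem_pat, (hpt i).2, Finset.mem_symmDiff, mem_unionT, Finset.mem_filter, Finset.mem_univ, true_and]
    tauto
  refine ⟨⟨fun i => (hpt i).1, ?_, ?_⟩, hpat⟩
  · have hsum := h.2.1
    rw [X.sum_fiber (X.xi x)]
    have e : ∀ j, ∑ i ∈ X.tet j, X.xi x i = if j = 0 then X.tsum x j else -X.tsum x j :=
      fun j => X.tsum_xi ((mem_leech_iff x).2 ⟨m, h⟩) j
    rw [Finset.sum_congr rfl fun j _ => e j]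
    have e2 : (∑ j, if j = 0 then X.tsum x j else -X.tsum x j) = 2 * X.tsum x 0 - ∑ i, x i := by
      have : ∑ i, x i = ∑ j, X.tsum x j := X.sum_fiber x
      rw [this]
      have : (∑ j, if j = 0 then X.tsum x j else -X.tsum x j) =
          ∑ j, ((if j = 0 then 2 * X.tsum x j else 0) - X.tsum x j) :=
        Finset.sum_congr rfl fun j _ => by split <;> omega
      rw [this, Finset.sum_sub_distrib, Finset.sum_ite_eq' Finset.univ (0 : Fin 6), if_pos (Finset.mem_univ _)]
    rw [e2, X.tsum_eq h 0]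
    omega
  · show InC (pat (-(m + t 0)) (X.xi x))
    rw [hpat]
    refine InC_symmDiff h.2.2 (X.InC_unionT ((even_card_iff_sum _).2 ?_))
    have hsum := h.sum_half
    rw [X.sum_fiber (half m x)] at hsum
    have h2 : ∀ j, 2 * X.flip m x j = (t j - t 0) + if j = 0 then 2 * m + 2 * t 0 else 0 := fun j => by
      by_cases hj : j = 0
      · subst hj; simp only [flip, if_true, ht]; ring
      · simp only [flip, if_neg hj, ht]; have := hpar j; omega
    have h3 : 2 * ∑ j, X.flip m x j = (∑ j, t j) - 6 * t 0 + (2 * m + 2 * t 0) := by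
      rw [Finset.mul_sum, Finset.sum_congr rfl fun j _ => h2 j, Finset.sum_add_distrib, Finset.sum_sub_distrib,
        Finset.sum_ite_eq' Finset.univ (0 : Fin 6), if_pos (Finset.mem_univ _)]
      simp
    simp only [ht] at h3 hsum
    omega

theorem xi_mem (X : Sx) {x : Vec} (hx : x ∈ leechLattice) : X.xi x ∈ leechLattice := by
  obtain ⟨m, hm⟩ := (mem_leech_iff x).1 hx
  exact (mem_leech_iff _).2 ⟨_, (X.xi_latM hm).1⟩

/-- the sextet map as an automorphism -/
def xiCo (X : Sx) : ↥Co0 :=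
  mkCo0 X.xi X.xi (fun _ => X.xi_mem) (fun _ => X.xi_mem) (fun _ => X.xi_xi) (fun _ => X.xi_xi)
    (fun _ hx _ hy => X.xi_add hx hy) (fun _ => X.xi_norm)

theorem ap_xiCo (X : Sx) {x : Vec} (hx : x ∈ leechLattice) : ap X.xiCo x = X.xi x :=
  ap_mkCo0 _ _ _ _ _ _ _ _ hx

end Sx

end Cfsg.Agent.Leech
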