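import Cfsg.Agent.Lib.Leech.Gen

set_option autoImplicit false

namespace Cfsg.Agent.Leech
open Cfsg
open scoped symmDiff

/-- parity of the vector and its pattern normalised at the extra point -/
def patHom : ↥leechLattice →+ ZMod 2 × (GolayPt → ZMod 2) where
  toFun x := (((x : Vec) none : ℤ), fun i => ((((x : Vec) i - (x : Vec) none) / 2 : ℤ) : ZMod 2))
  map_zero' := by simp; rfl
  map_add' x y := by
    refine Prod.ext (by simp) (funext fun i => ?_)
    obtain ⟨m, hm⟩ := (mem_leech_iff _).1 x.2
    obtain ⟨n, hn⟩ := (mem_leech_iff _).1 y.2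
    have h1 : (2 : ℤ) ∣ (x : Vec) i - (x : Vec) none := by have := hm.1 i; have := hm.1 none; omega
    show (((_ : ℤ) / 2 : ℤ) : ZMod 2) = _ + _
    rw [← Int.cast_add, ← Int.add_ediv_of_dvd_left h1]
    simp only [AddSubgroup.coe_add, Pi.add_apply]
    congr 2; ring

/-- the vectors of pattern empty or everything -/
def fourSub : AddSubgroup Vec := patHom.ker.map leechLattice.subtype

theorem zmod2_cast_eq_zero (a : ℤ) : (a : ZMod 2) = 0 ↔ (2 : ℤ) ∣ a := ZMod.intCast_zmod_eq_zero_iff_dvd a 2

theorem mem_fourSub {x : Vec} : x ∈ fourSub ↔ x ∈ leechLattice ∧ (2 : ℤ) ∣ x none ∧ ∀ i, (4 : ℤ) ∣ x i - x none := by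
  constructor
  · rintro ⟨v, hv, rfl⟩
    rw [SetLike.mem_coe, AddMonoidHom.mem_ker, Prod.ext_iff] at hv
    refine ⟨v.2, (zmod2_cast_eq_zero _).1 hv.1, fun i => ?_⟩
    have := (zmod2_cast_eq_zero _).1 (congrFun hv.2 i)
    obtain ⟨m, hm⟩ := (mem_leech_iff _).1 v.2
    have := hm.1 i; have := hm.1 none
    show (4 : ℤ) ∣ (v : Vec) i - (v : Vec) none
    omega
  · rintro ⟨h, h1, h2⟩
    refine ⟨⟨x, h⟩, ?_, rfl⟩
    rw [SetLike.mem_coe, AddMonoidHom.mem_ker]
    refine Prod.ext ((zmod2_cast_eq_zero _).2 h1) (funext fun i => (zmod2_cast_eq_zero _).2 ?_)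
    have := h2 i
    show (2 : ℤ) ∣ (x i - x none) / 2
    omega

theorem fourSub_norm {x : Vec} (hx : x ∈ fourSub) : (32 : ℤ) ∣ sqNorm x := by
  obtain ⟨hL, h0, h4⟩ := mem_fourSub.1 hx
  have hm := latM_of_mem hL (m := 0) (i := none) (by omega)
  have h16 := sqNorm_sixteen hL
  by_cases hh : (4 : ℤ) ∣ x none
  · choose b hb using fun i => (show ∃ b, x i = 4 * b from ⟨x i / 4, by have := h4 i; omega⟩)
    have e : sqNorm x = 16 * ∑ i, b i ^ 2 := by
      rw [sqNorm, Finset.mul_sum]; exact Finset.sum_congr rfl fun i _ => by rw [hb i]; ring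
    have hs : ∑ i, x i = 4 * ∑ i, b i := by rw [Finset.mul_sum]; exact Finset.sum_congr rfl fun i _ => hb i
    have h2 := sum_emod_eq Finset.univ (fun i => b i ^ 2) b 2 (fun i _ => by
      rcases Int.even_mul_succ_self (b i - 1) with ⟨k, hk⟩
      exact ⟨k, by linear_combination hk⟩)
    have := hm.2.1
    omega
  · choose b hb using fun i => (show ∃ b, x i = 4 * b + 2 from ⟨x i / 4, by have := h4 i; omega⟩)
    have e : sqNorm x = 16 * (∑ i, (b i * (b i + 1))) + 96 := by
      have : (96 : ℤ) = ∑ _i : GolayPt, (4 : ℤ) := by simp [card_pt]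
      rw [sqNorm, Finset.mul_sum, this, ← Finset.sum_add_distrib]
      exact Finset.sum_congr rfl fun i _ => by rw [hb i]; ring
    have : (2 : ℤ) ∣ ∑ i, b i * (b i + 1) := Finset.dvd_sum fun i _ => (Int.even_mul_succ_self (b i)).two_dvd
    omega

theorem two_smul_mem_fourSub {x : Vec} (hx : x ∈ leechLattice) : (2 : ℤ) • x ∈ fourSub := by
  obtain ⟨m, hm⟩ := (mem_leech_iff _).1 hx
  refine mem_fourSub.2 ⟨zsmul_mem hx 2, ?_, fun i => ?_⟩ <;> simp only [Pi.smul_apply, smul_eq_mul]
  · omega
  · have := hm.1 i; have := hm.1 none; omega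

theorem patHom_range_card : Nat.card patHom.range = 2 ^ 12 := by
  classical
  have hcode : Nat.card golayCode = 2 ^ 12 := by
    rw [Module.natCard_eq_pow_finrank (K := ZMod 2), Golay24.golayCode_finrank, Nat.card_zmod]
  let φ : golayCode → ZMod 2 × (GolayPt → ZMod 2) :=
    fun c => ((c : GolayPt → ZMod 2) none, (c : GolayPt → ZMod 2) + fun _ => (c : GolayPt → ZMod 2) none)
  have hφ : Function.Injective φ := fun c d h => by
    have h' := Prod.ext_iff.1 h
    refine Subtype.ext ?_
    have := h'.2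
    simp only [φ] at this
    rw [show (fun _ : GolayPt => (c : GolayPt → ZMod 2) none) = fun _ => (d : GolayPt → ZMod 2) none from
      funext fun _ => h'.1] at this
    exact add_right_cancel this
  have hconst : ∀ a : ZMod 2, (fun _ : GolayPt => a) ∈ golayCode := fun a => by
    have : (fun _ : GolayPt => a) = a • (1 : GolayPt → ZMod 2) := by funext; simp
    rw [this]; exact Submodule.smul_mem _ _ (Submodule.subset_span (Or.inr rfl))
  have hr : (patHom.range : Set (ZMod 2 × (GolayPt → ZMod 2))) = Set.range φ := by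
    ext p
    constructor
    · rintro ⟨v, rfl⟩
      have hm := latM_of_mem v.2 (m := (v : Vec) none) (i := none) (by simp)
      obtain ⟨w, hw, he⟩ := hm.2.2
      have hwv : ∀ i, w i = ((((v : Vec) i - (v : Vec) none) / 2 : ℤ) : ZMod 2) := fun i => by
        have hi : i ∈ pat ((v : Vec) none) (v : Vec) ↔ w i ≠ 0 := by rw [← he]; simp [support₂]
        have := hm.1 i
        rw [mem_pat] at hi
        rcases Int.emod_two_eq_zero_or_one (((v : Vec) i - (v : Vec) none) / 2) with h | h
        · rw [(zmod2_cast_eq_zero _).2 (by omega)]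
          by_contra hc; exact hi.2 hc (by omega)
        · have h1 : ((((v : Vec) i - (v : Vec) none) / 2 : ℤ) : ZMod 2) = 1 := by
            rw [show ((v : Vec) i - (v : Vec) none) / 2 = 2 * (((v : Vec) i - (v : Vec) none) / 2 / 2) + 1 by omega]
            push_cast
            rw [show (2 : ZMod 2) = 0 from rfl, zero_mul, zero_add]
          rw [h1]
          exact (show ∀ a : ZMod 2, a ≠ 0 → a = 1 by decide) _ (hi.1 (by omega))
      refine ⟨⟨w + fun _ => (((v : Vec) none : ℤ) : ZMod 2), Submodule.add_mem _ hw (hconst _)⟩, ?_⟩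
      have h0 : w none = 0 := by rw [hwv]; simp
      refine Prod.ext ?_ (funext fun i => ?_)
      · simp [φ, patHom, h0]
      · simp only [φ, patHom, AddMonoidHom.coe_mk, ZeroHom.coe_mk, Pi.add_apply, h0, zero_add]
        rw [add_assoc, CharTwo.add_self_eq_zero, add_zero, hwv]
    · rintro ⟨c, rfl⟩
      set a := (c : GolayPt → ZMod 2) none with ha
      have hC : InC (support₂ ((c : GolayPt → ZMod 2) + fun _ => a)) :=
        ⟨_, Submodule.add_mem _ c.2 (hconst a), rfl⟩
      set S := support₂ ((c : GolayPt → ZMod 2) + fun _ => a) with hS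
      obtain ⟨hl, -⟩ := twoVec_latM hC
      obtain ⟨h1, -, -⟩ := oddMin_latM
      have hnS : (none : GolayPt) ∉ S := by simp [hS, support₂, ← ha, CharTwo.add_self_eq_zero]
      refine ⟨⟨twoVec S + (if a = 0 then 0 else oddMin), add_mem ((mem_leech_iff _).2 ⟨0, hl⟩)
        (by split; exacts [zero_mem _, (mem_leech_iff _).2 ⟨1, h1⟩])⟩, Prod.ext ?_ (funext fun i => ?_)⟩
      · show (((twoVec S + if a = 0 then (0 : Vec) else oddMin) none : ℤ) : ZMod 2) = a
        have := (show ∀ b : ZMod 2, b = 0 ∨ b = 1 by decide) a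
        rcases this with h | h <;> rw [h] <;> simp [twoVec, hnS, oddMin] <;> rfl
      · show ((((twoVec S + if a = 0 then (0 : Vec) else oddMin) i -
          (twoVec S + if a = 0 then (0 : Vec) else oddMin) none) / 2 : ℤ) : ZMod 2) = (c : GolayPt → ZMod 2) i + a
        have hiS : i ∈ S ↔ (c : GolayPt → ZMod 2) i + a ≠ 0 := by simp [hS, support₂]
        have hb := (show ∀ b : ZMod 2, b = 0 ∨ b = 1 by decide) ((c : GolayPt → ZMod 2) i + a)
        by_cases hi : i ∈ S
        · have hne : i ≠ none := fun h => hnS (h ▸ hi)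
          rw [hb.resolve_left (hiS.1 hi)]
          by_cases ha0 : a = 0 <;> simp [twoVec, hi, hnS, oddMin, ha0, hne] <;> decide
        · rw [show (c : GolayPt → ZMod 2) i + a = 0 by simpa [hiS] using hi]
          by_cases ha0 : a = 0
          · simp [twoVec, hi, hnS, ha0]
          · by_cases hne : i = none
            · simp [hne]
            · simp [twoVec, hi, hnS, oddMin, ha0, hne]; decide
  rw [← hcode]
  rw [show Nat.card patHom.range = Nat.card (Set.range φ) from by rw [← hr]; rfl]
  exact Nat.card_range_of_injective hφ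

theorem fourSub_index : (fourSub.addSubgroupOf leechLattice).index = 2 ^ 12 := by
  have : fourSub.addSubgroupOf leechLattice = patHom.ker := by
    rw [fourSub]
    exact AddSubgroup.comap_map_eq_self_of_injective leechLattice.subtype_injective _
  rw [this, AddSubgroup.index_ker, patHom_range_card]

theorem fourSub_le : fourSub ≤ leechLattice := fun _ hx => (mem_fourSub.1 hx).1

end Cfsg.Agent.Leech
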