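import Cfsg.Agent.Lib.Leech.CodeExtra

set_option autoImplicit false

namespace Cfsg.Agent.Leech
open Cfsg
open scoped symmDiff

theorem latM_of_mem {x : Vec} (hx : x ∈ leechLattice) {m : ℤ} {i : GolayPt} (h : (2 : ℤ) ∣ x i - m) :
    LatM m x := by
  obtain ⟨n, hn⟩ := (mem_leech_iff x).1 hx
  exact hn.shift (by have := hn.1 i; omega)

/-- `x` and `y` are in one orbit of the automorphism group -/
def CoEq (x y : Vec) : Prop := ∃ g : ↥Co0, ap g x = y

theorem CoEq.refl (x : Vec) : CoEq x x := ⟨1, ap_one x⟩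

theorem CoEq.trans {x y z : Vec} (hx : x ∈ leechLattice) (h : CoEq x y) (h' : CoEq y z) : CoEq x z := by
  obtain ⟨g, rfl⟩ := h
  obtain ⟨g', rfl⟩ := h'
  exact ⟨g' * g, ap_mul g' g hx⟩

theorem CoEq.symm {x y : Vec} (hx : x ∈ leechLattice) (h : CoEq x y) : CoEq y x := by
  obtain ⟨g, rfl⟩ := h
  exact ⟨g⁻¹, ap_inv_ap g hx⟩

theorem CoEq.mem {x y : Vec} (hx : x ∈ leechLattice) (h : CoEq x y) : y ∈ leechLattice := by
  obtain ⟨g, rfl⟩ := h
  exact ap_mem g hx

theorem CoEq.norm {x y : Vec} (hx : x ∈ leechLattice) (h : CoEq x y) : sqNorm y = sqNorm x := by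
  obtain ⟨g, rfl⟩ := h
  exact ap_norm g hx

theorem exists_four_of_le {S : Finset GolayPt} (h : 4 ≤ S.card) : ∃ T ⊆ S, T.card = 4 :=
  Finset.exists_subset_card_eq h

/-- an odd vector can be moved to an even one -/
theorem coEq_even {x : Vec} (hx : x ∈ leechLattice) : ∃ y, CoEq x y ∧ LatM 0 y := by
  rcases exists_witness hx with h | h
  · exact ⟨x, CoEq.refl x, h⟩
  obtain ⟨T, -, hT⟩ := exists_four_of_le (S := (Finset.univ : Finset GolayPt)) (by rw [Finset.card_univ, card_pt]; norm_num)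
  obtain ⟨X, hX⟩ := exists_sx T hT
  -- a sign change making the pattern meet tetrad 0 oddly
  obtain ⟨S, hS, hodd⟩ : ∃ S, InC S ∧ ¬ Even ((pat 1 x ∆ S) ∩ X.tet 0).card := by
    by_cases he : Even ((pat 1 x) ∩ X.tet 0).card
    · obtain ⟨S, hS, h1⟩ := exists_InC_odd (T := X.tet 0) (by rw [X.tet_card]; norm_num)
        (Finset.card_pos.1 (by rw [X.tet_card]; norm_num))
      refine ⟨S, hS, ?_⟩
      obtain ⟨q, hq⟩ := Finset.card_eq_one.1 h1
      have hqs : q ∈ S ∩ X.tet 0 := by rw [hq]; exact Finset.mem_singleton_self q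
      rw [Finset.mem_inter] at hqs
      have e : (pat 1 x ∆ S) ∩ X.tet 0 = (pat 1 x ∩ X.tet 0) ∆ {q} := by
        rw [← hq]
        ext i; simp only [Finset.mem_inter, Finset.mem_symmDiff]; tauto
      rw [e]
      by_cases hqp : q ∈ pat 1 x ∩ X.tet 0
      · have : (pat 1 x ∩ X.tet 0) ∆ {q} = (pat 1 x ∩ X.tet 0).erase q := by
          ext i; simp only [Finset.mem_symmDiff, Finset.mem_erase, Finset.mem_singleton]
          by_cases hi : i = q <;> simp [hi, hqp]
        rw [this, Finset.card_erase_of_mem hqp]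
        have := Finset.card_pos.2 ⟨q, hqp⟩
        rw [Nat.even_iff] at he ⊢; omega
      · have : (pat 1 x ∩ X.tet 0) ∆ {q} = insert q (pat 1 x ∩ X.tet 0) := by
          ext i; simp only [Finset.mem_symmDiff, Finset.mem_insert, Finset.mem_singleton]
          by_cases hi : i = q <;> simp [hi, hqp]
        rw [this, Finset.card_insert_of_notMem hqp]
        rw [Nat.even_iff] at he ⊢; omega
    · exact ⟨∅, InC_empty, by rwa [← Finset.bot_eq_empty, symmDiff_bot]⟩
  set y := ap (signCo S hS) x with hy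
  have hyL : y ∈ leechLattice := ap_mem _ hx
  have hyi : ∀ i, y i = if i ∈ S then -x i else x i := fun i => ap_signCo hS hx i
  have hy1 : LatM 1 y := latM_of_mem hyL (i := none) (by have := h.1 none; rw [hyi]; split <;> omega)
  have hpat : pat 1 y = pat 1 x ∆ S := by
    ext i
    have := h.1 i
    simp only [mem_pat, hyi, Finset.mem_symmDiff]
    by_cases hi : i ∈ S <;> simp [hi] <;> omega
  have h2 := (X.xi_latM hy1).1
  have hp := X.half_parity hy1 0
  rw [hpat] at hp
  refine ⟨X.xi y, CoEq.trans hx ⟨_, rfl⟩ ⟨X.xiCo, X.ap_xiCo hyL⟩, h2.shift ?_⟩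
  rw [Nat.even_iff] at hodd
  omega

/-- positions off the pattern where the halved coordinate is 2 modulo 4 -/
def twos (x : Vec) : Finset GolayPt :=
  Finset.univ.filter fun i => (2 : ℤ) ∣ half 0 x i ∧ ¬ (4 : ℤ) ∣ half 0 x i

theorem mem_twos {x : Vec} {i : GolayPt} : i ∈ twos x ↔ (2 : ℤ) ∣ half 0 x i ∧ ¬ (4 : ℤ) ∣ half 0 x i := by
  simp [twos]

/-- reduction of the weight of the pattern of an even vector by a suitable sextet -/
theorem pat_step {x : Vec} (h : LatM 0 x) (X : Sx) (h0 : X.tet 0 ⊆ pat 0 x)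
    (hz : ∀ j, Disjoint (pat 0 x) (X.tet j) → Even (twos x ∩ X.tet j).card) :
    ∃ y, CoEq x y ∧ LatM 0 y ∧ (pat 0 y).card < (pat 0 x).card := by
  have hx : x ∈ leechLattice := (mem_leech_iff x).2 ⟨0, h⟩
  set a := half 0 x with ha
  have hxa : ∀ i, x i = 2 * a i := fun i => by have := h.eq_half i; rw [← ha] at this; omega
  have hPa : ∀ i, i ∈ pat 0 x ↔ ¬ (2 : ℤ) ∣ a i := fun i => by rw [h.mem_pat_iff]
  have ht0e : (2 : ℤ) ∣ ∑ i ∈ X.tet 0, a i := by
    have := X.half_parity h 0
    rw [Finset.inter_eq_right.2 h0, X.tet_card] at this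
    rw [← ha] at this
    omega
  obtain ⟨q, hq⟩ : (X.tet 0).Nonempty := Finset.card_pos.1 (by rw [X.tet_card]; norm_num)
  -- choose the signs
  obtain ⟨S, hS, hS0⟩ : ∃ S, InC S ∧
      ¬ (4 : ℤ) ∣ ∑ i ∈ X.tet 0, (if i ∈ S then -a i else a i) := by
    by_cases h4 : (4 : ℤ) ∣ ∑ i ∈ X.tet 0, a i
    · obtain ⟨S, hS, he⟩ := exists_InC_inter_small (A := {q}) (T := X.tet 0) (Finset.singleton_subset_iff.2 hq)
        (by rw [X.tet_card]; norm_num)
      refine ⟨S, hS, ?_⟩
      have e : ∑ i ∈ X.tet 0, (if i ∈ S then -a i else a i) = (∑ i ∈ X.tet 0, a i) - 2 * a q := by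
        have : ∀ i ∈ X.tet 0, (if i ∈ S then -a i else a i) = a i - if i = q then 2 * a i else 0 := fun i hi => by
          have : i ∈ S ↔ i = q := by
            rw [← Finset.mem_singleton, ← he, Finset.mem_inter]; simp [hi]
          by_cases hiq : i = q
          · rw [if_pos (this.2 hiq), if_pos hiq]; omega
          · rw [if_neg (fun hh => hiq (this.1 hh)), if_neg hiq]; omega
        rw [Finset.sum_congr rfl this, Finset.sum_sub_distrib, Finset.sum_ite_eq' _ q, if_pos hq]
      have := (hPa q).1 (h0 hq)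
      rw [e]; omega
    · exact ⟨∅, InC_empty, by simpa using h4⟩
  set y := ap (signCo S hS) x with hy
  have hyL : y ∈ leechLattice := ap_mem _ hx
  have hyi : ∀ i, y i = 2 * (if i ∈ S then -a i else a i) := fun i => by
    rw [hy, ap_signCo hS hx i, hxa i]; split <;> omega
  have hy0 : LatM 0 y := latM_of_mem hyL (i := none) (by rw [hyi]; omega)
  set z := X.xi y with hz'
  have hzL : z ∈ leechLattice := X.xi_mem hyL
  set t : Fin 6 → ℤ := fun j => ∑ i ∈ X.tet j, (if i ∈ S then -a i else a i) with ht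
  have hts : ∀ j, X.tsum y j = 2 * t j := fun j => by
    simp only [ht, Finset.mul_sum]; exact Finset.sum_congr rfl fun i _ => hyi i
  have hpar : ∀ j, (2 : ℤ) ∣ t j := fun j => by
    have h1 : (2 : ℤ) ∣ t j - ∑ i ∈ X.tet j, a i :=
      sum_emod_eq _ _ _ 2 fun i _ => by split <;> omega
    have h2 := X.half_sums_parity h j 0
    rw [← ha] at h2
    omega
  have hzi : ∀ i, z i = if X.idx i = 0 then t (X.idx i) - y i else y i - t (X.idx i) := fun i => by
    rw [hz']; simp only [Sx.xi, hts]; split <;> omega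
  have hz0 : LatM 0 z := latM_of_mem hzL (i := none) (by
    have := hpar (X.idx none); rw [hzi, hyi]; split <;> omega)
  have hPz : ∀ i, i ∈ pat 0 z ↔ ¬ ((i ∈ pat 0 x) ↔ ¬ (4 : ℤ) ∣ t (X.idx i)) := fun i => by
    have := hpar (X.idx i)
    rw [mem_pat, hzi, hPa]
    have := hyi i
    by_cases hiS : i ∈ S
    · rw [if_pos hiS] at this; split <;> omega
    · rw [if_neg hiS] at this; split <;> omega
  refine ⟨z, CoEq.trans hx ⟨_, hy.symm⟩ ⟨X.xiCo, X.ap_xiCo hyL⟩, hz0, ?_⟩
  -- count tetrad by tetrad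
  have hcard : ∀ P : Finset GolayPt, P.card = ∑ j, (P ∩ X.tet j).card := fun P => by
    rw [Finset.card_eq_sum_card_fiberwise (t := (Finset.univ : Finset (Fin 6))) (f := X.idx)
      (fun i _ => Finset.mem_univ _)]
    refine Finset.sum_congr rfl fun j _ => congrArg Finset.card ?_
    ext i; simp [Sx.tet]
  have hkeep : ∀ j, (4 : ℤ) ∣ t j → pat 0 z ∩ X.tet j = pat 0 x ∩ X.tet j := fun j hj => by
    ext i
    simp only [Finset.mem_inter, hPz, X.mem_tet]
    constructor <;> rintro ⟨h1, rfl⟩ <;> simp [hj] at h1 ⊢ <;> exact h1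
  have hswap : ∀ j, ¬ (4 : ℤ) ∣ t j → pat 0 z ∩ X.tet j = X.tet j \ pat 0 x := fun j hj => by
    ext i
    simp only [Finset.mem_inter, Finset.mem_sdiff, hPz, X.mem_tet]
    constructor
    · rintro ⟨h1, rfl⟩; simp [hj] at h1 ⊢; exact h1
    · rintro ⟨rfl, h1⟩; simp [hj]; exact h1
  have hevencard : ∀ j, Even (pat 0 x ∩ X.tet j).card := fun j => by
    have := X.parity h.2.2 j 0
    rw [Finset.inter_eq_right.2 h0, X.tet_card, Nat.even_add] at this
    exact this.2 (by decide)
  have hle : ∀ j ∈ (Finset.univ : Finset (Fin 6)), (pat 0 z ∩ X.tet j).card ≤ (pat 0 x ∩ X.tet j).card := by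
    intro j _
    by_cases hj : (4 : ℤ) ∣ t j
    · rw [hkeep j hj]
    · rw [hswap j hj]
      have h1 := Finset.card_sdiff_add_card_inter (X.tet j) (pat 0 x)
      rw [Finset.inter_comm, X.tet_card] at h1
      by_cases hzero : (pat 0 x ∩ X.tet j).card = 0
      · exfalso
        have hd : Disjoint (pat 0 x) (X.tet j) :=
          Finset.disjoint_iff_inter_eq_empty.2 (Finset.card_eq_zero.1 hzero)
        have he := hz j hd
        apply hj
        have h4 := sum_emod_eq (X.tet j) (fun i => if i ∈ S then -a i else a i)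
          (fun i => if i ∈ twos x then (2 : ℤ) else 0) 4 (fun i hi => by
            have hna : (2 : ℤ) ∣ a i := by
              by_contra hc
              exact Finset.disjoint_left.1 hd ((hPa i).2 hc) hi
            by_cases h2 : i ∈ twos x
            · rw [if_pos h2]; rw [mem_twos, ← ha] at h2; split <;> omega
            · rw [if_neg h2]
              rw [mem_twos, ← ha] at h2
              have : (4 : ℤ) ∣ a i := by by_contra hc; exact h2 ⟨hna, hc⟩
              split <;> omega)
        rw [← Finset.sum_filter, Finset.filter_mem_eq_inter, Finset.inter_comm] at h4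
        simp only [Finset.sum_const, nsmul_eq_mul] at h4
        obtain ⟨r, hr⟩ := he
        show (4 : ℤ) ∣ t j
        simp only [ht]
        omega
      · obtain ⟨r, hr⟩ := hevencard j
        omega
  have hlt : (pat 0 z ∩ X.tet 0).card < (pat 0 x ∩ X.tet 0).card := by
    rw [hswap 0 hS0, Finset.inter_eq_right.2 h0, X.tet_card, Finset.sdiff_eq_empty_iff_subset.2 h0]
    simp
  rw [hcard (pat 0 z), hcard (pat 0 x)]
  exact Finset.sum_lt_sum hle ⟨0, Finset.mem_univ _, hlt⟩

theorem sum_half_sq {x : Vec} (h : LatM 0 x) :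
    sqNorm x = 4 * ∑ i, half 0 x i ^ 2 := by
  rw [sqNorm, Finset.mul_sum]
  exact Finset.sum_congr rfl fun i _ => by rw [h.eq_half i]; ring

theorem pat_twos_bounds {x : Vec} (h : LatM 0 x) :
    ((pat 0 x).card : ℤ) + 4 * (twos x).card ≤ ∑ i, half 0 x i ^ 2 ∧
    (8 : ℤ) ∣ (∑ i, half 0 x i ^ 2) - ((pat 0 x).card + 4 * (twos x).card) := by
  set a := half 0 x with ha
  have hsum : ((pat 0 x).card : ℤ) + 4 * (twos x).card =
      ∑ i, ((if i ∈ pat 0 x then (1 : ℤ) else 0) + if i ∈ twos x then 4 else 0) := by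
    rw [Finset.sum_add_distrib, sum_indicator, sum_indicator, one_mul]
  have hpt : ∀ i, ((if i ∈ pat 0 x then (1 : ℤ) else 0) + (if i ∈ twos x then 4 else 0)) ≤ a i ^ 2 ∧
      (8 : ℤ) ∣ a i ^ 2 - ((if i ∈ pat 0 x then (1 : ℤ) else 0) + if i ∈ twos x then 4 else 0) := fun i => by
    by_cases h2 : (2 : ℤ) ∣ a i
    · have hn : i ∉ pat 0 x := fun hh => (h.mem_pat_iff i).1 hh h2
      obtain ⟨k, hk⟩ := h2
      by_cases h4 : (4 : ℤ) ∣ a i
      · have hn2 : i ∉ twos x := fun hh => (mem_twos.1 hh).2 h4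
        rw [if_neg hn, if_neg hn2]
        obtain ⟨l, hl⟩ := h4
        refine ⟨by positivity, ⟨2 * l * l, by rw [hl]; ring⟩⟩
      · have hy2 : i ∈ twos x := mem_twos.2 ⟨⟨k, hk⟩, h4⟩
        rw [if_neg hn, if_pos hy2]
        obtain ⟨l, hl⟩ : ∃ l, k = 2 * l + 1 := ⟨k / 2, by omega⟩
        obtain ⟨r, hr⟩ := Int.even_mul_succ_self l
        subst hl
        refine ⟨?_, ⟨4 * r, by rw [hk]; linear_combination 16 * hr + 0 * hk⟩⟩
        have : 1 ≤ |2 * l + 1| := Int.one_le_abs (by omega)
        rw [hk]; nlinarith [sq_abs (2 * l + 1)]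
    · have hy : i ∈ pat 0 x := (h.mem_pat_iff i).2 h2
      have hn2 : i ∉ twos x := fun hh => h2 (mem_twos.1 hh).1
      rw [if_pos hy, if_neg hn2]
      obtain ⟨l, hl⟩ : ∃ l, a i = 2 * l + 1 := ⟨a i / 2, by omega⟩
      obtain ⟨r, hr⟩ := Int.even_mul_succ_self l
      refine ⟨?_, ⟨r, by rw [hl]; linear_combination 4 * hr⟩⟩
      have : 1 ≤ |2 * l + 1| := Int.one_le_abs (by omega)
      rw [hl]; nlinarith [sq_abs (2 * l + 1)]
  rw [hsum]
  exact ⟨Finset.sum_le_sum fun i _ => (hpt i).1, sum_emod_eq _ _ _ 8 fun i _ => (hpt i).2⟩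

/-- tetrads of a sextet containing a tetrad `T` and completing it to an octad -/
theorem tet_of_octad (X : Sx) {j : Fin 6} {O : Finset GolayPt} (hO : InC O) (h8 : O.card = 8)
    (hsub : X.tet j ⊆ O) : ∃ k, k ≠ j ∧ X.tet k = O \ X.tet j := by
  obtain ⟨p, hp⟩ : (O \ X.tet j).Nonempty := Finset.card_pos.1 (by
    rw [Finset.card_sdiff_of_subset hsub, h8, X.tet_card]; norm_num)
  rw [Finset.mem_sdiff] at hp
  have hne : X.idx p ≠ j := fun hh => hp.2 (X.mem_tet.2 hh)
  refine ⟨X.idx p, hne, ?_⟩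
  have hd := X.tet_disjoint hne
  have heq : X.tet j ∪ X.tet (X.idx p) = O := by
    refine InC_octad_unique (X.InC_pair hne.symm) hO ?_ h8 ?_
    · rw [Finset.card_union_of_disjoint hd.symm, X.tet_card, X.tet_card]
    · have : insert p (X.tet j) ⊆ (X.tet j ∪ X.tet (X.idx p)) ∩ O := by
        refine Finset.insert_subset (Finset.mem_inter.2 ⟨?_, hp.1⟩) (Finset.subset_inter Finset.subset_union_left hsub)
        exact Finset.mem_union_right _ (X.mem_tet.2 rfl)
      have := Finset.card_le_card this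
      rw [Finset.card_insert_of_notMem hp.2, X.tet_card] at this
      exact this
  rw [← heq, Finset.union_sdiff_left, Finset.sdiff_eq_self_of_disjoint hd]

theorem exists_sx_swap (X : Sx) (j : Fin 6) : ∃ Y : Sx, ∀ k, Y.tet k = X.tet (Equiv.swap 0 j k) := by
  have hf : ∀ (i : GolayPt) (k : Fin 6), Equiv.swap 0 j (X.idx i) = k ↔ X.idx i = Equiv.swap 0 j k := fun i k => by
    constructor
    · rintro rfl; rw [Equiv.swap_apply_self]
    · intro h; rw [h, Equiv.swap_apply_self]
  refine ⟨⟨fun i => Equiv.swap 0 j (X.idx i), fun k => ?_, fun k l hkl => ?_⟩, fun k => ?_⟩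
  · simp only [hf]; exact X.card_fib _
  · simp only [hf]; exact X.pair _ _ fun hh => hkl ((Equiv.swap 0 j).injective hh)
  · ext i; simp only [Sx.mem_tet]; exact hf i k

/-- a sextet suitable for `pat_step` exists for singular short even vectors -/
theorem exists_step_sx {x : Vec} (h : LatM 0 x) (hn : sqNorm x ≤ 64) (h32 : (32 : ℤ) ∣ sqNorm x)
    (hne : pat 0 x ≠ ∅) :
    ∃ X : Sx, X.tet 0 ⊆ pat 0 x ∧ ∀ j, Disjoint (pat 0 x) (X.tet j) → Even (twos x ∩ X.tet j).card := by
  obtain ⟨hle, h8⟩ := pat_twos_bounds h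
  rw [sum_half_sq h] at hn h32
  set P := pat 0 x with hP
  set N := twos x with hN
  have hPpos := Finset.card_pos.2 (Finset.nonempty_iff_ne_empty.2 hne)
  have hPN : Disjoint P N := Finset.disjoint_left.2 fun i hi hi' =>
    (h.mem_pat_iff i).1 hi (mem_twos.1 hi').1
  have hNev : (2 : ℤ) ∣ ((P.card : ℤ) / 4 + N.card) := by
    rcases InC_weights h.2.2 with e | e | e | e | e <;> rw [← hP] at e <;> omega
  obtain ⟨T, hTP, hT⟩ := exists_four_of_le (S := P) (by
    rcases InC_weights h.2.2 with e | e | e | e | e <;> rw [← hP] at e <;> omega)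
  obtain ⟨X, hX⟩ := exists_sx T hT
  by_cases hN0 : N.card = 0
  · exact ⟨X, hX ▸ hTP, fun j _ => by simp [Finset.card_eq_zero.1 hN0]⟩
  rcases InC_weights h.2.2 with e | e | e | e | e <;> rw [← hP] at e
  · omega
  · -- octad pattern with two extra points
    have hN2 : N.card = 2 := by omega
    obtain ⟨T₃, hT₃, hc₃⟩ := Finset.exists_subset_card_eq (show 3 ≤ P.card by omega)
    obtain ⟨O, hO, hO8, hsub⟩ := InC_five (S := T₃ ∪ N) (by
      rw [Finset.card_union_of_disjoint (hPN.mono_left hT₃), hc₃, hN2])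
    have hPO : (P ∩ O).card = 4 := by
      have h1 : T₃ ⊆ P ∩ O := Finset.subset_inter hT₃ (Finset.union_subset_left hsub)
      have h2 : 3 ≤ (P ∩ O).card := hc₃ ▸ Finset.card_le_card h1
      have h3 : P ∩ O ⊆ O \ N := fun i hi => by
        rw [Finset.mem_inter] at hi
        exact Finset.mem_sdiff.2 ⟨hi.2, fun hh => Finset.disjoint_left.1 hPN hi.1 hh⟩
      have h4 := Finset.card_le_card h3
      rw [Finset.card_sdiff_of_subset (Finset.union_subset_right hsub), hO8, hN2] at h4
      obtain ⟨r, hr⟩ := InC_inter_even h.2.2 hO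
      rw [← hP] at hr
      by_contra hne4
      have hPO' : P = O := InC_octad_unique h.2.2 hO e hO8 (show 5 ≤ (pat 0 x ∩ O).card by rw [← hP]; omega)
      obtain ⟨i, hi⟩ : N.Nonempty := Finset.card_pos.1 (by omega)
      exact Finset.disjoint_left.1 hPN (hPO' ▸ Finset.union_subset_right hsub hi) hi
    obtain ⟨Y, hY⟩ := exists_sx (P ∩ O) hPO
    obtain ⟨k, hk, hke⟩ := tet_of_octad Y hO hO8 (hY ▸ Finset.inter_subset_right)
    refine ⟨Y, hY ▸ Finset.inter_subset_left, fun j _ => ?_⟩
    by_cases hjk : j = k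
    · subst hjk
      have : N ∩ Y.tet j = N := Finset.inter_eq_left.2 fun i hi => by
        rw [hke, hY]
        refine Finset.mem_sdiff.2 ⟨(Finset.union_subset_right hsub) hi, fun hh => ?_⟩
        exact Finset.disjoint_left.1 hPN (Finset.mem_inter.1 hh).1 hi
      rw [this, hN2]; decide
    · have : N ∩ Y.tet j = ∅ := Finset.eq_empty_of_forall_notMem fun i hi => by
        rw [Finset.mem_inter] at hi
        have : i ∈ Y.tet k := by
          rw [hke, hY]
          refine Finset.mem_sdiff.2 ⟨(Finset.union_subset_right hsub) hi.1, fun hh => ?_⟩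
          exact Finset.disjoint_left.1 hPN (Finset.mem_inter.1 hh).1 hi.1
        exact Finset.disjoint_left.1 (Y.tet_disjoint hjk) hi.2 this
      simp [this]
  · -- dodecad pattern with one extra point
    have hN1 : N.card = 1 := by omega
    obtain ⟨p, hp⟩ := Finset.card_eq_one.1 hN1
    have hpP : p ∉ P := fun hh => Finset.disjoint_left.1 hPN hh (by simp [hp])
    have hout : 4 ≤ ((Finset.univ \ P).erase p).card := by
      rw [Finset.card_erase_of_mem (by simp [hpP]), Finset.card_sdiff_of_subset (Finset.subset_univ _),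
        Finset.card_univ, card_pt]
      omega
    obtain ⟨Z, hZ, hZ4⟩ := exists_four_of_le hout
    obtain ⟨Y, hY⟩ := exists_sx Z hZ4
    have hd0 : P ∩ Y.tet 0 = ∅ := Finset.eq_empty_of_forall_notMem fun i hi => by
      rw [Finset.mem_inter, hY] at hi
      have := hZ hi.2
      simp [hi.1] at this
    have hevj : ∀ j, Even (P ∩ Y.tet j).card := fun j => by
      have := Y.parity h.2.2 j 0
      rw [← hP, hd0] at this; simpa using this
    have hsum : ∑ j, (P ∩ Y.tet j).card = 12 := by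
      rw [← e, Finset.card_eq_sum_card_fiberwise (s := P) (t := (Finset.univ : Finset (Fin 6))) (f := Y.idx)
        (fun i _ => Finset.mem_univ _)]
      refine Finset.sum_congr rfl fun j _ => congrArg Finset.card ?_
      ext i; simp [Sx.tet]
    have hjle : ∀ j, (P ∩ Y.tet j).card ≤ 4 := fun j =>
      (Finset.card_le_card Finset.inter_subset_right).trans (Y.tet_card j).le
    obtain ⟨j₀, hj₀⟩ : ∃ j, (P ∩ Y.tet j).card = 4 := by
      by_contra hc
      push Not at hc
      have hb : ∀ j ∈ (Finset.univ : Finset (Fin 6)), (P ∩ Y.tet j).card ≤ if j = 0 then 0 else 2 := fun j _ => by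
        by_cases hj : j = 0
        · subst hj; simp [hd0]
        · obtain ⟨r, hr⟩ := hevj j
          have := hjle j
          have := hc j
          rw [if_neg hj]; omega
      have := Finset.sum_le_sum hb
      rw [hsum] at this
      simp [Fin.sum_univ_succ] at this
    have hj0sub : Y.tet j₀ ⊆ P := by
      have : P ∩ Y.tet j₀ = Y.tet j₀ := Finset.eq_of_subset_of_card_le Finset.inter_subset_right (by rw [Y.tet_card, hj₀])
      rw [← this]; exact Finset.inter_subset_left
    have hfull : ∀ j, (P ∩ Y.tet j).card = 4 → j = j₀ := fun j hj => by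
      by_contra hne'
      have hsub : Y.tet j ∪ Y.tet j₀ ⊆ P := by
        refine Finset.union_subset ?_ hj0sub
        have : P ∩ Y.tet j = Y.tet j := Finset.eq_of_subset_of_card_le Finset.inter_subset_right (by rw [Y.tet_card, hj])
        rw [← this]; exact Finset.inter_subset_left
      have hw := InC_weights (InC_symmDiff h.2.2 (Y.InC_pair hne'))
      rw [← hP, symmDiff_of_ge hsub, Finset.card_sdiff_of_subset hsub,
        Finset.card_union_of_disjoint (Y.tet_disjoint hne'), Y.tet_card, Y.tet_card, e] at hw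
      omega
    obtain ⟨X', hX'⟩ := exists_sx_swap Y j₀
    refine ⟨X', by rw [hX', Equiv.swap_apply_left]; exact hj0sub, fun j hj => ?_⟩
    rw [hX'] at hj ⊢
    generalize Equiv.swap 0 j₀ j = k at hj ⊢
    have hk : k = 0 := by
      by_contra hk0
      have hz : (P ∩ Y.tet k).card = 0 := by rw [Finset.disjoint_iff_inter_eq_empty.1 hj]; simp
      have hkj : k ≠ j₀ := fun hh => by rw [hh, hj₀] at hz; omega
      have hb : ∀ l ∈ (Finset.univ : Finset (Fin 6)), (P ∩ Y.tet l).card ≤
          if l = 0 ∨ l = k then 0 else if l = j₀ then 4 else 2 := fun l _ => by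
        by_cases h1 : l = 0 ∨ l = k
        · rw [if_pos h1]; rcases h1 with rfl | rfl
          · simp [hd0]
          · omega
        · rw [if_neg h1]
          by_cases h2 : l = j₀
          · rw [if_pos h2]; exact hjle l
          · rw [if_neg h2]
            obtain ⟨r, hr⟩ := hevj l
            have := hjle l
            have : (P ∩ Y.tet l).card ≠ 4 := fun hh => h2 (hfull l hh)
            omega
      have hj₀0 : j₀ ≠ 0 := fun hh => by rw [hh, hd0] at hj₀; simp at hj₀
      have := Finset.sum_le_sum hb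
      rw [hsum] at this
      have hdec : ∀ k j₀ : Fin 6, k ≠ 0 → k ≠ j₀ → j₀ ≠ 0 →
          (∑ l : Fin 6, if l = 0 ∨ l = k then 0 else if l = j₀ then 4 else 2) < 12 := by decide
      have := hdec k j₀ hk0 hkj hj₀0
      omega
    subst hk
    have : N ∩ Y.tet 0 = ∅ := Finset.eq_empty_of_forall_notMem fun i hi => by
      rw [Finset.mem_inter, hp, Finset.mem_singleton, hY] at hi
      have := hZ hi.2
      simp [hi.1] at this
    simp [this]
  · omega
  · omega

/-- every short singular vector is equivalent to a multiple of four -/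
theorem coEq_four {x : Vec} (hx : x ∈ leechLattice) (hn : sqNorm x ≤ 64) (h32 : (32 : ℤ) ∣ sqNorm x) :
    ∃ y, CoEq x y ∧ LatM 0 y ∧ pat 0 y = ∅ := by
  obtain ⟨y, hy, hy0⟩ := coEq_even hx
  have key : ∀ n, ∀ y, LatM 0 y → (pat 0 y).card = n → sqNorm y ≤ 64 → (32 : ℤ) ∣ sqNorm y →
      ∃ z, CoEq y z ∧ LatM 0 z ∧ pat 0 z = ∅ := by
    intro n
    induction n using Nat.strong_induction_on with
    | _ n ih =>
      intro y hy0 hc hn h32
      by_cases hne : pat 0 y = ∅
      · exact ⟨y, CoEq.refl y, hy0, hne⟩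
      obtain ⟨X, hX0, hXz⟩ := exists_step_sx hy0 hn h32 hne
      obtain ⟨z, hyz, hz0, hlt⟩ := pat_step hy0 X hX0 hXz
      have hyL : y ∈ leechLattice := (mem_leech_iff y).2 ⟨0, hy0⟩
      have hnz := hyz.norm hyL
      obtain ⟨w, hzw, hw0, hwe⟩ := ih _ (hc ▸ hlt) z hz0 rfl (by omega) (by omega)
      exact ⟨w, hyz.trans hyL hzw, hw0, hwe⟩
  have hnn := hy.norm hx
  obtain ⟨z, hyz, hz⟩ := key _ y hy0 rfl (by omega) (by omega)
  exact ⟨z, hy.trans hx hyz, hz⟩

end Cfsg.Agent.Leech
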